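import Mathlib
import Cfsg.Agent.StdSpSix.TR

/-!
# Semidirect growth

`t` is an involution. A subgroup `N` normalised by `t` is *good* if every `w ∈ N` inverted by `t` is a commutator
`[t, c]`, `c ∈ N`, i.e. if every involution of `t N` is conjugate to `t` under `N`. Semidirect products of good
subgroups are good. If `N` is good and `N ⟨t⟩` contains a Sylow 2-subgroup of `C_G(t)` then `G` has a subgroup of
index 2 not containing `t`.
-/

set_option autoImplicit false

namespace Cfsg.Agent.OddHalf.SpTwoN.SemiGrow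

variable {G : Type*} [Group G]

/-- Every element of `N` inverted by `t` is a commutator with `t`. -/
structure Good (t : G) (N : Subgroup G) : Prop where
  conj : ∀ w ∈ N, t * w * t ∈ N
  good : ∀ w ∈ N, t * w * t = w⁻¹ → ∃ c ∈ N, w = t * c * t * c⁻¹

variable {t : G}

theorem t_inv (tt : t * t = 1) : t⁻¹ = t := inv_eq_of_mul_eq_one_left tt

theorem conj_mul (tt : t * t = 1) (a b : G) : t * (a * b) * t = (t * a * t) * (t * b * t) := by
  calc t * (a * b) * t = t * a * 1 * b * t := by group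
    _ = t * a * (t * t) * b * t := by rw [tt]
    _ = (t * a * t) * (t * b * t) := by group

theorem conj_inv (tt : t * t = 1) (a : G) : t * a⁻¹ * t = (t * a * t)⁻¹ := by
  rw [mul_inv_rev, mul_inv_rev, t_inv tt, mul_assoc]

theorem conj_conj (tt : t * t = 1) (a : G) : t * (t * a * t) * t = a := by
  calc t * (t * a * t) * t = (t * t) * a * (t * t) := by group
    _ = a := by rw [tt, one_mul, mul_one]

theorem Good.bot (tt : t * t = 1) : Good t (⊥ : Subgroup G) where
  conj w hw := by
    rw [Subgroup.mem_bot.1 hw, mul_one, tt]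
    exact one_mem _
  good w hw _ := by
    refine ⟨1, one_mem _, ?_⟩
    rw [Subgroup.mem_bot.1 hw, mul_one, tt, one_mul, inv_one]

/-- The elements of `N P`, if `P` normalises `N`. -/
theorem mem_sup {N P : Subgroup G} (hn : ∀ p ∈ P, ∀ n ∈ N, p * n * p⁻¹ ∈ N) {w : G} (hw : w ∈ N ⊔ P) :
    ∃ n ∈ N, ∃ p ∈ P, w = n * p := by
  let S : Subgroup G :=
    { carrier := {w | ∃ n ∈ N, ∃ p ∈ P, w = n * p}
      one_mem' := ⟨1, one_mem _, 1, one_mem _, (mul_one 1).symm⟩
      mul_mem' := by
        rintro _ _ ⟨u, hu, v, hv, rfl⟩ ⟨u', hu', v', hv', rfl⟩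
        exact ⟨u * (v * u' * v⁻¹), mul_mem hu (hn v hv u' hu'), v * v', mul_mem hv hv', by group⟩
      inv_mem' := by
        rintro _ ⟨u, hu, v, hv, rfl⟩
        exact ⟨v⁻¹ * u⁻¹ * v⁻¹⁻¹, hn v⁻¹ (inv_mem hv) _ (inv_mem hu), v⁻¹, inv_mem hv, by group⟩ }
  have hS : N ⊔ P ≤ S := sup_le (fun u hu => ⟨u, hu, 1, one_mem _, (mul_one u).symm⟩)
    (fun v hv => ⟨1, one_mem _, v, hv, (one_mul v).symm⟩)
  exact hS hw

theorem Good.sup (tt : t * t = 1) {N P : Subgroup G} (hN : Good t N) (hP : Good t P)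
    (hn : ∀ p ∈ P, ∀ n ∈ N, p * n * p⁻¹ ∈ N) (hd : ∀ g ∈ N, g ∈ P → g = 1) : Good t (N ⊔ P) where
  conj w hw := by
    obtain ⟨n, hn', p, hp, rfl⟩ := mem_sup hn hw
    rw [conj_mul tt]
    exact mul_mem (Subgroup.mem_sup_left (hN.conj n hn')) (Subgroup.mem_sup_right (hP.conj p hp))
  good w hw hf := by
    obtain ⟨u, hu, v, hv, rfl⟩ := mem_sup hn hw
    have hu' := hN.conj u hu
    have hv' := hP.conj v hv
    rw [conj_mul tt, mul_inv_rev] at hf
    have e1 : (t * v * t) * v = (t * u * t)⁻¹ * (v⁻¹ * u⁻¹ * v⁻¹⁻¹) := by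
      calc (t * v * t) * v = (t * u * t)⁻¹ * ((t * u * t) * (t * v * t)) * v := by group
        _ = (t * u * t)⁻¹ * (v⁻¹ * u⁻¹ * v⁻¹⁻¹) := by rw [hf]; group
    have e2 : (t * v * t) * v = 1 := hd _ (by
      rw [e1]
      exact mul_mem (inv_mem hu') (hn _ (inv_mem hv) _ (inv_mem hu))) (mul_mem hv' hv)
    have e3 : t * v * t = v⁻¹ := eq_inv_of_mul_eq_one_left e2
    obtain ⟨c, hc, hvc⟩ := hP.good v hv e3
    have hc' := hP.conj c hc
    set w' := (t * c * t)⁻¹ * u * (t * c * t) with hw'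
    have hw'm : w' ∈ N := by
      have := hn _ (inv_mem hc') u hu
      rwa [inv_inv] at this
    have e5 : u * v = (t * c * t) * w' * c⁻¹ := by
      rw [hw', hvc]
      group
    have e6 : t * w' * t = w'⁻¹ := by
      have e7 : w' = (t * c * t)⁻¹ * (u * v) * c := by
        rw [e5]
        group
      rw [e7, conj_mul tt, conj_mul tt, conj_inv tt, conj_conj tt, conj_mul tt, hf]
      group
    obtain ⟨d, hd', hwd⟩ := hN.good w' hw'm e6
    refine ⟨c * d, mul_mem (Subgroup.mem_sup_right hc) (Subgroup.mem_sup_left hd'), ?_⟩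
    rw [e5, hwd, conj_mul tt]
    group

/-- Every involution of `t N` is conjugate to `t`. -/
theorem Good.exists_conj (tt : t * t = 1) {N : Subgroup G} (h : Good t N) {w : G} (hw : w ∈ N)
    (hinv : (t * w) * (t * w) = 1) : ∃ c ∈ N, t * w = c * t * c⁻¹ := by
  have h1 : t * w * t = w⁻¹ := by
    rw [eq_inv_iff_mul_eq_one, ← hinv]
    group
  obtain ⟨c, hc, hwc⟩ := h.good w hw h1
  refine ⟨c, hc, ?_⟩
  nth_rewrite 1 [hwc]
  calc t * (t * c * t * c⁻¹) = (t * t) * c * t * c⁻¹ := by group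
    _ = c * t * c⁻¹ := by rw [tt, one_mul]

theorem Good.not_mem (tt : t * t = 1) (t1 : t ≠ 1) {N : Subgroup G} (h : Good t N) : t ∉ N := by
  intro ht
  obtain ⟨c, hc, hwc⟩ := h.good t ht (by rw [tt, one_mul, t_inv tt])
  apply t1
  have h1 : c * t * c⁻¹ = 1 := by
    have : t * (c * t * c⁻¹) = t * 1 := by rw [mul_one]; nth_rewrite 3 [hwc]; group
    exact mul_left_cancel this
  calc t = c⁻¹ * (c * t * c⁻¹) * c := by group
    _ = 1 := by rw [h1]; group

/-- The group `N ⟨t⟩`. -/
def Good.H (tt : t * t = 1) {N : Subgroup G} (h : Good t N) : Subgroup G where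
  carrier := {g | g ∈ N ∨ t * g ∈ N}
  one_mem' := Or.inl (one_mem _)
  mul_mem' := by
    rintro a b (ha | ha) (hb | hb)
    · exact Or.inl (mul_mem ha hb)
    · right
      have h1 := mul_mem (h.conj _ ha) hb
      have h2 : t * a * t * (t * b) = t * (a * b) := by
        calc t * a * t * (t * b) = t * a * (t * t) * b := by group
          _ = t * (a * b) := by rw [tt]; group
      rwa [h2] at h1
    · right
      have h1 := mul_mem ha hb
      rwa [mul_assoc] at h1
    · left
      have h1 := mul_mem (h.conj _ ha) hb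
      have h2 : t * (t * a) * t * (t * b) = a * b := by
        calc t * (t * a) * t * (t * b) = (t * t) * a * (t * t) * b := by group
          _ = a * b := by rw [tt]; group
      rwa [h2] at h1
  inv_mem' := by
    rintro a (ha | ha)
    · exact Or.inl (inv_mem ha)
    · right
      have h1 := h.conj _ (inv_mem ha)
      rw [mul_inv_rev, t_inv tt] at h1
      have h2 : t * (a⁻¹ * t) * t = t * a⁻¹ := by
        calc t * (a⁻¹ * t) * t = t * a⁻¹ * (t * t) := by group
          _ = t * a⁻¹ := by rw [tt, mul_one]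
      rwa [h2] at h1

theorem Good.t_mem_H (tt : t * t = 1) {N : Subgroup G} (h : Good t N) : t ∈ h.H tt :=
  Or.inr (by rw [tt]; exact one_mem _)

open Classical in
/-- The sign with kernel `N`. -/
noncomputable def Good.sign (tt : t * t = 1) {N : Subgroup G} (h : Good t N) (ht : t ∉ N) : h.H tt →* ℤˣ where
  toFun g := if (g : G) ∈ N then 1 else -1
  map_one' := if_pos (one_mem _)
  map_mul' := by
    rintro ⟨a, ha⟩ ⟨b, hb⟩
    have key : ∀ g ∈ h.H tt, g ∉ N → t * g ∈ N := fun g hg hn => hg.resolve_left hn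
    simp only [MulMemClass.mk_mul_mk]
    by_cases h1 : a ∈ N <;> by_cases h2 : b ∈ N
    · rw [if_pos h1, if_pos h2, if_pos (mul_mem h1 h2), one_mul]
    · have h3 : a * b ∉ N := fun hn => h2 (by
        have := mul_mem (inv_mem h1) hn
        rwa [inv_mul_cancel_left] at this)
      rw [if_pos h1, if_neg h2, if_neg h3, one_mul]
    · have h3 : a * b ∉ N := fun hn => h1 (by
        have := mul_mem hn (inv_mem h2)
        rwa [mul_inv_cancel_right] at this)
      rw [if_neg h1, if_pos h2, if_neg h3, mul_one]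
    · have h4 := key a ha h1
      have h5 := key b hb h2
      have h6 := mul_mem (h.conj _ h4) h5
      have h7 : t * (t * a) * t * (t * b) = a * b := by
        calc t * (t * a) * t * (t * b) = (t * t) * a * (t * t) * b := by group
          _ = a * b := by rw [tt]; group
      rw [h7] at h6
      rw [if_neg h1, if_neg h2, if_pos h6]
      rfl

theorem Good.sign_apply (tt : t * t = 1) {N : Subgroup G} (h : Good t N) (ht : t ∉ N) (g : h.H tt) :
    h.sign tt ht g = -1 ↔ (g : G) ∉ N := by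
  classical
  show (if (g : G) ∈ N then (1 : ℤˣ) else -1) = -1 ↔ _
  by_cases h1 : (g : G) ∈ N
  · rw [if_pos h1]
    exact ⟨fun h => absurd h (by decide), fun h => absurd h1 h⟩
  · rw [if_neg h1]
    exact ⟨fun _ => h1, fun _ => rfl⟩

/-- **Growth, semidirect form.** -/
theorem Good.exists_hom [Finite G] (tt : t * t = 1) (t1 : t ≠ 1) {N : Subgroup G} (h : Good t N)
    (P : Sylow 2 (Subgroup.centralizer ({t} : Set G)))
    (hP : ∀ g : Subgroup.centralizer ({t} : Set G), g ∈ P → (g : G) ∈ N ∨ t * (g : G) ∈ N) :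
    ∃ m : G →* ℤˣ, m t = -1 := by
  have ht := h.not_mem tt t1
  refine Cfsg.Agent.StdSpSix.TR.exists_hom_of_class (h.sign tt ht) tt (h.t_mem_H tt)
    ((h.sign_apply tt ht _).2 ht) ?_ ?_
  · intro g hg hs
    rw [h.sign_apply] at hs
    have h1 : t * (g⁻¹ * t * g) ∈ N := hg.resolve_left hs
    have h2 : t * (t * (g⁻¹ * t * g)) = g⁻¹ * t * g := by rw [← mul_assoc, tt, one_mul]
    have h3 : (g⁻¹ * t * g) * (g⁻¹ * t * g) = 1 := by
      calc (g⁻¹ * t * g) * (g⁻¹ * t * g) = g⁻¹ * (t * t) * g := by group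
        _ = 1 := by rw [tt]; group
    obtain ⟨c, hc, hcc⟩ := h.exists_conj tt h1 (by rw [h2]; exact h3)
    rw [h2] at hcc
    exact ⟨c, Or.inl hc, hcc⟩
  · have hle : (P : Subgroup (Subgroup.centralizer ({t} : Set G))) ≤
        (h.H tt).subgroupOf (Subgroup.centralizer ({t} : Set G)) := by
      intro g hg
      rw [Subgroup.mem_subgroupOf]
      exact hP g hg
    have h1 := Subgroup.index_dvd_of_le hle
    rw [Subgroup.relIndex]
    have : Fact (Nat.Prime 2) := ⟨Nat.prime_two⟩
    have h2 : ¬ 2 ∣ (P : Subgroup (Subgroup.centralizer ({t} : Set G))).index := P.not_dvd_index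
    rw [← Nat.not_even_iff_odd, even_iff_two_dvd]
    exact fun h3 => h2 (h3.trans h1)

end Cfsg.Agent.OddHalf.SpTwoN.SemiGrow
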