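import Cfsg.Agent.OddHalf.SpTwoN.Defs

/-!
# Short root elements of `Sp₂ₙ(2)` in terms of transvections

`sg D u v = τ u * τ v * τ (u + v)` (`u ⊥ v`) is the short root element of the isotropic line `⟨u, v⟩`:
`x ↦ x + (x,v) u + (x,u) v`.
-/

set_option autoImplicit false

namespace Cfsg.Agent.OddHalf.SpTwoN.Words

open Cfsg.Agent.StandardComponent.SpTwo

variable {X V : Type*} [Group X] [AddCommGroup V] [Module (ZMod 2) V] (D : SpData X V)

/-- the short root element -/
def sg (u v : V) : X := D.τ u * D.τ v * D.τ (u + v)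

theorem ρ_sg {u v : V} (h : D.B u v = 0) (x : V) : D.ρ (sg D u v) x = x + (D.B x v • u + D.B x u • v) := by
  have h' : D.B v u = 0 := by rw [D.symm, h]
  unfold sg
  simp only [D.ρ_mul, D.hτ, map_add, map_smul, LinearMap.add_apply, LinearMap.smul_apply, D.alt, smul_eq_mul,
    h, h', mul_zero, add_zero]
  match_scalars <;> (generalize D.B x u = a; generalize D.B x v = b; revert a b; decide)

theorem sg_zero_left (v : V) : sg D 0 v = 1 := by
  unfold sg
  rw [D.τ_zero, one_mul, zero_add, D.τ_sq]

theorem sg_zero_right (v : V) : sg D v 0 = 1 := by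
  unfold sg
  rw [D.τ_zero, mul_one, add_zero, D.τ_sq]

theorem sg_self (v : V) : sg D v v = 1 := by
  unfold sg
  rw [aa, D.τ_zero, mul_one, D.τ_sq]

theorem sg_comm {u v : V} (h : D.B u v = 0) : sg D u v = sg D v u := by
  unfold sg
  rw [D.τ_commute h, add_comm u v]

theorem sg_add {u v : V} (h : D.B u v = 0) : sg D u (u + v) = sg D u v := by
  have h2 : D.B u (u + v) = 0 := by rw [map_add, D.alt, h, add_zero]
  have h3 : D.B v (u + v) = 0 := by rw [map_add, D.alt, D.symm, h, add_zero]
  unfold sg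
  rw [aac, mul_assoc, mul_assoc, D.τ_commute h3]

theorem sg_sq {u v : V} (h : D.B u v = 0) : sg D u v * sg D u v = 1 := by
  apply D.ext_iff
  intro x
  have h' : D.B v u = 0 := by rw [D.symm, h]
  rw [D.ρ_mul, D.ρ_one, ρ_sg D h, ρ_sg D h]
  simp only [map_add, map_smul, LinearMap.add_apply, LinearMap.smul_apply, D.alt, smul_eq_mul, h, h', mul_zero,
    add_zero]
  match_scalars <;> (generalize D.B x u = a; generalize D.B x v = b; revert a b; decide)

theorem sg_inv {u v : V} (h : D.B u v = 0) : (sg D u v)⁻¹ = sg D u v := inv_eq_of_mul_eq_one_right (sg_sq D h)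

theorem conj_sg (g : X) (u v : V) : g * sg D u v * g⁻¹ = sg D (D.ρ g u) (D.ρ g v) := by
  unfold sg
  rw [← map_add, ← D.conj_τ, ← D.conj_τ, ← D.conj_τ]
  group

/-- the group of the point `v` -/
theorem sg_mul {v u w : V} (h : D.B v u = 0) (h1 : D.B v w = 0) :
    sg D v u * sg D v w = D.τ (D.B u w • v) * sg D v (u + w) := by
  apply D.ext_iff
  intro x
  have h' : D.B u v = 0 := by rw [D.symm, h]
  have h1' : D.B w v = 0 := by rw [D.symm, h1]
  have h2 : D.B v (u + w) = 0 := by rw [map_add, h, h1, add_zero]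
  rw [D.ρ_mul, D.ρ_mul, ρ_sg D h, ρ_sg D h1, ρ_sg D h2, D.hτ]
  have hs := D.symm w u
  simp only [map_add, map_smul, LinearMap.add_apply, LinearMap.smul_apply, D.alt, smul_eq_mul, h, h', h1',
    mul_zero, add_zero, zero_add, hs]
  match_scalars <;> (generalize D.B x u = a; generalize D.B x v = b; generalize D.B x w = c; generalize D.B u w = d; revert a b c d; decide)

theorem sg_mul_perp {v u w : V} (h : D.B v u = 0) (h1 : D.B v w = 0) (h2 : D.B u w = 0) :
    sg D v u * sg D v w = sg D v (u + w) := by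
  rw [sg_mul D h h1, h2, zero_smul, D.τ_zero, one_mul]

theorem commute_τ_sg {u v z : V} (h1 : D.B z u = 0) (h2 : D.B z v = 0) :
    Commute (D.τ z) (sg D u v) := by
  unfold sg
  have h3 : D.B z (u + v) = 0 := by rw [map_add, h1, h2, add_zero]
  exact (Commute.mul_right (Commute.mul_right (D.τ_commute h1) (D.τ_commute h2)) (D.τ_commute h3))

theorem commute_sg_sg {v u w : V} (h : D.B v u = 0) (h1 : D.B v w = 0) :
    Commute (sg D v u) (sg D v w) := by
  change sg D v u * sg D v w = sg D v w * sg D v u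
  rw [sg_mul D h h1, sg_mul D h1 h, D.symm w u, add_comm w u]

theorem sg_eq_one {u v : V} (h : D.B u v = 0) (h1 : sg D u v = 1) : u = 0 ∨ v = 0 ∨ u = v := by
  by_contra hcon
  push Not at hcon
  obtain ⟨hu, hv, huv⟩ := hcon
  obtain ⟨x, hx1, hx2⟩ := D.exists_sep hu huv
  have h2 := ρ_sg D h x
  rw [h1, D.ρ_one, hx1, hx2, zero_smul, zero_add, one_smul] at h2
  apply hv
  have := add_left_cancel ((add_zero x).trans h2)
  exact this.symm

/-- a transvection is not a short root element -/
theorem τ_ne_sg {u v w : V} (hw : w ≠ 0) (h : D.B u v = 0) : D.τ w ≠ sg D u v := by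
  intro h1
  -- the transvection moves a vector not perpendicular to its image
  have : ∃ x, D.B x w = 1 := by
    by_contra hn
    push Not at hn
    apply hw
    apply D.nondeg
    intro x
    rw [D.symm]
    rcases z2 (D.B x w) with h | h
    · exact h
    · exact absurd h (hn x)
  obtain ⟨x, hx⟩ := this
  have h2 := D.hτ w x
  rw [h1, ρ_sg D h, hx, one_smul] at h2
  have h3 := congrArg (D.B x) (add_left_cancel h2)
  rw [map_add, map_smul, map_smul, hx, smul_eq_mul, smul_eq_mul] at h3
  generalize D.B x u = a at h3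
  generalize D.B x v = b at h3
  revert a b
  decide

/-- Separation: a vector outside `⟨v, w⟩`. -/
theorem exists_func [Finite V] (f : V →ₗ[ZMod 2] ZMod 2) : ∃ d, ∀ x, D.B x d = f x := by
  have : FiniteDimensional (ZMod 2) V := Module.Finite.of_finite
  have hinj : Function.Injective (D.B.flip : V →ₗ[ZMod 2] V →ₗ[ZMod 2] ZMod 2) := by
    rw [← LinearMap.ker_eq_bot, eq_bot_iff]
    intro d hd
    rw [LinearMap.mem_ker] at hd
    apply D.nondeg
    intro w
    rw [D.symm]
    exact LinearMap.congr_fun hd w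
  have hsurj : Function.Surjective (D.B.flip : V →ₗ[ZMod 2] Module.Dual (ZMod 2) V) :=
    (LinearMap.injective_iff_surjective_of_finrank_eq_finrank (Subspace.dual_finrank_eq).symm).1 hinj
  obtain ⟨d, hd⟩ := hsurj f
  exact ⟨d, fun x => LinearMap.congr_fun hd x⟩

/-- a functional vanishing on a subspace and not at a vector outside of it -/
theorem exists_perp [Finite V] (U : Submodule (ZMod 2) V) {x : V} (hx : x ∉ U) :
    ∃ f, (∀ u ∈ U, D.B u f = 0) ∧ D.B x f = 1 := by
  obtain ⟨g, hg, hgU⟩ := Submodule.exists_dual_map_eq_bot_of_notMem hx inferInstance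
  obtain ⟨f, hf⟩ := exists_func D g
  refine ⟨f, fun u hu => ?_, ?_⟩
  · rw [hf]
    have : g u ∈ U.map g := ⟨u, hu, rfl⟩
    rw [hgU] at this
    exact this
  · rw [hf]
    rcases z2 (g x) with h | h
    · exact absurd h hg
    · exact h

end Cfsg.Agent.OddHalf.SpTwoN.Words
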