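import Cfsg.Agent.OddHalf.SpTwoN.CCEnd

/-!
# The case (C, C): conclusion
-/

set_option autoImplicit false

namespace Cfsg.Agent.OddHalf.SpTwoN

open Subgroup
open Cfsg.Agent.StandardComponent.SpTwo
open Cfsg.Agent.OddHalf.SpTwoN.SemiGrow

variable {G V : Type*} [Group G] [AddCommGroup V] [Module (ZMod 2) V]

/-- The hyperplane `u^⊥` of `W`. -/
def perpSub (C : Ctx G V) (W : Submodule (ZMod 2) V) (u f : V) : Submodule (ZMod 2) V where
  carrier := {x | x ∈ W ∧ C.S.B u x = 0 ∧ C.S.B f x = 0}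
  zero_mem' := ⟨W.zero_mem, C.B_zero_right u, C.B_zero_right f⟩
  add_mem' := by
    rintro a b ⟨h1, h2, h3⟩ ⟨h4, h5, h6⟩
    exact ⟨W.add_mem h1 h4, by rw [C.B_add_right, h2, h5, add_zero], by rw [C.B_add_right, h3, h6, add_zero]⟩
  smul_mem' := by
    rintro c a ⟨h1, h2, h3⟩
    exact ⟨W.smul_mem c h1, by rw [C.B_smul_right, h2, mul_zero], by rw [C.B_smul_right, h3, mul_zero]⟩

theorem mem_perpSub {C : Ctx G V} {W : Submodule (ZMod 2) V} {u f x : V} :
    x ∈ perpSub C W u f ↔ x ∈ W ∧ C.S.B u x = 0 ∧ C.S.B f x = 0 := Iff.rfl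

theorem Perp.perpSub {C : Ctx G V} {W : Submodule (ZMod 2) V} {E : Set V} (P : Perp C W E) {u f : V}
    (huW : u ∈ W) (hf : f ∈ W) (hfu : C.S.B f u = 1) : Perp C (perpSub C W u f) (E ∪ {u, f}) where
  mem_iff x := by
    rw [mem_perpSub, P.mem_iff]
    constructor
    · rintro ⟨h1, h2, h3⟩ z (hz | hz | hz)
      · exact h1 z hz
      · rw [hz]; exact h2
      · rw [Set.mem_singleton_iff] at hz
        rw [hz]; exact h3
    · intro h
      exact ⟨fun z hz => h z (Or.inl hz), h u (Or.inr (Or.inl rfl)), h f (Or.inr (Or.inr rfl))⟩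
  nondeg x hx h := by
    obtain ⟨h1, h2, h3⟩ := hx
    apply P.nondeg x h1
    intro w hw
    have huf : C.S.B u f = 1 := by rw [C.symm]; exact hfu
    have h4 : w + C.S.B f w • u + C.S.B u w • f ∈ SpTwoN.perpSub C W u f := by
      refine ⟨W.add_mem (W.add_mem hw (W.smul_mem _ huW)) (W.smul_mem _ hf), ?_, ?_⟩
      · rw [C.B_add_right, C.B_add_right, C.B_smul_right, C.B_smul_right, C.B_self, huf]
        rcases z2 (C.S.B u w) with h | h
        · rw [h]; simp
        · rw [h]; simp; decide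
      · rw [C.B_add_right, C.B_add_right, C.B_smul_right, C.B_smul_right, C.B_self, hfu]
        rcases z2 (C.S.B f w) with h | h
        · rw [h]; simp
        · rw [h]; simp; decide
    have h5 := h _ h4
    rw [C.B_add_right, C.B_add_right, C.B_smul_right, C.B_smul_right, C.symm x u, h2, C.symm x f, h3, mul_zero,
      mul_zero, add_zero, add_zero] at h5
    exact h5

theorem perpSub_card [Finite V] {C : Ctx G V} {W : Submodule (ZMod 2) V} {u f : V} (huW : u ∈ W)
    (hfu : C.S.B f u = 1) : Nat.card (perpSub C W u f) < Nat.card W := by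
  have hle : perpSub C W u f < W := by
    refine lt_of_le_of_ne (fun x hx => hx.1) (fun h => ?_)
    have h1 : u ∈ perpSub C W u f := by rw [h]; exact huW
    have h2 := h1.2.2
    rw [hfu] at h2
    exact one_ne_zero h2
  have h1 := SpData.two_mul_card_le hle
  have h2 : 0 < Nat.card (perpSub C W u f) := Nat.card_pos
  omega

/-- A 2-group of isometries fixing `E` has a nonzero fixed vector on `W`. -/
theorem exists_fixed [Finite V] {C : Ctx G V} {W : Submodule (ZMod 2) V} {E : Set V} (P : Perp C W E)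
    (hW : W ≠ ⊥) (S : Subgroup C.L) (hS : IsPGroup 2 S) (hSE : ∀ k ∈ S, ∀ z ∈ E, C.S.ρ k z = z) :
    ∃ u ∈ W, u ≠ 0 ∧ ∀ k ∈ S, C.S.ρ k u = u := by
  have : Fact (Nat.Prime 2) := ⟨Nat.prime_two⟩
  let act : MulAction S W :=
    { smul := fun k w => ⟨C.S.ρ (k : C.L) w, P.rho_mem (hSE k k.2) w.2⟩
      one_smul := fun w => Subtype.ext (C.S.ρ_one (w : V))
      mul_smul := fun a b w => Subtype.ext (C.S.ρ_mul (a : C.L) (b : C.L) (w : V)) }
  have h2 : 2 ∣ Nat.card W := by
    obtain ⟨w, hw, hw0⟩ := (Submodule.ne_bot_iff W).1 hW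
    have h3 : addOrderOf (⟨w, hw⟩ : W) = 2 := by
      apply addOrderOf_eq_prime
      · apply Subtype.ext
        show (2 : ℕ) • w = 0
        rw [two_smul, aa]
      · intro h
        exact hw0 (congrArg Subtype.val h)
    have h4 : addOrderOf (⟨w, hw⟩ : W) ∣ Nat.card W := addOrderOf_dvd_natCard _
    rw [h3] at h4
    exact h4
  have h0 : (0 : W) ∈ MulAction.fixedPoints S W := by
    intro k
    apply Subtype.ext
    exact map_zero (C.S.ρ (k : C.L))
  obtain ⟨b, hb, hne⟩ := hS.exists_fixed_point_of_prime_dvd_card_of_fixed_point W h2 h0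
  refine ⟨b, b.2, fun h => hne (Subtype.ext h.symm), fun k hk => ?_⟩
  exact congrArg Subtype.val (hb ⟨k, hk⟩)

/-- The stabiliser of two vectors. -/
def stab2 (C : Ctx G V) (u f : V) : Subgroup C.L where
  carrier := {k | C.S.ρ k u = u ∧ C.S.ρ k f = f}
  one_mem' := ⟨C.S.ρ_one u, C.S.ρ_one f⟩
  mul_mem' := by
    rintro a b ⟨h1, h2⟩ ⟨h3, h4⟩
    exact ⟨by rw [C.S.ρ_mul, h3, h1], by rw [C.S.ρ_mul, h4, h2]⟩
  inv_mem' := by
    rintro a ⟨h1, h2⟩
    refine ⟨?_, ?_⟩
    · nth_rewrite 1 [← h1]; exact C.S.ρ_inv_apply a u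
    · nth_rewrite 1 [← h2]; exact C.S.ρ_inv_apply a f

namespace YData

variable {C : Ctx G V} {y : V → G} (Y : YData C y)

/-- `QL` is a 2-group. -/
theorem QL_pgroup (Y : YData C y) {W : Submodule (ZMod 2) V} {u : V} (hu : u ≠ 0) : IsPGroup 2 (QL C W u) := by
  rintro ⟨k, hk⟩
  refine ⟨1, ?_⟩
  rw [pow_one]
  apply Subtype.ext
  apply Subtype.ext
  have h := Y.RR_sq hu (QL_le (y := y) hk)
  show ((k ^ 2 : C.L) : G) = 1
  rw [pow_two]
  exact h

/-- A subgroup stabilising `E`, `W` and `u` normalises `QL`. -/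
theorem QL_norm {W : Submodule (ZMod 2) V} {E : Set V} (P : Perp C W E) {u : V} {k : C.L}
    (hk : ∀ z ∈ E, C.S.ρ k z = z) (hku : C.S.ρ k u = u) {q : C.L} (hq : q ∈ QL C W u) :
    k * q * k⁻¹ ∈ QL C W u := by
  have hle : QL C W u ≤ (QL C W u).comap (MulAut.conj k).toMonoidHom := by
    refine (closure_le _).2 ?_
    rintro g ⟨x, hxW, hx, rfl⟩
    show k * C.qL u x * k⁻¹ ∈ QL C W u
    have h1 : k * C.qL u x * k⁻¹ = C.qL u (C.S.ρ k x) := by
      apply Subtype.ext
      have := C.q_conj k u x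
      rw [hku] at this
      exact this
    rw [h1]
    refine subset_closure ⟨_, P.rho_mem hk hxW, ?_, rfl⟩
    have := C.S.inv k u x
    rw [hku] at this
    rw [this, hx]
  exact hle hq

theorem qL_fixE {W : Submodule (ZMod 2) V} {E : Set V} (P : Perp C W E) (Y : YData C y) {u : V} (huW : u ∈ W)
    {q : C.L} (hq : q ∈ QL C W u) : ∀ z ∈ E, C.S.ρ q z = z := by
  intro z hz
  exact C.fix_of_comm (MM_comm_b Y (fun x hx => P.B_eq hx hz) (RR_le_MM huW (QL_le (y := y) hq)))

include Y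

/-- The induction. -/
theorem exists_good [Finite V] (n : ℕ) : ∀ (W : Submodule (ZMod 2) V) (E : Set V), Perp C W E → Nat.card W ≤ n →
    ∀ S : Subgroup C.L, IsPGroup 2 S → (∀ k ∈ S, ∀ z ∈ E, C.S.ρ k z = z) →
    ∃ U : Subgroup G, Good C.t U ∧ S.map C.L.subtype ≤ U ∧ U ≤ MM C y W := by
  induction n with
  | zero =>
    intro W E _ hn
    have : 0 < Nat.card W := Nat.card_pos
    omega
  | succ n ih =>
    intro W E P hn S hS hSE
    by_cases hW : W = ⊥
    · refine ⟨⊥, Good.bot C.tt, ?_, bot_le⟩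
      rintro _ ⟨k, hk, rfl⟩
      rw [Subgroup.mem_bot]
      have : k = 1 := by
        apply C.S.ext_iff
        intro v
        rw [C.S.ρ_one]
        have h1 := P.add_mem (hSE k hk) v
        rw [hW, Submodule.mem_bot] at h1
        exact eq_of_add _ _ h1
      rw [this]; rfl
    · obtain ⟨u, huW, hu, hSu⟩ := exists_fixed P hW S hS hSE
      obtain ⟨f, hf, hfu⟩ := P.exists_one huW hu
      have P' := P.perpSub huW hf hfu
      have hcard := perpSub_card (C := C) (W := W) (f := f) huW hfu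
      -- the 2-group `QL ⊔ S`
      have hQS : IsPGroup 2 (QL C W u ⊔ S : Subgroup C.L) := by
        have hn : QL C W u ≤ normalizer (QL C W u : Set C.L) := le_normalizer
        have hSn : S ≤ normalizer (QL C W u : Set C.L) := by
          intro k hk
          rw [mem_normalizer_iff]
          intro q
          constructor
          · intro hq
            exact QL_norm P (hSE k hk) (hSu k hk) hq
          · intro hq
            have := QL_norm P (hSE k⁻¹ (S.inv_mem hk)) (hSu k⁻¹ (S.inv_mem hk)) hq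
            have e : k⁻¹ * (k * q * k⁻¹) * k⁻¹⁻¹ = q := by group
            rwa [e] at this
        exact (Y.QL_pgroup hu).to_sup_of_normal_left' hS hSn
      have hQSE : ∀ k ∈ (QL C W u ⊔ S : Subgroup C.L), ∀ z ∈ E, C.S.ρ k z = z := by
        intro k hk z hz
        have hle : (QL C W u ⊔ S : Subgroup C.L) ≤ stab2 C z z := by
          refine sup_le ?_ ?_
          · intro q hq
            have := qL_fixE P Y huW hq z hz
            exact ⟨this, this⟩
          · intro q hq
            have := hSE q hq z hz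
            exact ⟨this, this⟩
        exact (hle hk).1
      obtain ⟨U, hU, hSU, hUM⟩ := ih (perpSub C W u f) (E ∪ {u, f}) P' (by omega)
        ((QL C W u ⊔ S) ⊓ stab2 C u f) (hQS.to_le inf_le_left) (by
          rintro k ⟨hk1, hk2⟩ z (hz | hz | hz)
          · exact hQSE k hk1 z hz
          · rw [hz]; exact hk2.1
          · rw [Set.mem_singleton_iff] at hz
            rw [hz]; exact hk2.2)
      have hsub : ∀ x ∈ perpSub C W u f, x ∈ W ∧ C.S.B u x = 0 := fun x hx => ⟨hx.1, hx.2.1⟩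
      refine ⟨RR C y W u ⊔ U, ?_, ?_, ?_⟩
      · apply (Y.RR_good P hu huW).sup C.tt hU
        · intro p hp g hg
          exact Y.MM_norm hu hsub (hUM hp) hg
        · intro g hg hgU
          exact Y.RR_inf_MM P hu huW hf hfu (W' := perpSub C W u f) (fun x hx => hx.2.2) hg (hUM hgU)
      · rintro _ ⟨k, hk, rfl⟩
        have hkE := hSE k hk
        have hku := hSu k hk
        have hux0 : C.S.B u (C.S.ρ k f + f) = 0 := by
          rw [C.B_add_right]
          have := C.S.inv k u f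
          rw [hku] at this
          rw [this, ← two_mul, show (2 : ZMod 2) = 0 from rfl, zero_mul]
        obtain ⟨q, hq, hqf⟩ := exists_QL (C := C) hfu (P.add_mem hkE f) hux0
        have hqf' : C.S.ρ q f = C.S.ρ k f := by
          rw [hqf, add_comm (C.S.ρ k f), ← add_assoc, aa, zero_add]
        have hqu : C.S.ρ q u = u := C.fix_of_comm (Y.RR_comm hu (QL_le hq) (b_mem_RR u))
        have hmem : q⁻¹ * k ∈ (QL C W u ⊔ S) ⊓ stab2 C u f := by
          refine ⟨Subgroup.mul_mem _ (Subgroup.inv_mem _ (Subgroup.mem_sup_left hq)) (Subgroup.mem_sup_right hk),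
            ?_, ?_⟩
          · have h1 : C.S.ρ q⁻¹ u = u := by
              nth_rewrite 1 [← hqu]; exact C.S.ρ_inv_apply q u
            rw [C.S.ρ_mul, hku, h1]
          · rw [C.S.ρ_mul, ← hqf', C.S.ρ_inv_apply]
        have h1 : ((q⁻¹ * k : C.L) : G) ∈ U := hSU ⟨_, hmem, rfl⟩
        have h2 : (k : G) = (q : G) * ((q⁻¹ * k : C.L) : G) := by
          rw [Subgroup.coe_mul, Subgroup.coe_inv, mul_inv_cancel_left]
        show (k : G) ∈ RR C y W u ⊔ U
        rw [h2]
        exact mul_mem (mem_sup_left (QL_le hq)) (mem_sup_right h1)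
      · refine sup_le (RR_le_MM huW) (hUM.trans ?_)
        exact closure_mono (by
          rintro g ⟨x, hx, hg⟩
          exact ⟨x, hx.1, hg⟩)

/-- **The case (C, C).** -/
theorem main [Finite G] : ∃ m : G →* ℤˣ, m C.t = -1 := by
  have := C.finV
  have : Fact (Nat.Prime 2) := ⟨Nat.prime_two⟩
  let Z : Subgroup G := centralizer ({C.t} : Set G)
  obtain ⟨P⟩ : Nonempty (Sylow 2 Z) := inferInstance
  have htZ : C.t ∈ Z := mem_centralizer_singleton_iff.2 rfl
  -- `t ∈ P`
  have htP : (⟨C.t, htZ⟩ : Z) ∈ P := by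
    let T : Subgroup Z := zpowers ⟨C.t, htZ⟩
    have hT : IsPGroup 2 T := by
      have h2 : (⟨C.t, htZ⟩ : Z) * ⟨C.t, htZ⟩ = 1 := Subtype.ext C.tt
      rintro ⟨n, hn⟩
      obtain ⟨i, rfl⟩ := mem_zpowers_iff.1 hn
      refine ⟨1, Subtype.ext ?_⟩
      show ((⟨C.t, htZ⟩ : Z) ^ i) ^ 2 ^ 1 = 1
      rw [pow_one, pow_two, ← (Commute.refl _).mul_zpow, h2, one_zpow]
    have hTc : T.Normal := by
      refine ⟨?_⟩
      rintro n hn g
      have h1 : ∀ n ∈ T, g * n = n * g := by
        intro n hn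
        obtain ⟨i, rfl⟩ := mem_zpowers_iff.1 hn
        have h2 : Commute g (⟨C.t, htZ⟩ : Z) := Subtype.ext (mem_centralizer_singleton_iff.1 g.2)
        exact (h2.zpow_right i).eq
      rw [h1 n hn, mul_inv_cancel_right]
      exact hn
    have h1 : IsPGroup 2 (P ⊔ T : Subgroup Z) := P.2.to_sup_of_normal_right hT
    have h2 := P.3 h1 le_sup_left
    have h3 : (⟨C.t, htZ⟩ : Z) ∈ (P : Subgroup Z) := by
      rw [← h2]
      exact mem_sup_right (mem_zpowers _)
    exact h3
  let S : Subgroup C.L :=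
    { carrier := {k | ∃ h : (k : G) ∈ Z, (⟨k, h⟩ : Z) ∈ P}
      one_mem' := ⟨Z.one_mem, P.1.one_mem⟩
      mul_mem' := by
        rintro a b ⟨h1, h2⟩ ⟨h3, h4⟩
        exact ⟨Z.mul_mem h1 h3, P.1.mul_mem h2 h4⟩
      inv_mem' := by
        rintro a ⟨h1, h2⟩
        exact ⟨Z.inv_mem h1, P.1.inv_mem h2⟩ }
  have hS : IsPGroup 2 S := by
    rintro ⟨k, h1, h2⟩
    obtain ⟨n, hn⟩ := P.2 ⟨⟨k, h1⟩, h2⟩
    refine ⟨n, ?_⟩
    apply Subtype.ext
    apply Subtype.ext
    exact congrArg (fun x => ((x : P) : Z).1) hn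
  obtain ⟨U, hU, hSU, -⟩ := Y.exists_good (Nat.card (⊤ : Submodule (ZMod 2) V)) ⊤ ∅
    ⟨fun x => ⟨fun _ z hz => absurd hz (Set.notMem_empty z), fun _ => Submodule.mem_top⟩,
      fun x _ h => C.S.nondeg x (fun w => h w Submodule.mem_top)⟩ le_rfl S hS
    (fun k _ z hz => absurd hz (Set.notMem_empty z))
  refine hU.exists_hom C.tt C.t_ne_one P ?_
  intro g hg
  have hgc : Commute (g : G) C.t := mem_centralizer_singleton_iff.1 g.2
  rcases (C.cent g).1 hgc with h | h
  · left
    exact hSU ⟨⟨g, h⟩, ⟨g.2, hg⟩, rfl⟩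
  · right
    have h1 : C.t * (g : G) ∈ Z := Z.mul_mem htZ g.2
    exact hSU ⟨⟨C.t * g, h⟩, ⟨h1, P.1.mul_mem htP hg⟩, rfl⟩

end YData

end Cfsg.Agent.OddHalf.SpTwoN
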