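import Cfsg.Agent.OddHalf.SpTwoN.DichKill
import Cfsg.Agent.OddHalf.SpTwo.Start

/-!
# The dichotomy for the long `y u` (text: bb ODD 12330, 6.1 - 6.2)

`YBase C y`: `y u` is an involution, `[y u, t] = b u`, `y` is `L`-equivariant. For perpendicular independent `u`, `v` the
commutator `cm y u v` is one of `1`, `b u * b v`, `b (u + v)`, `s_{u,v}`, the same for all pairs; the second and fourth
cases are impossible.
-/

set_option autoImplicit false

namespace Cfsg.Agent.OddHalf.SpTwoN.Dich

open Cfsg.Agent.StandardComponent.SpTwo Cfsg.Agent.OddHalf.SpTwo Cfsg.Agent.OddHalf.SpTwoN.Words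
open Cfsg.Agent.OddHalf.SpTwoN Cfsg.Agent.OddHalf.SpTwoN.DichFrame Cfsg.Agent.OddHalf.SpTwoN.DichKill

section General

variable {G : Type*} [Group G]

theorem conj4 {t a b : G} (tt : t * t = 1) :
    t * (a * b * a * b) * t = (t * a * t) * (t * b * t) * (t * a * t) * (t * b * t) := by
  calc t * (a * b * a * b) * t = t * a * 1 * b * 1 * a * 1 * b * t := by group
    _ = t * a * (t * t) * b * (t * t) * a * (t * t) * b * t := by rw [tt]
    _ = _ := by group

theorem conj3 {t a b c : G} (tt : t * t = 1) :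
    t * (a * b * c) * t = (t * a * t) * (t * b * t) * (t * c * t) := by
  calc t * (a * b * c) * t = t * a * 1 * b * 1 * c * t := by group
    _ = t * a * (t * t) * b * (t * t) * c * t := by rw [tt]
    _ = _ := by group

/-- from `(a b)² = s` to `a b = s (b a)` -/
theorem swap_of {a b s : G} (ha : a * a = 1) (hb : b * b = 1) (h : a * b * a * b = s) : a * b = s * (b * a) := by
  rw [← h]
  calc a * b = a * b * a * b * b * a := by
        rw [mul_assoc (a * b * a) b b, hb, mul_one, mul_assoc (a * b) a a, ha, mul_one]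
    _ = _ := by group

/-- three commuting elements moved past each other -/
theorem mul3 {a b c p q r : G} (h1 : q * a = a * q) (h2 : r * a = a * r) (h3 : r * b = b * r) :
    (p * a) * (q * b) * (r * c) = p * q * r * (a * b * c) := by
  calc (p * a) * (q * b) * (r * c) = p * (a * q) * b * r * c := by group
    _ = p * q * (a * (b * r)) * c := by rw [← h1]; group
    _ = p * q * ((a * r) * b) * c := by rw [← h3]; group
    _ = p * q * r * (a * b * c) := by rw [← h2]; group

theorem sq3 {A B D s : G} (ss : s * s = 1) (DD : D * D = 1) (h1 : A * D = s * (D * A)) (h2 : B * D = s * (D * B))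
    (c1 : s * A = A * s) (c2 : s * B = B * s) (h0 : A * B * A * B = s) : A * B * D * (A * B * D) = s := by
  have f1 : D * A = s * (A * D) := by rw [h1, ← mul_assoc, ss, one_mul]
  have f2 : D * B = s * (B * D) := by rw [h2, ← mul_assoc, ss, one_mul]
  calc A * B * D * (A * B * D) = A * B * (D * A) * B * D := by group
    _ = A * (B * s) * A * (D * B) * D := by rw [f1]; group
    _ = (A * s) * B * A * (s * B) * (D * D) := by rw [← c2, f2]; group
    _ = s * A * B * A * (B * s) := by rw [← c1, DD, c2]; group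
    _ = s * (A * B * A * B) * s := by group
    _ = s := by rw [h0, ss, one_mul]

end General

variable {G V : Type*} [Group G] [AddCommGroup V] [Module (ZMod 2) V] {C : Ctx G V} {y : V → G}

/-- the commutator -/
def cm (y : V → G) (u v : V) : G := y u * y v * y u * y v

theorem cm_inv (Y : YBase C y) (u v : V) : (cm y u v)⁻¹ = cm y v u := invol_inv (Y.sq u) (Y.sq v)

theorem cm_conj (Y : YBase C y) (k : C.L) (u v : V) :
    (k : G) * cm y u v * (k : G)⁻¹ = cm y (C.S.ρ k u) (C.S.ρ k v) := by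
  unfold cm
  rw [← Y.equiv, ← Y.equiv]
  group

theorem cm_comm_t (Y : YBase C y) {u v : V} (h : C.S.B u v = 0) : cm y u v * C.t = C.t * cm y u v := by
  have h' : C.S.B v u = 0 := by rw [C.symm]; exact h
  refine C.t_comm_of (F := cm y u v) ?_
  unfold cm
  rw [conj4 C.tt, Y.conj_t, Y.conj_t]
  exact four (Y.b_comm_y (C.B_self u)) (Y.b_comm_y h) (Y.b_comm_y h') (Y.b_comm_y (C.B_self v)) (C.b_comm h)
    (C.b_sq u) (C.b_sq v)

/-- an element of `C(t)` commuting with the transvections of `E` -/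
theorem lift_fix {T : G} (hT : T * C.t = C.t * T) {E : V → Prop} (hE : ∀ e, E e → T * C.b e = C.b e * T) :
    ∃ k : C.L, (T = k ∨ T = C.t * k) ∧ ∀ e, E e → C.S.ρ k e = e := by
  obtain ⟨k, hk⟩ := exists_lift C hT
  refine ⟨k, hk, fun e he => C.fix_of_comm ?_⟩
  have h1 := hE e he
  rcases hk with rfl | rfl
  · exact h1
  · have h2 : C.b e * C.t = C.t * C.b e := C.t_comm (C.b_mem e)
    have h3 : C.t * ((k : G) * C.b e) = C.t * (C.b e * k) := by
      rw [← mul_assoc, h1, ← mul_assoc, h2, mul_assoc]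
    exact mul_left_cancel h3

/-- the commutator lies in `L`, fixes `⟨u, v⟩^⊥` -/
theorem cm_mem (Y : YBase C y) {u v : V} (huv : u ≠ v) (h : C.S.B u v = 0) :
    ∃ k : C.L, cm y u v = k ∧ (∀ e, C.S.B u e = 0 → C.S.B v e = 0 → C.S.ρ k e = e) ∧ (k : G)⁻¹ = k := by
  have h' : C.S.B v u = 0 := by rw [C.symm]; exact h
  obtain ⟨k, hk, hkf⟩ := lift_fix (E := fun e => C.S.B u e = 0 ∧ C.S.B v e = 0) (cm_comm_t Y h) (by
    rintro e ⟨h1, h2⟩
    have h3 := cm_conj Y (C.S.τ e) u v
    rw [C.S.hτ, C.S.hτ, h1, h2, zero_smul, add_zero, add_zero] at h3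
    exact (mul_inv_eq_iff_eq_mul.1 h3).symm)
  have hku : C.S.ρ k u = u := hkf u ⟨C.B_self u, h'⟩
  have hkv : C.S.ρ k v = v := hkf v ⟨h, C.B_self v⟩
  have h1 : y u * cm y u v * y u = (cm y u v)⁻¹ := invol_left (Y.sq u) (Y.sq v)
  have h2 : y v * cm y u v * y v = (cm y u v)⁻¹ := invol_right (Y.sq u) (Y.sq v)
  have h3 := Y.comm_L hku
  have h4 := Y.comm_L hkv
  rcases hk with hk | hk
  · refine ⟨k, hk, fun e h1 h2 => hkf e ⟨h1, h2⟩, ?_⟩
    rw [hk] at h1
    rw [← h1, mul_assoc, h3, ← mul_assoc, Y.sq, one_mul]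
  · exfalso
    rw [hk] at h1 h2
    apply huv
    apply C.b_inj
    have h5 : y u * (C.t * k) * y u = C.t * C.b u * k := by
      calc y u * (C.t * k) * y u = y u * C.t * (k * y u) := by group
        _ = (y u * C.t * y u) * k := by rw [h3]; group
        _ = C.t * C.b u * k := by rw [Y.y_conj_t]
    have h6 : y v * (C.t * k) * y v = C.t * C.b v * k := by
      calc y v * (C.t * k) * y v = y v * C.t * (k * y v) := by group
        _ = (y v * C.t * y v) * k := by rw [h4]; group
        _ = C.t * C.b v * k := by rw [Y.y_conj_t]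
    rw [h5] at h1
    rw [h6] at h2
    exact mul_left_cancel (mul_right_cancel (h1.trans h2.symm))

/-- the shape of an element fixing `⟨u, v⟩^⊥` -/
theorem shape {X : Type*} [Group X] (D : SpData X V) [Finite V] {u v : V} (hu : u ≠ 0) (hv : v ∉ ln u)
    (huv : D.B u v = 0) {k : X} (hk : ∀ e, D.B u e = 0 → D.B v e = 0 → D.ρ k e = e) :
    ∃ e f : V, D.B u e = 1 ∧ D.B v e = 0 ∧ D.B u f = 0 ∧ D.B v f = 1 ∧ ∃ a c d : ZMod 2,
      ∀ z, D.ρ k z = z + (D.B z u • (a • u + c • v) + D.B z v • (c • u + d • v)) := by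
  obtain ⟨f, hf, hf'⟩ := Words.exists_perp D _ hv
  obtain ⟨e', -, he'⟩ := Words.exists_perp D (⊥ : Submodule (ZMod 2) V) (x := u) (by simpa using hu)
  have huf : D.B u f = 0 := hf u (self_mem_ln u)
  obtain ⟨e, he⟩ : ∃ e, e = e' + D.B v e' • f := ⟨_, rfl⟩
  have hue : D.B u e = 1 := by rw [he]; simp [he', huf]
  have hve : D.B v e = 0 := by rw [he]; simp [hf', z2_add]
  obtain ⟨a, c, h1⟩ := fix2 D hk e
  obtain ⟨c', d, h2⟩ := fix2 D hk f
  have hcc : c' = c := by
    have h3 := D.inv k e f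
    rw [h1, h2] at h3
    have hvu : D.B v u = 0 := by rw [D.symm]; exact huv
    have heu : D.B e u = 1 := by rw [D.symm]; exact hue
    have hev : D.B e v = 0 := by rw [D.symm]; exact hve
    simp only [map_add, map_smul, LinearMap.add_apply, LinearMap.smul_apply, smul_eq_mul, huf, hf', huv, hvu,
      heu, hev, D.alt, mul_zero, mul_one, add_zero, zero_add] at h3
    have key : ∀ x c c' : ZMod 2, x + c + c' = x → c' = c := by decide
    exact key _ _ _ h3
  subst hcc
  refine ⟨e, f, hue, hve, huf, hf', a, c', d, fun z => ?_⟩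
  have h4 : D.ρ k (z + (D.B z u • e + D.B z v • f)) = z + (D.B z u • e + D.B z v • f) := by
    apply hk
    · rw [map_add, map_add, map_smul, map_smul, hue, huf, D.symm u z]
      simp [z2_add]
    · rw [map_add, map_add, map_smul, map_smul, hve, hf', D.symm v z]
      simp [z2_add]
  rw [map_add, map_add, map_smul, map_smul, h1, h2] at h4
  have h5 : ∀ p q r s : V, p + (q + r) = s → p = s + (q + r) := by
    rintro p q r s rfl
    rw [add_assoc, aa, add_zero]
  rw [h5 _ _ _ _ h4, smul_add, smul_add (D.B z v)]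
  have h6 : ∀ p q r s w : V, p + (q + r) + (q + s + (r + w)) = p + (s + w) := by
    intro p q r s w
    rw [show p + (q + r) + (q + s + (r + w)) = p + (s + w) + ((q + r) + (q + r)) by abel, aa, add_zero]
  rw [h6]

/-- the four cases for one pair -/
theorem cm_cases (Y : YBase C y) {u v : V} (hu : u ≠ 0) (hv : v ∉ ln u) (h : C.S.B u v = 0) :
    cm y u v = 1 ∨ cm y u v = C.b u * C.b v ∨ cm y u v = C.b (u + v) ∨ cm y u v = (sg C.S u v : C.L) := by
  have := C.finV
  have h' : C.S.B v u = 0 := by rw [C.symm]; exact h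
  have hne : u ≠ v := by
    rintro rfl
    exact hv (self_mem_ln u)
  have hv0 : v ≠ 0 := ne_zero_of_notMem hv
  have hu' : u ∉ ln v := by
    rw [mem_ln]
    push Not
    exact ⟨hu, hne⟩
  obtain ⟨k, hk, hkf, hki⟩ := cm_mem Y hne h
  obtain ⟨e, f, hue, hve, huf, hvf, a, c, d, hs⟩ := shape C.S hu hv h hkf
  have hki' : k⁻¹ = k := Subtype.ext hki
  -- swapping `u` and `v`
  obtain ⟨g, hgu, hgv⟩ := trans_pl C.S hu hv h hv0 hu' h'
  have h1 := cm_conj Y g u v
  rw [hgu, hgv, ← cm_inv Y u v, hk, hki] at h1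
  have h2 : g * k = k * g := Subtype.ext (mul_inv_eq_iff_eq_mul.1 h1)
  have had : a = d := by
    have h3 : C.S.ρ (g * k) e = C.S.ρ (k * g) e := by rw [h2]
    have heu : C.S.B e u = 1 := by rw [C.symm]; exact hue
    have hev : C.S.B e v = 0 := by rw [C.symm]; exact hve
    have h4 : C.S.B (C.S.ρ g e) u = 0 := by
      have := C.S.inv g e v
      rwa [hgv, hev] at this
    have h5 : C.S.B (C.S.ρ g e) v = 1 := by
      have := C.S.inv g e u
      rwa [hgu, heu] at this
    rw [C.S.ρ_mul, C.S.ρ_mul, hs, hs (C.S.ρ g e), h4, h5, heu, hev, zero_smul, one_smul, zero_smul, one_smul,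
      zero_add, add_zero, map_add, map_add, map_smul, map_smul, hgu, hgv] at h3
    have h6 := congrArg (fun z => C.S.B z f) (add_left_cancel h3)
    simp only [map_add, map_smul, LinearMap.add_apply, LinearMap.smul_apply, smul_eq_mul, huf, hvf, mul_zero,
      mul_one, add_zero, zero_add] at h6
    exact h6
  subst had
  rcases z2 a with ha | ha <;> rcases z2 c with hc | hc <;> subst ha <;> subst hc
  · left
    have h3 : k = 1 := by
      apply C.S.ext_iff
      intro z
      rw [hs, C.S.ρ_one]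
      simp
    rw [hk, h3]
    rfl
  · right; right; right
    have h3 : k = sg C.S u v := by
      apply C.S.ext_iff
      intro z
      rw [hs, ρ_sg C.S h]
      simp only [zero_smul, one_smul, zero_add, add_zero]
      rw [add_comm (C.S.B z u • v)]
    rw [hk, h3]
  · right; left
    have h3 : k = C.S.τ u * C.S.τ v := by
      apply C.S.ext_iff
      intro z
      rw [hs, C.S.ττ, h', mul_zero, add_zero]
      simp only [zero_smul, one_smul, zero_add, add_zero]
      abel
    rw [hk, h3]
    rfl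
  · right; right; left
    have h3 : k = C.S.τ (u + v) := by
      apply C.S.ext_iff
      intro z
      rw [hs, C.S.hτ, map_add, one_smul, one_smul, add_smul]
    rw [hk, h3]
    rfl

/-! ### the exclusion of the cases `b u * b v` and `s_{u,v}` -/

/-- products of the `m v` over a line of `u^⊥ / u` -/
theorem T_mem {u : V} (m : V → G)
    (heq : ∀ k : C.L, C.S.ρ k u = u → ∀ v, (k : G) * m v * (k : G)⁻¹ = m (C.S.ρ k v))
    (ht : ∀ v, C.S.B u v = 0 → v ≠ 0 → v ≠ u → C.t * m v * C.t = (sg C.S u v : C.L) * m v)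
    (w : G) (hw1 : ∀ v, C.S.B u v = 0 → v ≠ 0 → v ≠ u → w * m v = m v * w)
    (hw2 : ∀ k : C.L, C.S.ρ k u = u → w * k = k * w) (hw3 : w * C.t ≠ C.t * w)
    {v v' : V} (hv : C.S.B u v = 0) (hv' : C.S.B u v' = 0) (hvv : C.S.B v v' = 0) (v0 : v ≠ 0) (vu : v ≠ u)
    (v0' : v' ≠ 0) (vu' : v' ≠ u) (s0 : v + v' ≠ 0) (su : v + v' ≠ u) : ∃ k : C.L, m v * m v' * m (v + v') = k ∧
      ∀ e, C.S.B u e = 0 → C.S.B v e = 0 → C.S.B v' e = 0 → C.S.ρ k e = e := by
  have huv : C.S.B v u = 0 := by rw [C.symm]; exact hv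
  have huv' : C.S.B v' u = 0 := by rw [C.symm]; exact hv'
  have hvv' : C.S.B v' v = 0 := by rw [C.symm]; exact hvv
  have hs : C.S.B u (v + v') = 0 := by rw [map_add, hv, hv', add_zero]
  have hc : ∀ {k : C.L} {z : V}, C.S.ρ k u = u → C.S.ρ k z = z → (k : G) * m z = m z * k := by
    intro k z h1 h2
    have h3 := heq k h1 z
    rw [h2] at h3
    exact mul_inv_eq_iff_eq_mul.1 h3
  -- `T` commutes with `t`
  have hTt : C.t * (m v * m v' * m (v + v')) * C.t = m v * m v' * m (v + v') := by
    rw [conj3 C.tt, ht v hv v0 vu, ht v' hv' v0' vu', ht (v + v') hs s0 su]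
    have f1 : C.S.ρ (sg C.S u v') u = u := by
      rw [ρ_sg C.S hv', hv', C.B_self, zero_smul, zero_smul, add_zero, add_zero]
    have f2 : C.S.ρ (sg C.S u v') v = v := by
      rw [ρ_sg C.S hv', hvv, huv, zero_smul, zero_smul, add_zero, add_zero]
    have f3 : C.S.ρ (sg C.S u (v + v')) u = u := by
      rw [ρ_sg C.S hs, hs, C.B_self, zero_smul, zero_smul, add_zero, add_zero]
    have f4 : C.S.ρ (sg C.S u (v + v')) v = v := by
      rw [ρ_sg C.S hs, map_add, C.B_self, hvv, huv, add_zero, zero_smul, zero_smul, add_zero, add_zero]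
    have f5 : C.S.ρ (sg C.S u (v + v')) v' = v' := by
      rw [ρ_sg C.S hs, map_add, C.B_self, hvv', huv', add_zero, zero_smul, zero_smul, add_zero, add_zero]
    rw [mul3 (hc f1 f2) (hc f3 f4) (hc f3 f5)]
    have h1 : sg C.S u v * sg C.S u v' * sg C.S u (v + v') = 1 := by
      rw [sg_mul_perp C.S hv hv' hvv, sg_sq C.S hs]
    have h2 : ((sg C.S u v : C.L) : G) * (sg C.S u v' : C.L) * (sg C.S u (v + v') : C.L) = 1 :=
      congrArg Subtype.val h1
    rw [h2, one_mul]
  obtain ⟨k, hk, hkf⟩ := lift_fix (E := fun e => C.S.B u e = 0 ∧ C.S.B v e = 0 ∧ C.S.B v' e = 0)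
    (C.t_comm_of hTt) (by
      rintro e ⟨h1, h2, h3⟩
      have h0 : C.S.ρ (C.S.τ e) u = u := by rw [C.S.hτ, h1, zero_smul, add_zero]
      have e1 : C.b e * m v = m v * C.b e := hc h0 (by rw [C.S.hτ, h2, zero_smul, add_zero])
      have e2 : C.b e * m v' = m v' * C.b e := hc h0 (by rw [C.S.hτ, h3, zero_smul, add_zero])
      have e3 : C.b e * m (v + v') = m (v + v') * C.b e := hc h0 (by
        rw [C.S.hτ, B_add, h2, h3, add_zero, zero_smul, add_zero])
      have e4 : Commute (C.b e) (m v * m v' * m (v + v')) := Commute.mul_right (Commute.mul_right e1 e2) e3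
      exact e4.symm)
  have hku : C.S.ρ k u = u := hkf u ⟨C.B_self u, huv, huv'⟩
  rcases hk with hk | hk
  · exact ⟨k, hk, fun e h1 h2 h3 => hkf e ⟨h1, h2, h3⟩⟩
  · exfalso
    have h1 : Commute w (m v * m v' * m (v + v')) := Commute.mul_right (Commute.mul_right (hw1 v hv v0 vu)
      (hw1 v' hv' v0' vu')) (hw1 (v + v') hs s0 su)
    rw [hk] at h1
    have h2 := hw2 k hku
    apply hw3
    have h3 : w * C.t * k = C.t * w * k := by
      calc w * C.t * k = w * (C.t * k) := by group
        _ = C.t * (k * w) := by rw [h1.eq]; group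
        _ = C.t * w * k := by rw [← h2]; group
    exact mul_right_cancel h3

/-- the case `cm = s` is impossible -/
theorem not_sg (Y : YBase C y) {u : V} (hu : u ≠ 0)
    (h : ∀ p q, p ≠ 0 → q ∉ ln p → C.S.B p q = 0 → cm y p q = (sg C.S p q : C.L)) : False := by
  have := C.finV
  -- the commutator formula for all perpendicular pairs
  have hs : ∀ p q, C.S.B p q = 0 → cm y p q = (sg C.S p q : C.L) := by
    intro p q hpq
    by_cases hp : p = 0
    · subst hp
      rw [sg_zero_left]
      unfold cm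
      rw [Y.zero, one_mul, mul_one, Y.sq]
      rfl
    by_cases hq : q ∈ ln p
    · rcases mem_ln.1 hq with rfl | rfl
      · rw [sg_zero_right]
        unfold cm
        rw [Y.zero, mul_one, mul_one, Y.sq]
        rfl
      · rw [sg_self]
        unfold cm
        rw [Y.sq, one_mul, Y.sq]
        rfl
    · exact h p q hp hq hpq
  have sw : ∀ p q, C.S.B p q = 0 → y p * y q = (sg C.S p q : C.L) * (y q * y p) := fun p q hpq =>
    swap_of (Y.sq p) (Y.sq q) (hs p q hpq)
  have cs : ∀ p q z, C.S.B p q = 0 → C.S.B z p = 0 → C.S.B z q = 0 →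
      ((sg C.S p q : C.L) : G) * y z = y z * (sg C.S p q : C.L) := by
    intro p q z h1 h2 h3
    apply Y.comm_L
    rw [ρ_sg C.S h1, h2, h3, zero_smul, zero_smul, add_zero, add_zero]
  obtain ⟨m, hm⟩ : ∃ m : V → G, m = fun v => y u * y v * y (u + v) := ⟨_, rfl⟩
  have hmv : ∀ v, m v = y u * y v * y (u + v) := fun v => by rw [hm]
  -- `m v` commutes with `y q`
  have my : ∀ v q, C.S.B u v = 0 → C.S.B q u = 0 → C.S.B q v = 0 → y q * m v = m v * y q := by
    intro v q h1 h2 h3
    have h4 : C.S.B q (u + v) = 0 := by rw [map_add, h2, h3, add_zero]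
    have h1' : C.S.B v u = 0 := by rw [C.symm]; exact h1
    have h2' : C.S.B u q = 0 := by rw [C.symm]; exact h2
    have h3' : C.S.B v q = 0 := by rw [C.symm]; exact h3
    have c1 := cs q (u + v) u h4 h2' (by rw [map_add, C.B_self, h1, add_zero])
    have c2 := cs q (u + v) v h4 h3' (by rw [map_add, C.B_self, h1', add_zero])
    have c3 := cs q v u h3 h2' h1
    rw [hmv]
    have e1 : ((sg C.S q u : C.L) : G) * (sg C.S q v : C.L) * (sg C.S q (u + v) : C.L) = 1 := by
      have e2 : sg C.S q u * sg C.S q v * sg C.S q (u + v) = 1 := by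
        rw [sg_mul_perp C.S h2 h3 h1, sg_sq C.S h4]
      exact congrArg Subtype.val e2
    calc y q * (y u * y v * y (u + v)) = (y q * y u) * y v * y (u + v) := by group
      _ = (sg C.S q u : C.L) * y u * (y q * y v) * y (u + v) := by rw [sw q u h2]; group
      _ = (sg C.S q u : C.L) * (y u * (sg C.S q v : C.L)) * y v * (y q * y (u + v)) := by rw [sw q v h3]; group
      _ = (sg C.S q u : C.L) * (sg C.S q v : C.L) * y u * (y v * (sg C.S q (u + v) : C.L)) * y (u + v) * y q := by
          rw [← c3, sw q (u + v) h4]; group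
      _ = (sg C.S q u : C.L) * (sg C.S q v : C.L) * (y u * (sg C.S q (u + v) : C.L)) * y v * y (u + v) * y q := by
          rw [← c2]; group
      _ = ((sg C.S q u : C.L) * (sg C.S q v : C.L) * (sg C.S q (u + v) : C.L)) * (y u * y v * y (u + v)) * y q := by
          rw [← c1]; group
      _ = _ := by rw [e1, one_mul]
  have hyt : ∀ v, C.S.B u v = 0 → C.t * m v * C.t = (sg C.S u v : C.L) * m v := by
    intro v hv
    have hv' : C.S.B v u = 0 := by rw [C.symm]; exact hv
    rw [hmv, conj3 C.tt, Y.conj_t, Y.conj_t, Y.conj_t, mul3 (Y.b_comm_y hv')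
      (Y.b_comm_y (by rw [B_add, C.B_self, hv', add_zero]))
      (Y.b_comm_y (by rw [B_add, C.B_self, hv, add_zero]))]
    rfl
  have heq : ∀ k : C.L, C.S.ρ k u = u → ∀ v, (k : G) * m v * (k : G)⁻¹ = m (C.S.ρ k v) := by
    intro k hk v
    rw [hmv, hmv, ← Y.equiv k v]
    have e1 := Y.equiv k u
    have e2 := Y.equiv k (u + v)
    rw [map_add, hk] at e2
    rw [hk] at e1
    rw [← e2]
    nth_rewrite 2 [← e1]
    group
  apply kill C hu m
  · intro v hv v0 vu
    have hv' : C.S.B v u = 0 := by rw [C.symm]; exact hv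
    have hs1 := sw v (u + v) (by rw [map_add, C.B_self, hv', add_zero])
    have e5 := sw u (u + v) (by rw [map_add, C.B_self, hv, add_zero])
    have c1 := cs u v u hv (C.B_self u) hv
    have c2 := cs u v v hv hv' (C.B_self v)
    have s1 : sg C.S u (u + v) = sg C.S u v := sg_add C.S hv
    have s2 : sg C.S v (u + v) = sg C.S u v := by rw [add_comm u v, sg_add C.S hv', sg_comm C.S hv']
    rw [s1] at e5
    rw [s2] at hs1
    have ss : ((sg C.S u v : C.L) : G) * (sg C.S u v : C.L) = 1 := by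
      have := sg_sq C.S hv
      exact congrArg Subtype.val this
    rw [hmv v]
    exact sq3 ss (Y.sq _) e5 hs1 c1 c2 (hs u v hv)
  · intro v v' hv hv' hvv v0 vu v0' vu'
    have huv' : C.S.B v' u = 0 := by rw [C.symm]; exact hv'
    have hvv' : C.S.B v' v = 0 := by rw [C.symm]; exact hvv
    have e1 := my v u hv (C.B_self u) hv
    have e2 := my v v' hv huv' hvv'
    have e3 := my v (u + v') hv (by rw [B_add, C.B_self, huv', add_zero]) (by rw [B_add, hv, hvv', add_zero])
    rw [hmv v']
    exact (Commute.mul_right (Commute.mul_right e1.symm e2.symm) e3.symm : Commute (m v) _)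
  · exact heq
  · intro v v' hv hv' hvv v0 vu v0' vu' s0 su
    refine T_mem m heq (fun v hv _ _ => hyt v hv) (y u) (fun v hv _ _ => my v u hv (C.B_self u) hv)
      (fun k hk => (Y.comm_L hk).symm) ?_ hv hv' hvv v0 vu v0' vu' s0 su
    intro h1
    apply C.b_ne_one hu
    have h2 := Y.y_conj_t u
    rw [h1, mul_assoc, Y.sq, mul_one] at h2
    exact (left_eq_mul.1 h2)

/-- the case `cm = b u * b v` is impossible -/
theorem not_bb (Y : YBase C y) {u : V} (hu : u ≠ 0)
    (h : ∀ p q, p ≠ 0 → q ∉ ln p → C.S.B p q = 0 → cm y p q = C.b p * C.b q) : False := by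
  have := C.finV
  obtain ⟨z, hz⟩ : ∃ z : V → G, z = fun p => y p * C.t := ⟨_, rfl⟩
  have hzp : ∀ p, z p = y p * C.t := fun p => by rw [hz]
  have hzz : ∀ p, z p * z p = C.b p := by
    intro p
    rw [hzp]
    calc y p * C.t * (y p * C.t) = (y p * C.t * y p) * C.t := by group
      _ = C.t * (C.b p * C.t) := by rw [Y.y_conj_t]; group
      _ = C.b p := by rw [(C.t_comm (C.b_mem p)).eq, ← mul_assoc, C.tt, one_mul]
  have hty : ∀ p, C.t * y p = C.b p * (y p * C.t) := by
    intro p
    calc C.t * y p = (C.t * y p * C.t) * C.t := by rw [mul_assoc, mul_assoc, C.tt, mul_one]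
      _ = _ := by rw [Y.conj_t]; group
  have cbz : ∀ p q, C.S.B q p = 0 → C.b q * z p = z p * C.b q := by
    intro p q hpq
    rw [hzp]
    calc C.b q * (y p * C.t) = (C.b q * y p) * C.t := by group
      _ = y p * (C.b q * C.t) := by rw [Y.b_comm_y hpq]; group
      _ = y p * C.t * C.b q := by rw [(C.t_comm (C.b_mem q)).eq]; group
  -- the `z p` commute
  have czz : ∀ p q, p ≠ 0 → q ≠ 0 → C.S.B p q = 0 → z p * z q = z q * z p := by
    intro p q hp hq hpq
    by_cases hne : p = q
    · rw [hne]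
    have hqp : C.S.B q p = 0 := by rw [C.symm]; exact hpq
    have h1 : q ∉ ln p := by
      rw [mem_ln]
      push Not
      exact ⟨hq, Ne.symm hne⟩
    have h2 := swap_of (Y.sq p) (Y.sq q) (h p q hp h1 hpq)
    have e1 : z p * z q = y p * (C.b q * y q) := by
      rw [hzp, hzp]
      calc y p * C.t * (y q * C.t) = y p * (C.t * y q * C.t) := by group
        _ = _ := by rw [Y.conj_t]
    have e2 : z q * z p = y q * (C.b p * y p) := by
      rw [hzp, hzp]
      calc y q * C.t * (y p * C.t) = y q * (C.t * y p * C.t) := by group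
        _ = _ := by rw [Y.conj_t]
    rw [e1, e2]
    calc y p * (C.b q * y q) = (y p * C.b q) * y q := by group
      _ = C.b q * (y p * y q) := by rw [← Y.b_comm_y hqp]; group
      _ = (C.b q * C.b q) * C.b p * (y q * y p) := by
          rw [h2, C.b_comm hpq]; group
      _ = (C.b p * y q) * y p := by rw [C.b_sq]; group
      _ = y q * (C.b p * y p) := by rw [Y.b_comm_y hpq]; group
  obtain ⟨m, hm⟩ : ∃ m : V → G, m = fun v => z u * z v * z (u + v) := ⟨_, rfl⟩
  have hmv : ∀ v, m v = z u * z v * z (u + v) := fun v => by rw [hm]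
  have hne : ∀ v, v ≠ u → u + v ≠ 0 := fun v hv h1 => hv (eq_of_add _ _ h1).symm
  have mz : ∀ v q, v ≠ 0 → v ≠ u → q ≠ 0 → C.S.B q u = 0 → C.S.B q v = 0 → z q * m v = m v * z q := by
    intro v q v0 vu q0 h1 h2
    rw [hmv]
    exact (Commute.mul_right (Commute.mul_right (czz q u q0 hu h1) (czz q v q0 v0 h2))
      (czz q (u + v) q0 (hne v vu) (by rw [map_add, h1, h2, add_zero])) : Commute (z q) _)
  have hzt : ∀ p, C.t * z p * C.t = C.b p * z p := by
    intro p
    rw [hzp, ← mul_assoc, mul_assoc, C.tt, mul_one, hty]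
  have hkz : ∀ (k : C.L) (p : V), (k : G) * z p * (k : G)⁻¹ = z (C.S.ρ k p) := by
    intro k p
    rw [hzp, hzp, ← Y.equiv k p]
    have h1 : (k : G) * C.t = C.t * k := C.t_comm k.2
    calc (k : G) * (y p * C.t) * (k : G)⁻¹ = k * y p * (k : G)⁻¹ * (k * C.t) * (k : G)⁻¹ := by group
      _ = _ := by rw [h1]; group
  have heq : ∀ k : C.L, C.S.ρ k u = u → ∀ v, (k : G) * m v * (k : G)⁻¹ = m (C.S.ρ k v) := by
    intro k hk v
    rw [hmv, hmv]
    have e1 := hkz k u
    have e2 := hkz k v
    have e3 := hkz k (u + v)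
    rw [map_add, hk] at e3
    rw [hk] at e1
    rw [← e2, ← e3]
    nth_rewrite 2 [← e1]
    group
  apply kill C hu m
  · intro v hv v0 vu
    rw [hmv]
    have hv' : C.S.B v u = 0 := by rw [C.symm]; exact hv
    have h1 : Commute (z u) (z v) := czz u v hu v0 hv
    have h2 : Commute (z u * z v) (z (u + v)) := Commute.mul_left
      (czz u (u + v) hu (hne v vu) (by rw [map_add, C.B_self, hv, add_zero]))
      (czz v (u + v) v0 (hne v vu) (by rw [map_add, C.B_self, hv', add_zero]))
    rw [h2.symm.mul_mul_mul_comm, h1.symm.mul_mul_mul_comm, hzz, hzz, hzz]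
    rfl
  · intro v v' hv hv' hvv v0 vu v0' vu'
    have huv' : C.S.B v' u = 0 := by rw [C.symm]; exact hv'
    have hvv' : C.S.B v' v = 0 := by rw [C.symm]; exact hvv
    have e1 := mz v u v0 vu hu (C.B_self u) hv
    have e2 := mz v v' v0 vu v0' huv' hvv'
    have e3 := mz v (u + v') v0 vu (hne v' vu') (by rw [B_add, C.B_self, huv', add_zero])
      (by rw [B_add, hv, hvv', add_zero])
    rw [hmv v']
    exact (Commute.mul_right (Commute.mul_right e1.symm e2.symm) e3.symm : Commute (m v) _)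
  · exact heq
  · intro v v' hv hv' hvv v0 vu v0' vu' s0 su
    refine T_mem m heq (fun v hv v0 vu => ?_) (z u) (fun v hv v0 vu => mz v u v0 vu hu (C.B_self u) hv)
      (fun k hk => ?_) ?_ hv hv' hvv v0 vu v0' vu' s0 su
    · have hv' : C.S.B v u = 0 := by rw [C.symm]; exact hv
      rw [hmv, conj3 C.tt, hzt, hzt, hzt, mul3 (cbz u v hv')
        (cbz u (u + v) (by rw [B_add, C.B_self, hv', add_zero]))
        (cbz v (u + v) (by rw [B_add, C.B_self, hv, add_zero]))]
      rfl
    · have h1 := hkz k u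
      rw [hk] at h1
      exact (mul_inv_eq_iff_eq_mul.1 h1).symm
    · intro h1
      apply C.b_ne_one hu
      have h2 := hzt u
      rw [mul_assoc, h1, ← mul_assoc, C.tt, one_mul] at h2
      exact (right_eq_mul.1 h2)

/-- **The dichotomy**: the `y u` of perpendicular vectors commute, or `(y u * y v)² = b (u + v)` for all of them. -/
theorem dichotomy (Y : YBase C y) : YData C y ∨
    ∀ u v, u ≠ 0 → v ≠ 0 → u ≠ v → C.S.B u v = 0 → y u * y v * y u * y v = C.b (u + v) := by
  have := C.finV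
  -- one pair
  have hnt : ∃ u : V, u ≠ 0 := by
    by_contra hcon
    push Not at hcon
    have h1 : Nat.card V ≤ 1 := by
      rw [Finite.card_le_one_iff_subsingleton]
      exact ⟨fun a b => by rw [hcon a, hcon b]⟩
    have := C.cardV
    omega
  obtain ⟨u, hu⟩ := hnt
  obtain ⟨v, hv, hv'⟩ := room C.S C.cardV (A := ln u) (A' := ln u) (by
    have := finrank_ln_le u
    omega)
  have huv : C.S.B u v = 0 := by rw [C.symm]; exact hv u (self_mem_ln u)
  have tr : ∀ p q, p ≠ 0 → q ∉ ln p → C.S.B p q = 0 → ∃ g : C.L, C.S.ρ g u = p ∧ C.S.ρ g v = q :=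
    fun p q hp hq hpq => trans_pl C.S hu hv' huv hp hq hpq
  rcases cm_cases Y hu hv' huv with h | h | h | h
  · left
    refine ⟨Y, fun p q hpq => ?_⟩
    by_cases hp : p = 0
    · rw [hp, Y.zero, one_mul, mul_one]
    by_cases hq : q ∈ ln p
    · rcases mem_ln.1 hq with rfl | rfl
      · rw [Y.zero, one_mul, mul_one]
      · rfl
    · obtain ⟨g, h1, h2⟩ := tr p q hp hq hpq
      have h3 := cm_conj Y g u v
      rw [h, h1, h2, mul_one, mul_inv_cancel] at h3
      have h4 := swap_of (Y.sq p) (Y.sq q) h3.symm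
      rw [one_mul] at h4
      exact h4
  · exfalso
    refine not_bb Y hu fun p q hp hq hpq => ?_
    obtain ⟨g, h1, h2⟩ := tr p q hp hq hpq
    have h3 := cm_conj Y g u v
    rw [h, h1, h2] at h3
    rw [← h3, ← h1, ← h2, ← C.b_conj, ← C.b_conj]
    group
  · right
    intro p q hp hq0 hne hpq
    have hq : q ∉ ln p := notMem_ln hq0 (Ne.symm hne)
    obtain ⟨g, h1, h2⟩ := tr p q hp hq hpq
    have h3 := cm_conj Y g u v
    rw [h, h1, h2, C.b_conj, map_add, h1, h2] at h3
    exact h3.symm
  · exfalso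
    refine not_sg Y hu fun p q hp hq hpq => ?_
    obtain ⟨g, h1, h2⟩ := tr p q hp hq hpq
    have h3 := cm_conj Y g u v
    rw [h, h1, h2] at h3
    rw [← h3, ← h1, ← h2, ← conj_sg]
    rfl

end Cfsg.Agent.OddHalf.SpTwoN.Dich
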