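import Cfsg.Agent.OddHalf.SpTwoN.LongCount

/-!
# Pattern "long only": a sign on `G`
-/

set_option autoImplicit false

namespace Cfsg.Agent.OddHalf.SpTwoN.LongMain

open Subgroup
open Cfsg.Agent.StandardComponent.SpTwo
open Cfsg.Agent.OddHalf.SpTwoN.Words Cfsg.Agent.OddHalf.SpTwoN.Iso Cfsg.Agent.OddHalf.SpTwoN.Transl
open Cfsg.Agent.OddHalf.SpTwoN.Section Cfsg.Agent.OddHalf.SpTwoN.LongH Cfsg.Agent.OddHalf.SpTwoN.LongCount

variable {G V : Type*} [Group G] [AddCommGroup V] [Module (ZMod 2) V] {C : Ctx G V} {W : Submodule (ZMod 2) V}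
variable [Finite V] [Finite G]

omit [Finite V] [Finite G] in
/-- every affine map is a translation times an element of `C_H(t)` -/
theorem exists_P0 (hE : ∀ v ∈ W, v ≠ 0 → ∃ y, E C W v y) {h : G} (hh : h ∈ HG C W) :
    ∃ k ∈ RG C W, k⁻¹ * h ∈ P0 C W := by
  obtain ⟨n, hn, v, hv, h1⟩ := hh
  have hk : ∃ k, Tr C W v k := by
    by_cases hv0 : v = 0
    · exact ⟨C.t, hv0 ▸ tr_t⟩
    · obtain ⟨y, hy⟩ := hE v hv hv0
      exact ⟨y, hy.1⟩
  obtain ⟨k, hk⟩ := hk
  have h2 : Aff C W n 0 (k⁻¹ * h) := by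
    have := (aff_tr (hk.inv hv)).mul hn hv h1
    rwa [C.S.ρ_one, aa, one_mul] at this
  refine ⟨k, ⟨v, hv, hk⟩, mem_P0.2 ⟨⟨n, hn, 0, zero_mem _, h2⟩, ?_⟩⟩
  have h3 := h2 0 (zero_mem _)
  rw [C.b_zero, mul_one, map_zero, zero_add, C.b_zero, mul_one] at h3
  exact mul_inv_eq_iff_eq_mul.1 h3

section frame

variable (hW : Max C.S W) (hr : 4 ≤ Module.finrank (ZMod 2) W) (hE : ∀ v ∈ W, v ≠ 0 → ∃ y, E C W v y)
  {v0 v1 : V} {y0 y1 : G} (f : Frame C W v0 v1 y0 y1)

/-- **step 1**: the element `d` is a translation -/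
theorem mem_RG {T T' : Subgroup G} (hT : IsSyl (P0 C W) T) (hT' : T' ≤ HG C W) (h2 : IsPGroup 2 T')
    (hc : Nat.card T' = Nat.card T) {d : G} (hd : d ∈ HG C W) (hd1 : (⟨d, hd⟩ : HG C W) ∉ H1 hW hr hE f)
    (hcomm : ∀ x ∈ T', Commute x d) : d ∈ RG C W := by
  by_contra hdR
  have : Fact (Nat.Prime 2) := ⟨Nat.prime_two⟩
  obtain ⟨n, hn, v, hv, h1⟩ := id hd
  have hdF : ∀ w z, F C W y0 y1 w z → F C W y0 y1 (C.S.ρ n w) (C.t * d * z * (C.t * d)⁻¹) := by
    rcases dichotomy hW hr hE f hn hv h1 with h3 | h3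
    · exfalso
      exact hd1 ((mem_H1_iff hW hr hE f).2 fun w z hz => ⟨_, h3 w z hz⟩)
    · exact h3
  have hM : Nat.card (T' ⊓ RG C W : Subgroup G) ≤ Nat.card (AG C W) :=
    card_le hW hr hE f hn hv h1 hdF hdR inf_le_right fun x hx => hcomm x hx.1
  -- the quotient
  set R' : Subgroup (HG C W) := (RG C W).subgroupOf (HG C W) with hR'
  have : R'.Normal := by
    constructor
    intro k hk g
    rw [mem_subgroupOf] at hk ⊢
    exact conj_mem_RG g.2 hk
  set π : HG C W →* HG C W ⧸ R' := QuotientGroup.mk' R' with hπ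
  have hker : π.ker = R' := QuotientGroup.ker_mk' R'
  set K' : Subgroup (HG C W) := T'.subgroupOf (HG C W) with hK'
  have e1 := card_map_mul K' π
  have e2 : Nat.card K' = Nat.card T' := StdSpSix.QLevel.card_sub_eq hT'
  have hkerR : ∀ y : HG C W, y ∈ π.ker → (y : G) ∈ RG C W := fun y hy => by
    rw [hker] at hy
    exact mem_subgroupOf.1 hy
  have e3 : Nat.card (K' ⊓ π.ker : Subgroup (HG C W)) ≤ Nat.card (T' ⊓ RG C W : Subgroup G) := by
    refine Nat.card_le_card_of_injective (fun x : (K' ⊓ π.ker : Subgroup (HG C W)) =>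
      (⟨x.1.1, mem_subgroupOf.1 x.2.1, ?_⟩ : (T' ⊓ RG C W : Subgroup G))) ?_
    · exact hkerR x.1 x.2.2
    · intro x y hxy
      apply Subtype.ext
      apply Subtype.ext
      exact congrArg (Subtype.val : (T' ⊓ RG C W : Subgroup G) → G) hxy
  -- the Sylow subgroup
  obtain ⟨P⟩ : Nonempty (Sylow 2 (P0 C W)) := inferInstance
  have hP0 : P0 C W ≤ HG C W := inf_le_left
  set ψ : P0 C W →* HG C W ⧸ R' := π.comp (Subgroup.inclusion hP0) with hψ
  have hsurj : Function.Surjective ψ := by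
    intro q
    obtain ⟨h, rfl⟩ := QuotientGroup.mk_surjective q
    obtain ⟨k, hk, hkh⟩ := exists_P0 hE h.2
    refine ⟨⟨k⁻¹ * h, hkh⟩, ?_⟩
    change ((Subgroup.inclusion hP0 ⟨k⁻¹ * h, hkh⟩ : HG C W) : HG C W ⧸ R') = (h : HG C W ⧸ R')
    rw [QuotientGroup.eq, mem_subgroupOf]
    change (k⁻¹ * (h : G))⁻¹ * h ∈ RG C W
    have h3 := conj_mem_RG (inv_mem h.2) hk
    have e : (k⁻¹ * (h : G))⁻¹ * h = (h : G)⁻¹ * k * ((h : G)⁻¹)⁻¹ := by group
    rw [e]
    exact h3
  have e4 := card_map_mul (P : Subgroup (P0 C W)) ψ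
  have hPT : Nat.card ((P : Subgroup (P0 C W)).map (P0 C W).subtype) = Nat.card P :=
    Subgroup.card_map_of_injective (P0 C W).subtype_injective
  have hcP : Nat.card P = Nat.card T := by
    apply le_antisymm
    · rw [← hPT]
      refine hT.max _ ?_ (P.2.map _)
      rintro _ ⟨x, -, rfl⟩
      exact x.2
    · have h3 : IsPGroup 2 (T.subgroupOf (P0 C W)) := hT.two.comap_subtype
      have h4 := card_le_sylow P h3
      rwa [StdSpSix.QLevel.card_sub_eq hT.le] at h4
  have hSyl : IsSyl (P0 C W) ((P : Subgroup (P0 C W)).map (P0 C W).subtype) := by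
    refine hT.of_card ?_ (P.2.map _) (by rw [hPT, hcP])
    rintro _ ⟨x, -, rfl⟩
    exact x.2
  have hA := AG_le hW hSyl
  have ht := t_mem hSyl
  have hmem : ∀ g : G, g ∈ (P : Subgroup (P0 C W)).map (P0 C W).subtype → g ∈ RG C W →
      ∃ h : g ∈ P0 C W, (⟨g, h⟩ : P0 C W) ∈ ((P : Subgroup (P0 C W)) ⊓ ψ.ker : Subgroup (P0 C W)) := by
    rintro _ ⟨x, hx, rfl⟩ hg
    have h3 : ψ x = 1 := by
      change ((Subgroup.inclusion hP0 x : HG C W) : HG C W ⧸ R') = 1
      rw [QuotientGroup.eq_one_iff, mem_subgroupOf]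
      exact hg
    exact ⟨x.2, hx, h3⟩
  have hAR : ∀ g ∈ AG C W, g ∈ RG C W := by
    intro g hg
    obtain ⟨a, ha, rfl⟩ := mem_AG.1 hg
    exact ⟨0, zero_mem _, tr_a hW ha⟩
  have e5 : 2 * Nat.card (AG C W) ≤ Nat.card ((P : Subgroup (P0 C W)) ⊓ ψ.ker : Subgroup (P0 C W)) := by
    have h3 : Nat.card (Bool × AG C W) ≤ Nat.card ((P : Subgroup (P0 C W)) ⊓ ψ.ker : Subgroup (P0 C W)) := by
      have hb : ∀ x : Bool × AG C W, (if x.1 then C.t * x.2 else (x.2 : G)) ∈
          (P : Subgroup (P0 C W)).map (P0 C W).subtype ∧ (if x.1 then C.t * x.2 else (x.2 : G)) ∈ RG C W := by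
        rintro ⟨i, x⟩
        cases i
        · exact ⟨hA x.2, hAR _ x.2⟩
        · exact ⟨mul_mem ht (hA x.2), mul_mem t_mem_RG (hAR _ x.2)⟩
      refine Nat.card_le_card_of_injective (fun x => (⟨_, (hmem _ (hb x).1 (hb x).2).choose_spec⟩ :
        ((P : Subgroup (P0 C W)) ⊓ ψ.ker : Subgroup (P0 C W)))) ?_
      rintro ⟨i, x⟩ ⟨j, y⟩ hxy
      have h4 := congrArg (fun z : ((P : Subgroup (P0 C W)) ⊓ ψ.ker : Subgroup (P0 C W)) => ((z : P0 C W) : G)) hxy
      change (if i then C.t * x else (x : G)) = (if j then C.t * y else (y : G)) at h4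
      obtain ⟨a, ha, hxa⟩ := mem_AG.1 x.2
      obtain ⟨c, hc, hyc⟩ := mem_AG.1 y.2
      cases i <;> cases j
      · simp only [Bool.false_eq_true, if_false] at h4
        rw [Prod.mk.injEq]
        exact ⟨rfl, Subtype.ext h4⟩
      · exfalso
        simp only [Bool.false_eq_true, if_false, if_true] at h4
        apply C.tL
        have : C.t = (a : G) * (c : G)⁻¹ := by rw [← hxa, h4, hyc, mul_inv_cancel_right]
        rw [this]
        exact mul_mem a.2 (inv_mem c.2)
      · exfalso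
        simp only [Bool.false_eq_true, if_false, if_true] at h4
        apply C.tL
        have : C.t = (c : G) * (a : G)⁻¹ := by rw [← hyc, ← h4, hxa, mul_inv_cancel_right]
        rw [this]
        exact mul_mem c.2 (inv_mem a.2)
      · simp only [if_true] at h4
        rw [Prod.mk.injEq]
        exact ⟨rfl, Subtype.ext (mul_left_cancel h4)⟩
    rw [Nat.card_prod] at h3
    have h4 : Nat.card Bool = 2 := by simp
    rwa [h4] at h3
  have e6 : Nat.card (K'.map π) ≤ Nat.card ((P : Subgroup (P0 C W)).map ψ) := by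
    have h3 : IsPGroup 2 (K'.map π) := (h2.comap_subtype).map _
    exact card_le_sylow (P.mapSurjective hsurj) h3
  have hpos : 0 < Nat.card (K'.map π) := Nat.card_pos
  have hpos2 : 0 < Nat.card (AG C W) := Nat.card_pos
  have e7 : Nat.card T ≤ Nat.card (AG C W) * Nat.card (K'.map π) := by
    rw [← hc, ← e2, e1]
    exact Nat.mul_le_mul_right _ (e3.trans hM)
  have e8 : 2 * Nat.card (AG C W) * Nat.card (K'.map π) ≤ Nat.card T := by
    rw [← hcP, e4]
    exact Nat.mul_le_mul e5 e6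
  have e9 : 0 < Nat.card (AG C W) * Nat.card (K'.map π) := Nat.mul_pos hpos2 hpos
  have e10 : 2 * Nat.card (AG C W) * Nat.card (K'.map π) = 2 * (Nat.card (AG C W) * Nat.card (K'.map π)) := by ring
  omega

/-- **step 2**: a translation moving `F` is conjugate to `t λ` -/
theorem exists_conj {d : G} (hd : d ∈ RG C W) (hd1 : (⟨d, RG_le_HG hd⟩ : HG C W) ∉ H1 hW hr hE f)
    (hdd : d * d = 1) : ∃ k ∈ HG C W, ∃ l : C.L, l ∈ AW C.S W ∧ δ C.S l = 0 ∧ k * d * k⁻¹ = C.t * l := by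
  obtain ⟨w, hw, hTr⟩ := id hd
  obtain ⟨z, hz⟩ := f.exists_mem hW hr hE hw
  have h2 : Tr C W 0 (z * d) := by
    have := hz.2.1.1.mul hw hTr
    rwa [aa] at this
  obtain ⟨a, ha, h3 | h3⟩ := h2.zero
  · -- `d = z a` normalises `F`
    exfalso
    apply hd1
    rw [mem_H1_iff]
    intro w' z' hz'
    refine ⟨w', ?_⟩
    have h4 : d = z * a := by rw [← h3, ← mul_assoc, hz.2.1.2, one_mul]
    have h5 := a_mem_H1 hW f hr hE ha hz'
    have h6 := f.commute hW hr hE hz h5
    have h7 : d * z' * d⁻¹ = a * z' * (a : G)⁻¹ := by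
      calc d * z' * d⁻¹ = z * (a * z' * (a : G)⁻¹) * z⁻¹ := by rw [h4]; group
        _ = _ := by rw [h6.eq, mul_inv_cancel_right]
    change F C W y0 y1 w' (d * z' * d⁻¹)
    rw [h7]
    exact h5
  · have h4 : d = z * (C.t * a) := by rw [← h3, ← mul_assoc, hz.2.1.2, one_mul]
    have hw0 : w = 0 := by
      by_contra hw0
      apply sq_yta hW hw hw0 hz.2.1 ha
      rw [← h4, hdd]
    subst hw0
    obtain ⟨c, hc, hc0, hzc⟩ := f.zero hW hz
    have h5 : d = C.t * ((c * a : C.L) : G) := by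
      rw [h4, hzc, ← mul_assoc, Lt, Subgroup.coe_mul, mul_assoc]
    have hca : c * a ∈ AW C.S W := mul_mem hc ha
    obtain ⟨k, hk⟩ := f.exists_mem hW hr hE (hW.δ_mem hca)
    refine ⟨k, RG_le_HG ⟨_, hk.1, hk.2.1.1⟩, C.S.τ (δ C.S (c * a)) * (c * a),
      mul_mem (hW.τ_mem hk.1) hca, ?_, ?_⟩
    · rw [hW.δ_mul (hW.τ_mem hk.1) hca, δ_τ, aa]
    · have h6 := hk.2.1.1.conj_t
      have h7 := hk.2.1.1.conj_a hW hk.1 hca
      rw [s_self, mul_one] at h7
      rw [h5]
      calc k * (C.t * ((c * a : C.L) : G)) * k⁻¹ = (k * C.t * k⁻¹) * (k * ((c * a : C.L) : G) * k⁻¹) := by group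
        _ = C.t * C.b (δ C.S (c * a)) * ((c * a : C.L) : G) := by rw [h6, h7]
        _ = _ := by rw [mul_assoc]; rfl

end frame

omit [Finite G] in
/-- **step 3a**: an element of `H` commuting with `t λ` commutes with `t` -/
theorem mem_P0_of_commute (hW : Max C.S W) (hE : ∀ v ∈ W, v ≠ 0 → ∃ y, E C W v y) {l : C.L} (hl : l ∈ AW C.S W)
    (hl0 : δ C.S l = 0) {x : G} (hx : x ∈ HG C W) (hc : Commute x (C.t * l)) : x ∈ P0 C W := by
  obtain ⟨n, hn, v, hv, h1⟩ := id hx
  obtain ⟨c, hcA, hc1, hc2⟩ := Aff.conj_a hW hE hn hv h1 hl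
  have h2 := h1 0 (zero_mem _)
  rw [C.b_zero, mul_one, map_zero, zero_add] at h2
  have h3 : x * (C.t * l) * x⁻¹ = C.t * l := by rw [hc.eq, mul_inv_cancel_right]
  have h4 : x * (C.t * l) * x⁻¹ = (x * C.t * x⁻¹) * (x * l * x⁻¹) := by group
  rw [h4, h2, hc1, mul_assoc] at h3
  have h5 := mul_left_cancel h3
  have h6 : C.S.τ v * c = l := Subtype.ext h5
  have h7 := congrArg (δ C.S) h6
  rw [hW.δ_mul (hW.τ_mem hv) hcA, δ_τ, hc2, hl0, map_zero, add_zero] at h7
  refine mem_P0.2 ⟨hx, ?_⟩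
  rw [h7, C.b_zero, mul_one] at h2
  exact mul_inv_eq_iff_eq_mul.1 h2

omit [Finite V] [Finite G] in
/-- an element of `C_H(t)` acts linearly on `Ω` -/
theorem P0.conj_b {x : G} (hx : x ∈ P0 C W) : ∃ m : C.L, (x = m ∨ x = C.t * m) ∧
    (∀ w, w ∈ W ↔ C.S.ρ m w ∈ W) ∧ ∀ w, x * C.b w * x⁻¹ = C.b (C.S.ρ m w) := by
  obtain ⟨⟨n, hn, v, hv, h1⟩, h2⟩ := mem_P0.1 hx
  have h3 : v = 0 := by
    have h4 := h1 0 (zero_mem _)
    rw [C.b_zero, mul_one, map_zero, zero_add, h2, mul_inv_cancel_right] at h4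
    apply C.b_inj
    rw [C.b_zero]
    have : C.t * 1 = C.t * C.b v := by rw [mul_one]; exact h4
    exact (mul_left_cancel this).symm
  subst h3
  obtain ⟨m, hm, hmn⟩ := Aff.exists_L h1
  refine ⟨m, hm, ?_, ?_⟩
  · intro x
    constructor
    · intro hx
      rw [hmn x hx]
      exact (hn x).1 hx
    · intro hx
      have hx' : C.S.ρ n⁻¹ (C.S.ρ m x) ∈ W := (hn.inv _).1 hx
      have h3 := hmn _ hx'
      rw [C.S.ρ_apply_inv] at h3
      have h4 := C.S.ρ_inj m h3
      rwa [← h4]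
  · intro w
    rw [← C.b_conj]
    rcases hm with h4 | h4
    · rw [h4]
    · rw [h4]
      have h5 := Lt (C := C) (m * C.S.τ w * m⁻¹)
      have h6 : ((m * C.S.τ w * m⁻¹ : C.L) : G) = (m : G) * C.b w * (m : G)⁻¹ := rfl
      rw [h6] at h5
      calc C.t * m * C.b w * (C.t * m)⁻¹ = C.t * ((m : G) * C.b w * (m : G)⁻¹) * C.t⁻¹ := by group
        _ = ((m : G) * C.b w * (m : G)⁻¹) * (C.t * C.t⁻¹) := by rw [← h5]; group
        _ = _ := by rw [mul_inv_cancel, mul_one]

/-- a 2-subgroup of `C_H(t)` fixes a nonzero vector of `W` -/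
theorem exists_fixed (hr : 4 ≤ Module.finrank (ZMod 2) W) {T : Subgroup G} (hT : T ≤ P0 C W) (h2 : IsPGroup 2 T) :
    ∃ e ∈ W, e ≠ 0 ∧ ∀ x ∈ T, x * C.b e * x⁻¹ = C.b e := by
  have : Fact (Nat.Prime 2) := ⟨Nat.prime_two⟩
  let X := {g : G // ∃ w ∈ W, g = C.b w}
  let act : MulAction T X :=
    { smul := fun x g => ⟨x * g * (x : G)⁻¹, by
        obtain ⟨w, hw, h⟩ := g.2
        obtain ⟨m, -, hm, h3⟩ := P0.conj_b (hT x.2)
        exact ⟨_, (hm w).1 hw, by rw [h, h3]⟩⟩
      one_smul := fun g => Subtype.ext (by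
        change ((1 : T) : G) * g * ((1 : T) : G)⁻¹ = g
        rw [Subgroup.coe_one]; group)
      mul_smul := fun x y g => Subtype.ext (by
        change ((x * y : T) : G) * g * ((x * y : T) : G)⁻¹ = x * (y * g * (y : G)⁻¹) * (x : G)⁻¹
        rw [Subgroup.coe_mul]; group) }
  have h3 := h2.card_modEq_card_fixedPoints X
  have h4 : Nat.card X = Nat.card W := by
    symm
    refine Nat.card_congr (Equiv.ofBijective (fun w : W => (⟨C.b w, w, w.2, rfl⟩ : X)) ⟨?_, ?_⟩)
    · intro u w huw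
      have h5 : C.b u = C.b w := congrArg (fun g : X => (g : G)) huw
      exact Subtype.ext (C.b_inj h5)
    · rintro ⟨g, w, hw, rfl⟩
      exact ⟨⟨w, hw⟩, rfl⟩
  have h5 : 2 ∣ Nat.card W := by
    have h6 : Nat.card W = 2 ^ Module.finrank (ZMod 2) W := by
      have := Fintype.ofFinite W
      have h7 := Module.card_eq_pow_finrank (K := ZMod 2) (V := W)
      rw [Nat.card_eq_fintype_card, h7, ZMod.card]
    rw [h6]
    exact dvd_pow_self 2 (by omega)
  have h6 : 2 ∣ Nat.card (MulAction.fixedPoints T X) := by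
    rw [← h4] at h5
    exact (Nat.ModEq.dvd_iff h3 (dvd_refl 2)).1 h5
  have hone : (⟨C.b 0, 0, zero_mem _, rfl⟩ : X) ∈ MulAction.fixedPoints T X := by
    intro x
    apply Subtype.ext
    change (x : G) * C.b 0 * (x : G)⁻¹ = C.b 0
    rw [C.b_zero]; group
  have : ∃ g ∈ MulAction.fixedPoints T X, (g : G) ≠ 1 := by
    by_contra hcon
    push Not at hcon
    have h7 : Nat.card (MulAction.fixedPoints T X) = 1 := by
      rw [Nat.card_eq_one_iff_exists]
      refine ⟨⟨_, hone⟩, fun g => ?_⟩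
      apply Subtype.ext
      apply Subtype.ext
      rw [hcon g g.2]
      exact C.b_zero.symm
    rw [h7] at h6
    omega
  obtain ⟨g, hg, hg1⟩ := this
  obtain ⟨e, he, hge⟩ := g.2
  refine ⟨e, he, ?_, fun x hx => ?_⟩
  · intro h
    apply hg1
    rw [hge, h, C.b_zero]
  · have h7 := hg ⟨x, hx⟩
    have h8 : x * (g : G) * x⁻¹ = g := congrArg Subtype.val h7
    rwa [hge] at h8

variable (C) in
/-- the short root elements through a point -/
def QG (e : V) : Subgroup G where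
  carrier := {g | ∃ f, C.S.B e f = 0 ∧ (g = s C e f ∨ g = C.b e * s C e f)}
  one_mem' := ⟨0, map_zero _, Or.inl (s_zero e).symm⟩
  mul_mem' := by
    rintro _ _ ⟨f, hf, h1⟩ ⟨f', hf', h2⟩
    have h3 : C.S.B e (f + f') = 0 := by rw [map_add, hf, hf', add_zero]
    have h4 : s C e f * s C e f' = C.b (C.S.B f f' • e) * s C e (f + f') := congrArg Subtype.val (sg_mul C.S hf hf')
    have h5 : C.b e * s C e f = s C e f * C.b e := congrArg Subtype.val (commute_τ_sg C.S (C.S.alt e) hf).eq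
    have h6 := C.b_sq e
    refine ⟨f + f', h3, ?_⟩
    rcases z2 (C.S.B f f') with h7 | h7
    · rw [h7, zero_smul, C.b_zero, one_mul] at h4
      rcases h1 with rfl | rfl <;> rcases h2 with rfl | rfl
      · left; exact h4
      · right; rw [← h4, ← mul_assoc, ← h5, mul_assoc]
      · right; rw [← h4, mul_assoc]
      · left
        calc C.b e * s C e f * (C.b e * s C e f') = (C.b e * s C e f) * C.b e * s C e f' := by group
          _ = s C e f * (C.b e * C.b e) * s C e f' := by rw [h5]; group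
          _ = _ := by rw [h6, mul_one, h4]
    · rw [h7, one_smul] at h4
      rcases h1 with rfl | rfl <;> rcases h2 with rfl | rfl
      · right; exact h4
      · left
        calc s C e f * (C.b e * s C e f') = (s C e f * C.b e) * s C e f' := by group
          _ = C.b e * (s C e f * s C e f') := by rw [← h5]; group
          _ = (C.b e * C.b e) * s C e (f + f') := by rw [h4]; group
          _ = _ := by rw [h6, one_mul]
      · left
        rw [mul_assoc, h4, ← mul_assoc, h6, one_mul]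
      · right
        calc C.b e * s C e f * (C.b e * s C e f') = (C.b e * s C e f) * C.b e * s C e f' := by group
          _ = s C e f * (C.b e * C.b e) * s C e f' := by rw [h5]; group
          _ = _ := by rw [h6, mul_one, h4]
  inv_mem' := by
    rintro _ ⟨f, hf, h1⟩
    have h2 : (s C e f)⁻¹ = s C e f := congrArg Subtype.val (sg_inv C.S hf)
    have h5 : C.b e * s C e f = s C e f * C.b e := congrArg Subtype.val (commute_τ_sg C.S (C.S.alt e) hf).eq
    refine ⟨f, hf, ?_⟩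
    rcases h1 with rfl | rfl
    · left; exact h2
    · right; rw [mul_inv_rev, h2, b_inv, h5]

omit [Finite V] [Finite G] in
theorem isPGroup_QG (e : V) : IsPGroup 2 (QG C e) := by
  intro x
  refine ⟨1, ?_⟩
  obtain ⟨f, hf, h⟩ := x.2
  have h1 : s C e f * s C e f = 1 := congrArg Subtype.val (sg_sq C.S hf)
  have h5 : C.b e * s C e f = s C e f * C.b e := congrArg Subtype.val (commute_τ_sg C.S (C.S.alt e) hf).eq
  apply Subtype.ext
  rw [pow_one, pow_two]
  change (x : G) * x = 1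
  rcases h with h | h
  · rw [h, h1]
  · rw [h]
    calc C.b e * s C e f * (C.b e * s C e f) = (C.b e * s C e f) * C.b e * s C e f := by group
      _ = s C e f * (C.b e * C.b e) * s C e f := by rw [h5]; group
      _ = 1 := by rw [C.b_sq, mul_one, h1]

omit [Finite V] [Finite G] in
theorem QG_le (hW : Max C.S W) {e : V} (he : e ∈ W) : QG C e ≤ P0 C W := by
  have key : ∀ f, C.S.B e f = 0 → s C e f ∈ P0 C W := by
    intro f hf
    have hx : ∀ x ∈ W, C.S.ρ (sg C.S e f) x = x + C.S.B x f • e := by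
      intro x hx
      rw [ρ_sg C.S hf, hW.perp hx he, zero_smul, add_zero]
    have h1 : ∀ x ∈ W, C.S.ρ (sg C.S e f) x ∈ W := by
      intro x hxW
      rw [hx x hxW]
      exact add_mem hxW (Submodule.smul_mem _ _ he)
    refine mem_P0.2 ⟨⟨sg C.S e f, fun x => ⟨h1 x, fun h => ?_⟩, 0, zero_mem _, aff_L _⟩, Lt _⟩
    have h2 := h1 _ h
    rwa [← C.S.ρ_mul, sg_sq C.S hf, C.S.ρ_one] at h2
  rintro _ ⟨f, hf, rfl | rfl⟩
  · exact key f hf
  · exact mul_mem (b_mem_P0 hW (hW.τ_mem he)) (key f hf)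

/-- **step 3b**: an alternating element of `A` commuting with a Sylow 2-subgroup of `C_H(t)` is short -/
theorem alt_cases (hW : Max C.S W) (hr : 4 ≤ Module.finrank (ZMod 2) W) {T : Subgroup G} (hT : IsSyl (P0 C W) T)
    {l : C.L} (hl : l ∈ AW C.S W) (hl0 : δ C.S l = 0) (hc : ∀ x ∈ T, Commute x (l : G)) (hl1 : l ≠ 1) :
    ∃ e u, e ≠ 0 ∧ u ≠ 0 ∧ e ≠ u ∧ C.S.B e u = 0 ∧ l = sg C.S e u := by
  obtain ⟨e, he, he0, hfix⟩ := exists_fixed hr hT.le hT.two
  -- `T` contains the group of the point `e`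
  have hQ : QG C e ≤ T := by
    apply hT.le_of_norm (QG_le hW he) (isPGroup_QG e)
    rintro x hx _ ⟨f, hf, h1⟩
    obtain ⟨m, -, -, h2⟩ := P0.conj_b (hT.le hx)
    have h3 : C.S.ρ m e = e := by
      apply C.b_inj
      rw [← h2, hfix x hx]
    have h4 : x * s C e f * x⁻¹ = s C e (C.S.ρ m f) := by
      have e1 : x * s C e f * x⁻¹ = (x * C.b e * x⁻¹) * (x * C.b f * x⁻¹) * (x * C.b (e + f) * x⁻¹) := by
        change x * (C.b e * C.b f * C.b (e + f)) * x⁻¹ = _
        group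
      rw [e1, h2, h2, h2, map_add, h3]
      rfl
    refine ⟨C.S.ρ m f, ?_, ?_⟩
    · rw [← h3, C.S.inv, hf]
    · rcases h1 with rfl | rfl
      · left; exact h4
      · right
        calc x * (C.b e * s C e f) * x⁻¹ = (x * C.b e * x⁻¹) * (x * s C e f * x⁻¹) := by group
          _ = _ := by rw [h4, hfix x hx]
  have hcomm : ∀ f, C.S.B e f = 0 → C.S.ρ l f + f = 0 ∨ C.S.ρ l f + f = e := by
    intro f hf
    have h1 : Commute (s C e f) (l : G) := hc _ (hQ ⟨f, hf, Or.inl rfl⟩)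
    have h2 : l * sg C.S e f * l⁻¹ = sg C.S e f := by
      apply Subtype.ext
      change (l : G) * s C e f * (l : G)⁻¹ = s C e f
      rw [← h1.eq, mul_inv_cancel_right]
    rw [conj_sg, hl e he] at h2
    have hf' : C.S.B e (C.S.ρ l f) = 0 := by
      have := C.S.inv l e f
      rw [hl e he] at this
      rw [this, hf]
    have h3 := sg_mul C.S hf' hf
    rw [h2, sg_sq C.S hf] at h3
    rcases z2 (C.S.B (C.S.ρ l f) f) with h4 | h4
    · rw [h4, zero_smul, C.S.τ_zero, one_mul] at h3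
      have h5 : C.S.B e (C.S.ρ l f + f) = 0 := by rw [map_add, hf', hf, add_zero]
      rcases sg_eq_one C.S h5 h3.symm with h6 | h6 | h6
      · exact absurd h6 he0
      · exact Or.inl h6
      · exact Or.inr h6.symm
    · exfalso
      rw [h4, one_smul] at h3
      have h5 : C.S.B e (C.S.ρ l f + f) = 0 := by rw [map_add, hf', hf, add_zero]
      apply τ_ne_sg C.S he0 h5
      have h6 := (eq_inv_of_mul_eq_one_left h3.symm)
      rw [h6, sg_inv C.S h5]
  -- a vector not perpendicular to `e`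
  have : ∃ h, C.S.B e h = 1 := by
    by_contra hn
    push Not at hn
    apply he0
    apply C.S.nondeg
    intro w
    rcases z2 (C.S.B e w) with h | h
    · exact h
    · exact absurd h (hn w)
  obtain ⟨h, heh⟩ := this
  have hsq := hW.sq hl
  set u := C.S.n l h with hu
  have huW : u ∈ W := hW.n_mem hl h
  have halt : ∀ x, C.S.B x (C.S.n l x) = 0 := by
    intro x
    have h1 := B_δ (D := C.S) hsq x
    rw [hl0, map_zero, C.S.ρ_eq l x, map_add, C.S.alt, zero_add] at h1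
    exact h1.symm
  have heu : C.S.B e u = 0 := hW.perp he huW
  have key : ∀ x, C.S.n l x = C.S.B x u • e + C.S.B x e • u := by
    intro x
    set x' := x + C.S.B x e • h with hx'
    have h1 : C.S.B e x' = 0 := by
      rw [hx', map_add, map_smul, heh, smul_eq_mul, mul_one, C.S.symm e x]
      rcases z2 (C.S.B x e) with h | h <;> rw [h] <;> decide
    have h2 : C.S.n l x = C.S.n l x' + C.S.B x e • u := by
      rw [hx', map_add, map_smul, ← hu, aab]
    have h3 : C.S.n l x' = C.S.B x' u • e := by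
      have h4 : C.S.B x' u = C.S.B (C.S.n l x') h := C.S.n_adj hsq x' h
      rcases hcomm x' h1 with h5 | h5
      · have h6 : C.S.n l x' = 0 := h5
        rw [h4, h6, map_zero, LinearMap.zero_apply, zero_smul]
      · have h6 : C.S.n l x' = e := h5
        rw [h4, h6, heh, one_smul]
    have h4 : C.S.B x' u = C.S.B x u := by
      rw [hx', map_add, LinearMap.add_apply, map_smul, LinearMap.smul_apply, hu, halt h, smul_zero, add_zero]
    rw [h2, h3, h4]
  have hlsg : l = sg C.S e u := by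
    apply C.S.ext_iff
    intro x
    rw [ρ_sg C.S heu, C.S.ρ_eq, key]
  refine ⟨e, u, he0, ?_, ?_, heu, hlsg⟩
  · intro h0
    apply hl1
    rw [hlsg, h0, sg_zero_right]
  · intro h0
    apply hl1
    rw [hlsg, ← h0, sg_self]

/-- **step 4** -/
theorem mem_HG_of (hW : Max C.S W) {T : Subgroup G} (hT : IsSyl (P0 C W) T) {g : G} (hg : g⁻¹ * C.t * g = C.t)
    (hTg : ∀ x ∈ T, g⁻¹ * x * g ∈ HG C W) : g ∈ HG C W := by
  have h1 : Commute g C.t := by
    change g * C.t = C.t * g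
    calc g * C.t = g * (g⁻¹ * C.t * g) := by rw [hg]
      _ = _ := by group
  have key : ∀ m : C.L, (∀ w ∈ W, (m : G)⁻¹ * C.b w * m ∈ HG C W) → (m : G) ∈ HG C W := by
    intro m hm
    have h2 : ∀ w ∈ W, C.S.ρ m⁻¹ w ∈ W := by
      intro w hw
      set u := C.S.ρ m⁻¹ w with hu
      have h3 : C.b u ∈ HG C W := by
        rw [hu, ← C.b_conj, Subgroup.coe_inv, inv_inv]
        exact hm w hw
      have h4 : C.b u ∈ P0 C W := mem_P0.2 ⟨h3, Lt _⟩
      obtain ⟨m', hm', h5, h6⟩ := P0.conj_b h4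
      by_contra huW
      have : ∃ x ∈ W, C.S.B u x = 1 := by
        by_contra hn
        push Not at hn
        apply huW
        rw [hW]
        intro x hx
        rcases z2 (C.S.B u x) with h | h
        · exact h
        · exact absurd h (hn x hx)
      obtain ⟨x, hx, hux⟩ := this
      have h7 : C.S.ρ m' x = C.S.ρ (C.S.τ u) x := by
        apply C.b_inj
        rw [← h6 x]
        exact C.b_conj (C.S.τ u) x
      have h8 := (h5 x).1 hx
      rw [h7, C.S.hτ, C.S.symm x u, hux, one_smul] at h8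
      apply huW
      have := add_mem hx h8
      rwa [aac] at this
    -- finiteness
    have h3 : W.map (C.S.ρ m⁻¹) ≤ W := by
      rintro _ ⟨w, hw, rfl⟩
      exact h2 w hw
    have h4 : W.map (C.S.ρ m⁻¹) = W := by
      apply Submodule.eq_of_le_of_finrank_eq h3
      exact ((Submodule.equivMapOfInjective (C.S.ρ m⁻¹) (fun a b h => C.S.ρ_inj m⁻¹ h) W).finrank_eq).symm
    refine ⟨m, fun x => ?_, 0, zero_mem _, aff_L m⟩
    constructor
    · intro hx
      rw [← h4] at hx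
      obtain ⟨w, hw, rfl⟩ := hx
      rwa [C.S.ρ_apply_inv]
    · intro hx
      have := h2 _ hx
      rwa [C.S.ρ_inv_apply] at this
  have hAT := AG_le hW hT
  rcases (C.cent g).1 h1 with h2 | h2
  · refine key ⟨g, h2⟩ fun w hw => ?_
    exact hTg _ (hAT (mem_AG.2 ⟨_, hW.τ_mem hw, rfl⟩))
  · have h3 := key ⟨C.t * g, h2⟩ fun w hw => by
      have h4 := hTg _ (hAT (mem_AG.2 ⟨_, hW.τ_mem hw, rfl⟩))
      have h5 : C.t * C.b w * C.t = C.b w := by
        have := Lt (C := C) (C.S.τ w)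
        change C.b w * C.t = C.t * C.b w at this
        rw [← this, mul_assoc, C.tt, mul_one]
      change (C.t * g)⁻¹ * C.b w * (C.t * g) ∈ HG C W
      have h6 : (C.t * g)⁻¹ * C.b w * (C.t * g) = g⁻¹ * C.b w * g := by
        rw [mul_inv_rev, C.t_inv]
        calc g⁻¹ * C.t * C.b w * (C.t * g) = g⁻¹ * (C.t * C.b w * C.t) * g := by group
          _ = _ := by rw [h5]
      rw [h6]
      exact h4
    have h4 : g = C.t * (C.t * g) := by rw [← mul_assoc, C.tt, one_mul]
    rw [h4]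
    exact mul_mem t_mem_HG h3

/-- **Pattern "long only"**: if no `t s_{u,v}` is conjugate to `t` and all translations of `Ω = {t b_x : x ∈ W}` are
induced by involutions, then there is a sign with value `-1` at `t`. -/
theorem main (hW : Max C.S W) (hr : 4 ≤ Module.finrank (ZMod 2) W) (hE : ∀ v ∈ W, v ≠ 0 → ∃ y, E C W v y)
    (hs : ∀ e u, e ≠ 0 → u ≠ 0 → e ≠ u → C.S.B e u = 0 → C.t * s C e u ∉ C.D) : ∃ m : G →* ℤˣ, m C.t = -1 := by
  obtain ⟨v0, v1, y0, y1, f⟩ := exists_frame hW hr hE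
  obtain ⟨T, hT⟩ := exists_isSyl (P0 C W)
  set l : HG C W →* ℤˣ := sgn (H1 hW hr hE f) (index_H1 hW hr hE f) with hl
  have hTP : ∀ x ∈ T, Commute x C.t := fun x hx => (mem_P0.1 (hT.le hx)).2
  apply StdSpSix.TR.exists_hom_of_fixed l C.tt T hT.two hTP
  have huniq : ∀ g : G, ∀ h : g⁻¹ * C.t * g ∈ HG C W, l ⟨g⁻¹ * C.t * g, h⟩ = -1 →
      (∀ x ∈ T, g⁻¹ * x * g ∈ HG C W) → g ∈ HG C W := by
    intro g h hlg hTg
    rw [hl, sgn_eq_neg] at hlg
    have hd2 : (g⁻¹ * C.t * g) * (g⁻¹ * C.t * g) = 1 := by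
      calc (g⁻¹ * C.t * g) * (g⁻¹ * C.t * g) = g⁻¹ * (C.t * C.t) * g := by group
        _ = 1 := by rw [C.tt]; group
    -- the conjugate of `T`
    have hconj : ∀ k : G, Nat.card (T.map (MulAut.conj k).toMonoidHom) = Nat.card T := fun k =>
      Subgroup.card_map_of_injective (MulAut.conj k).injective
    have h1 : T.map (MulAut.conj g⁻¹).toMonoidHom ≤ HG C W := by
      rintro _ ⟨x, hx, rfl⟩
      have := hTg x hx
      change g⁻¹ * x * g⁻¹⁻¹ ∈ HG C W
      rwa [inv_inv]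
    have h2 : g⁻¹ * C.t * g ∈ RG C W := by
      refine mem_RG hW hr hE f hT h1 (hT.two.map _) (hconj _) h hlg ?_
      rintro _ ⟨x, hx, rfl⟩
      have h3 : x * C.t = C.t * x := hTP x hx
      change g⁻¹ * x * g⁻¹⁻¹ * (g⁻¹ * C.t * g) = g⁻¹ * C.t * g * (g⁻¹ * x * g⁻¹⁻¹)
      calc g⁻¹ * x * g⁻¹⁻¹ * (g⁻¹ * C.t * g) = g⁻¹ * (x * C.t) * g := by group
        _ = _ := by rw [h3]; group
    obtain ⟨k, hk, c, hc, hc0, hkd⟩ := exists_conj hW hr hE f h2 hlg hd2
    -- replace `g` by `g k⁻¹`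
    set g' := g * k⁻¹ with hg'
    have e1 : g'⁻¹ * C.t * g' = C.t * c := by
      rw [← hkd, hg']; group
    have e2 : ∀ x ∈ T, g'⁻¹ * x * g' ∈ HG C W := by
      intro x hx
      have : g'⁻¹ * x * g' = k * (g⁻¹ * x * g) * k⁻¹ := by rw [hg']; group
      rw [this]
      exact mul_mem (mul_mem hk (hTg x hx)) (inv_mem hk)
    have e3 : ∀ x ∈ T, Commute (g'⁻¹ * x * g') (C.t * c) := by
      intro x hx
      rw [← e1]
      have h3 : x * C.t = C.t * x := hTP x hx
      change g'⁻¹ * x * g' * (g'⁻¹ * C.t * g') = g'⁻¹ * C.t * g' * (g'⁻¹ * x * g')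
      calc g'⁻¹ * x * g' * (g'⁻¹ * C.t * g') = g'⁻¹ * (x * C.t) * g' := by group
        _ = _ := by rw [h3]; group
    have e4 : ∀ x ∈ T, g'⁻¹ * x * g' ∈ P0 C W := fun x hx => mem_P0_of_commute hW hE hc hc0 (e2 x hx) (e3 x hx)
    have e5 : IsSyl (P0 C W) (T.map (MulAut.conj g'⁻¹).toMonoidHom) := by
      refine hT.of_card ?_ (hT.two.map _) (hconj _)
      rintro _ ⟨x, hx, rfl⟩
      have := e4 x hx
      change g'⁻¹ * x * g'⁻¹⁻¹ ∈ P0 C W
      rwa [inv_inv]
    have e6 : c = 1 := by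
      by_contra hc1
      have h3 : ∀ x ∈ T.map (MulAut.conj g'⁻¹).toMonoidHom, Commute x (c : G) := by
        rintro _ ⟨x, hx, rfl⟩
        have h4 := e3 x hx
        have h5 : Commute (g'⁻¹ * x * g') C.t := (mem_P0.1 (e4 x hx)).2
        have h6 : (c : G) = C.t * (C.t * c) := by rw [← mul_assoc, C.tt, one_mul]
        change Commute (g'⁻¹ * x * g'⁻¹⁻¹) (c : G)
        rw [inv_inv, h6]
        exact h5.mul_right h4
      obtain ⟨e, u, he, hu, heu, hB, hcs⟩ := alt_cases hW hr e5 hc hc0 h3 hc1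
      apply hs e u he hu heu hB
      refine ⟨g'⁻¹, ?_⟩
      rw [inv_inv, e1, hcs]
      rfl
    rw [e6, Subgroup.coe_one, mul_one] at e1
    have e7 := mem_HG_of hW hT e1 e2
    have : g = g' * k := by rw [hg']; group
    rw [this]
    exact mul_mem e7 hk
  have hcard : Nat.card {q : G ⧸ HG C W // StdSpSix.TR.Bad l C.t q ∧ ∀ x ∈ T, x • q = q} = 1 := by
    rw [Nat.card_eq_one_iff_exists]
    refine ⟨⟨((1 : G) : G ⧸ HG C W), ⟨1, rfl, by rw [inv_one, one_mul, mul_one]; exact t_mem_HG, ?_⟩, ?_⟩, ?_⟩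
    · rw [hl, sgn_eq_neg]
      have h1 : (⟨1⁻¹ * C.t * 1, by rw [inv_one, one_mul, mul_one]; exact t_mem_HG⟩ : HG C W) = ⟨C.t, t_mem_HG⟩ :=
        Subtype.ext (by change 1⁻¹ * C.t * 1 = C.t; group)
      rw [h1]
      exact t_notMem hW hr hE f
    · intro x hx
      rw [MulAction.Quotient.smul_mk, smul_eq_mul, mul_one, eq_comm, QuotientGroup.eq, inv_one, one_mul]
      exact (mem_P0.1 (hT.le hx)).1
    · rintro ⟨q, ⟨g, rfl, h, hlg⟩, hfix⟩
      apply Subtype.ext
      change (g : G ⧸ HG C W) = ((1 : G) : G ⧸ HG C W)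
      rw [eq_comm, QuotientGroup.eq, inv_one, one_mul]
      apply huniq g h hlg
      intro x hx
      have := hfix x hx
      rw [MulAction.Quotient.smul_mk, smul_eq_mul, eq_comm, QuotientGroup.eq] at this
      rwa [← mul_assoc] at this
  rw [hcard]
  exact odd_one

end Cfsg.Agent.OddHalf.SpTwoN.LongMain
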