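import Cfsg.Agent.OddHalf.SpTwoN.LBStart
import Cfsg.Agent.OddHalf.SpTwoN.LongMain
import Cfsg.Agent.OddHalf.SpTwo.LongOut

/-!
# Pattern `{L}`: only the transvections are moved

`patL`: then there is a homomorphism to `{1, -1}` with value `-1` at `t`.
-/

set_option autoImplicit false

namespace Cfsg.Agent.OddHalf.SpTwoN.PatL

open Cfsg.Agent.StandardComponent.SpTwo
open Cfsg.Agent.OddHalf.SpTwo
open Cfsg.Agent.OddHalf.SpTwoN
open Cfsg.Agent.OddHalf.SpTwoN.LBStart

section Sp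

variable {X V : Type*} [Group X] [AddCommGroup V] [Module (ZMod 2) V] (D : SpData X V)

/-- a maximal totally isotropic subspace -/
theorem exists_max [Finite V] (h256 : 256 ≤ Nat.card V) :
    ∃ W : Submodule (ZMod 2) V, Iso.Max D W ∧ 4 ≤ Module.finrank (ZMod 2) W := by
  obtain ⟨W, hW, hmax⟩ := (wellFounded_gt (α := Submodule (ZMod 2) V)).has_min
    {A : Submodule (ZMod 2) V | A ≤ perp D A} ⟨⊥, (bot_le : (⊥ : Submodule (ZMod 2) V) ≤ perp D ⊥)⟩
  have hW' : W ≤ perp D W := hW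
  have hperp : perp D W ≤ W := by
    intro x hx
    by_contra hxW
    refine hmax (W ⊔ ln x) ?_ ?_
    · change W ⊔ ln x ≤ perp D (W ⊔ ln x)
      refine sup_le ?_ ?_
      · intro w hw
        rw [mem_perp_sup]
        refine ⟨hW' hw, (mem_perp_ln D).2 ?_⟩
        rw [D.symm]
        exact hx w hw
      · intro y hy
        rcases mem_ln.1 hy with rfl | rfl
        · exact zero_mem _
        · exact (mem_perp_sup D).2 ⟨hx, (mem_perp_ln D).2 (D.alt _)⟩
    · refine lt_of_le_of_ne le_sup_left ?_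
      intro h
      apply hxW
      rw [h]
      exact Submodule.mem_sup_right (self_mem_ln x)
  refine ⟨W, fun x => ⟨fun hx => hW' hx, fun hx => hperp hx⟩, ?_⟩
  have h1 := finrank_perp D W
  rw [le_antisymm hperp hW'] at h1
  have h2 := finrank_ge h256
  omega

end Sp

variable {G V : Type*} [Group G] [AddCommGroup V] [Module (ZMod 2) V] {C : Ctx G V}

theorem bb_eq_q {x y : V} (hB : C.S.B x y = 0) : C.b x * C.b y = (q C.S (x + y) x 1 : C.L) := by
  have h3 : C.S.B x (x + y) = 0 := by rw [map_add, C.S.alt, hB, add_zero]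
  rw [← τ_mul_τ_add C.S h3, show x + (x + y) = y from aac _ _]
  rfl

theorem not_bb (h1 : NQ C 1) {x y : V} (hx : x ≠ 0) (hy : y ≠ 0) (hxy : x ≠ y) (hB : C.S.B x y = 0) :
    C.t * (C.b x * C.b y) ∉ C.D := by
  rw [bb_eq_q hB]
  refine h1 _ _ ?_ ?_ ?_
  · intro h
    exact hxy (eq_of_add _ _ h)
  · rw [C.S.symm, map_add, C.S.alt, hB, add_zero]
  · rw [mem_ln]
    rintro (h | h)
    · exact hx h
    · exact hy (add_eq_left.1 h.symm)

/-- the type of the elements `y` is `1` -/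
theorem kappa_one (hL : PL C) (h1 : NQ C 1) {v : V} (hv : v ≠ 0) {y : G} (hy : IsY C v y) {κ : ZMod 2}
    {Q : V → ZMod 2} (ht : HasType C v y κ Q) : κ = 1 := by
  have hfinV := C.finV
  have h256 := C.cardV
  rcases z2 κ with hκ | hκ
  · exfalso
    obtain ⟨w, hw, hwl⟩ := room C.S h256 (A := ln v) (A' := ln v) (by
      have := finrank_ln_le v; omega)
    rw [mem_perp_ln] at hw
    have hvw : C.S.B v w = 0 := by rw [C.S.symm]; exact hw
    have hw0 : w ≠ 0 := ne_zero_of_notMem hwl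
    have hwv : w ≠ v := fun h => hwl (by rw [h]; exact self_mem_ln v)
    have h2 : y * (C.t * C.b w) * y⁻¹ ∈ C.D := C.D_conj (hL w hw0) y
    have h3 : y * (C.t * C.b w) * y⁻¹ = C.t * (C.b v * (y * C.b w * y)) := by
      rw [hy.inv_eq, hy.mul_conj, hy.conj_t, mul_assoc]
    rw [h3, ht.form w hw, hκ, add_zero] at h2
    rcases z2 (Q w) with hQ | hQ
    · rw [hQ, zero_smul, q_zero, one_mul] at h2
      exact not_bb h1 hv hw0 hwv.symm hvw h2
    · rw [hQ, one_smul, q_mul_τ C.S hw] at h2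
      refine not_bb h1 (y := w + v) hv ?_ ?_ ?_ h2
      · intro h
        exact hwv (eq_of_add _ _ h)
      · intro h
        exact hw0 (add_eq_right.1 h.symm)
      · rw [map_add, hvw, C.S.alt, add_zero]
  · exact hκ

/-- the elements `y` inducing the translations of `t W` -/
theorem exists_E [Finite G] (hL : PL C) (h1 : NQ C 1) {W : Submodule (ZMod 2) V} (hW : Iso.Max C.S W) {v : V}
    (hvW : v ∈ W) (hv : v ≠ 0) : ∃ y, Transl.E C W v y := by
  have hfinV := C.finV
  have hex : ∃ g v, v ≠ 0 ∧ g * C.t * g⁻¹ = C.t * C.b v := by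
    obtain ⟨g, hg⟩ := hL v hv
    exact ⟨g, v, hv, hg.symm⟩
  obtain ⟨y, hy⟩ := SpTwo.exists_y C hex hv
  obtain ⟨κ, Q, ht⟩ := hy.hasType hv
  obtain rfl := kappa_one hL h1 hv hy ht
  have hWv : ∀ x ∈ W, C.S.B x v = 0 := fun x hx => hW.perp hx hvW
  have hQ0 : Q 0 = 0 := by
    have h := ht.quad 0 0 (B_zero C.S v) (B_zero C.S v)
    rw [add_zero, B_zero, mul_zero, add_zero, z2_add] at h
    exact h
  let f : W →+ ZMod 2 :=
    { toFun := fun w => Q w
      map_zero' := hQ0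
      map_add' := fun a b => by
        change Q ((a : V) + b) = Q a + Q b
        rw [ht.quad a b (hWv a a.2) (hWv b b.2), hW.perp a.2 b.2, mul_zero, add_zero] }
  obtain ⟨p, hp⟩ := B_surj_on C.S W (f.toZModLinearMap 2)
  have hp' : ∀ u ∈ W, C.S.B p u = Q u := fun u hu => hp ⟨u, hu⟩
  have hpv : C.S.B p v = 0 := by rw [hp' v hvW, ht.zero]
  have hy' := hy.mul_q hpv 0
  have ht' := ht.mul_q hy hpv 0
  refine ⟨_, ?_, hy'.sq⟩
  intro x hx
  have h3 := ht'.form x (hWv x hx)
  have h4 : Q x + C.S.B p x = 0 := by rw [hp' x hx, z2_add]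
  rw [h4, zero_add, one_smul] at h3
  rw [hy'.inv_eq, hy'.mul_conj, hy'.conj_t, h3, mul_assoc]
  congr 1
  change ((C.S.τ v * (q C.S v x 0 * C.S.τ x) : C.L) : G) = C.S.τ (x + v)
  rw [← q_mul_τ C.S (hWv x hx), ← mul_assoc, ← q_zero_one, q_mul C.S (B_zero C.S v) (hWv x hx), zero_add,
    add_zero, B_zero, add_zero]

/-- **Pattern `{L}`** -/
theorem patL [Finite G] (hL : PL C) (h0 : NQ C 0) (h1 : NQ C 1) : ∃ m : G →* ℤˣ, m C.t = -1 := by
  have hfinV := C.finV
  obtain ⟨W, hW, hr⟩ := exists_max C.S C.cardV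
  refine LongMain.main hW hr (fun v hvW hv => exists_E hL h1 hW hvW hv) ?_
  intro e u he hu heu hB
  have h2 := h0 e u he hB (notMem_ln hu heu.symm)
  have h3 : Transl.s C e u = (q C.S e u 0 : C.L) := by
    change ((Words.sg C.S e u : C.L) : G) = _
    rw [Words.sg, q, zero_smul, C.S.τ_zero, mul_one]
  rw [h3]
  exact h2

end Cfsg.Agent.OddHalf.SpTwoN.PatL
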