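import Cfsg.Agent.OddHalf.SpTwoN.OfStd
import Cfsg.Agent.OddHalf.SpTwoN.PatL
import Cfsg.Agent.OddHalf.SpTwoN.CCMain
import Cfsg.Agent.OddHalf.SpTwoN.Dich
import Cfsg.Agent.OddHalf.SpTwo.PatSCtx

/-!
# Assembly of the row `K = Sp_2n(2)`, `n ≥ 4`

`exists_yBase`: a `y` at one vector commuting with `C_L(b_v)` gives the equivariant family `YBase`.
`Inputs`: the inputs (existence of the short `y`, `κ = 0` if all classes are moved, the case `(C, O)`);
`false_of_inputs`: no standard `K ≃* PSp m F`, `|F| = 2`, `m ≥ 4`.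
-/

set_option autoImplicit false

namespace Cfsg.Agent.OddHalf.SpTwoN.Asm

open Cfsg.Agent.StandardComponent.SpTwo Cfsg.Agent.OddHalf Cfsg.Agent.OddHalf.SpTwo
open Cfsg.Agent.OddHalf.SpTwoN Cfsg.Agent.OddHalf.SpTwoN.LBStart

section

variable {G V : Type*} [Group G] [AddCommGroup V] [Module (ZMod 2) V]

/-- `y` conjugates `t` to `t b_v` and commutes with `C_L(b_v)` -/
structure Long (C : Ctx G V) (v : V) (y : G) : Prop where
  sq : y * y = 1
  conj_t : y * C.t * y = C.t * C.b v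
  comm : ∀ k : C.L, C.S.ρ k v = v → (k : G) * y = y * k

open Classical in
/-- the equivariant family -/
noncomputable def fam (C : Ctx G V) (v₀ : V) (y₀ : G) (v : V) : G :=
  if v = 0 then 1 else if h : ∃ k : C.L, C.S.ρ k v₀ = v then (h.choose : G) * y₀ * (h.choose : G)⁻¹ else 1

theorem fam_eq {C : Ctx G V} {v₀ : V} {y₀ : G} (hv₀ : v₀ ≠ 0) (h : Long C v₀ y₀) (k : C.L) :
    fam C v₀ y₀ (C.S.ρ k v₀) = (k : G) * y₀ * (k : G)⁻¹ := by
  have h0 : C.S.ρ k v₀ ≠ 0 := by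
    intro h1
    rw [← map_zero (C.S.ρ k)] at h1
    exact hv₀ (C.S.ρ_inj k h1)
  have hex : ∃ k' : C.L, C.S.ρ k' v₀ = C.S.ρ k v₀ := ⟨k, rfl⟩
  unfold fam
  rw [if_neg h0, dif_pos hex]
  obtain ⟨g, hg⟩ : ∃ g, g = hex.choose := ⟨_, rfl⟩
  have hg2 : C.S.ρ g v₀ = C.S.ρ k v₀ := by rw [hg]; exact hex.choose_spec
  rw [← hg]
  have h1 : C.S.ρ (k⁻¹ * g) v₀ = v₀ := by rw [C.S.ρ_mul, hg2, C.S.ρ_inv_apply]
  have h2 := h.comm _ h1
  have h3 : ((k⁻¹ * g : C.L) : G) = (k : G)⁻¹ * g := rfl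
  rw [h3] at h2
  calc (g : G) * y₀ * (g : G)⁻¹ = k * ((k : G)⁻¹ * g * y₀) * (g : G)⁻¹ := by group
    _ = _ := by rw [h2]; group

theorem exists_yBase (C : Ctx G V) {v₀ : V} {y₀ : G} (hv₀ : v₀ ≠ 0) (h : Long C v₀ y₀) :
    ∃ y : V → G, YBase C y := by
  have := C.finV
  have hb : ∀ k : C.L, (k : G) * C.b v₀ * (k : G)⁻¹ = C.b (C.S.ρ k v₀) := fun k => C.b_conj k v₀
  have ht : ∀ k : C.L, (k : G) * C.t = C.t * k := fun k => C.t_comm k.2
  have hy0 : fam C v₀ y₀ 0 = 1 := by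
    unfold fam
    rw [if_pos rfl]
  refine ⟨fam C v₀ y₀, hy0, fun u => ?_, fun u => ?_, fun k u => ?_⟩
  · by_cases hu : u = 0
    · rw [hu, hy0, mul_one]
    obtain ⟨k, rfl⟩ := trans_vec C.S hv₀ hu
    rw [fam_eq hv₀ h]
    calc (k : G) * y₀ * (k : G)⁻¹ * ((k : G) * y₀ * (k : G)⁻¹) = k * (y₀ * y₀) * (k : G)⁻¹ := by group
      _ = 1 := by rw [h.sq]; group
  · by_cases hu : u = 0
    · rw [hu, hy0, mul_one, C.tt, C.b_zero, mul_one]
    obtain ⟨k, rfl⟩ := trans_vec C.S hv₀ hu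
    rw [fam_eq hv₀ h, ← hb]
    have h1 : C.t * y₀ * C.t = C.b v₀ * y₀ := by
      have h2 := h.conj_t
      have h3 : y₀ * C.b v₀ = C.b v₀ * y₀ := (h.comm (C.S.τ v₀) (by rw [C.S.hτ, C.S.alt, zero_smul, add_zero])).symm
      calc C.t * y₀ * C.t = C.t * (y₀ * C.t * y₀) * y₀⁻¹ := by group
        _ = (C.t * C.t) * C.b v₀ * y₀⁻¹ := by rw [h2]; group
        _ = C.b v₀ * y₀ := by
          rw [C.tt, one_mul, inv_eq_of_mul_eq_one_left h.sq]
    have h2 := ht k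
    have h3 : (k : G)⁻¹ * C.t = C.t * (k : G)⁻¹ := by
      rw [inv_mul_eq_iff_eq_mul, ← mul_assoc, h2, mul_inv_cancel_right]
    calc C.t * ((k : G) * y₀ * (k : G)⁻¹) * C.t = (C.t * k) * y₀ * ((k : G)⁻¹ * C.t) := by group
      _ = k * (C.t * y₀ * C.t) * (k : G)⁻¹ := by rw [← h2, h3]; group
      _ = _ := by rw [h1]; group
  · by_cases hu : u = 0
    · rw [hu, map_zero, hy0]
      group
    obtain ⟨g, rfl⟩ := trans_vec C.S hv₀ hu
    rw [← C.S.ρ_mul, fam_eq hv₀ h, fam_eq hv₀ h, Subgroup.coe_mul]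
    group

/-- the case `(C, O)` for a family `y` -/
def CO (C : Ctx G V) (y : V → G) : Prop :=
  ∀ u v, u ≠ 0 → v ≠ 0 → u ≠ v → C.S.B u v = 0 → y u * y v * y u * y v = C.b (u + v)

end

universe u

/-- the inputs -/
structure Inputs : Prop where
  /-- existence of the short `y` -/
  short : ∀ (G : Type u) (V : Type) [Group G] [Finite G] [AddCommGroup V] [Module (ZMod 2) V] (C : Ctx G V), PQ C 0 →
    ∀ u w, C.S.B u w = 0 → u ≠ 0 → w ≠ 0 → u ≠ w → ∃ y : G, y * y = 1 ∧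
      y * C.t * y = C.t * ((Words.sg C.S u w : C.L) : G) ∧
      ∀ e, C.S.B u e = 0 → C.S.B w e = 0 → y * C.b e = C.b e * y
  /-- `κ = 0` if all classes are moved -/
  kappa : ∀ (G : Type u) (V : Type) [Group G] [Finite G] [AddCommGroup V] [Module (ZMod 2) V] (C : Ctx G V), PL C →
    PQ C 0 → PQ C 1 → ∃ v y, v ≠ 0 ∧ Long C v y
  /-- the case `(C, O)` -/
  co : ∀ (G : Type u) (V : Type) [Group G] [Finite G] [AddCommGroup V] [Module (ZMod 2) V] (C : Ctx G V) (y : V → G),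
    YBase C y → CO C y → ∃ m : G →* ℤˣ, m C.t = -1

section

variable {G : Type u} {V : Type} [Group G] [AddCommGroup V] [Module (ZMod 2) V]

theorem of_ctx (I : Inputs.{u}) [Finite G] (C : Ctx G V) {S : Sylow 2 C.L} {v w : V} (F : Flag C S v w)
    {f e : ZMod 2} (hfe : f ≠ 0 ∨ e ≠ 0) (h : C.t * (q C.S v (f • w) e : C.L) ∈ C.D) :
    ∃ m : G →* ℤˣ, m C.t = -1 := by
  have := C.finV
  rcases F.start' hfe h with ⟨hL, h0, h1⟩ | ⟨hL, h0, h1⟩ | ⟨hL, h0, h1⟩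
  · exact PatL.patL hL h0 h1
  · refine PatS.main_of_ctx C hL ?_ (I.short G V C h0)
    intro u w huw hu hw hne hmem
    refine h1 (u + w) u ?_ ?_ ?_ ?_
    · intro h2
      exact hne (eq_of_add _ _ h2)
    · rw [C.B_add_left, C.B_self, C.symm, huw, add_zero]
    · rw [mem_ln]
      push Not
      refine ⟨hu, fun h2 => hw ?_⟩
      have := congrArg (fun z => u + z) h2
      simp only [aa, aac] at this
      exact this.symm
    · have h2 : q C.S (u + w) u 1 = C.S.τ u * C.S.τ w := by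
        have h4 : C.S.τ (u + w) * C.S.τ u = C.S.τ u * C.S.τ (u + w) := C.S.τ_commute (by
          rw [C.B_add_left, C.B_self, C.symm, huw, add_zero])
        have h5 : C.S.τ (u + w) * C.S.τ w = C.S.τ w * C.S.τ (u + w) := C.S.τ_commute (by
          rw [C.B_add_left, C.B_self, huw, add_zero])
        have h6 : u + w + u = w := by rw [add_comm u w, aab]
        unfold q
        rw [one_smul, h6, h4, mul_assoc, mul_assoc, ← mul_assoc (C.S.τ (u + w)), h5, mul_assoc (C.S.τ w),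
          C.S.τ_sq, mul_one]
      rw [h2]
      exact hmem
  · obtain ⟨v₀, y₀, hv₀, hy₀⟩ := I.kappa G V C hL h0 h1
    obtain ⟨y, Y⟩ := exists_yBase C hv₀ hy₀
    rcases Dich.dichotomy Y with hY | hY
    · exact hY.main
    · exact I.co G V C y Y hY

theorem no_hom [Finite G] (hG : commutator G = ⊤) (m : G →* ℤˣ) {t : G} (hm : m t = -1) : False := by
  have h1 : commutator G ≤ m.ker := Abelianization.commutator_subset_ker m
  rw [hG] at h1
  have h2 : m t = 1 := h1 (Subgroup.mem_top t)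
  rw [h2] at hm
  exact absurd hm (by decide)

end

theorem false_of_inputs (I : Inputs.{u}) {G : Type u} [Group G] (C₀ : Iface.Ctx G) {K : Subgroup G}
    (S : Iface.Std G K) (hcyc : Iface.Cyc K) {m : ℕ} (hm : 4 ≤ m) {F : Type*} [Field F] [Fintype F]
    (hF : Fintype.card F = 2) (e : K ≃* PSp m F) : False := by
  have := C₀.fin
  obtain ⟨C, P, v, w, f, i, n, hv, hvw, hw, hP1, hP2, hfe, -, hn⟩ := OfStd.exists_ctx_of_psp C₀ S hcyc hm hF e
  have hF : Flag C P v w := ⟨hv, hvw, hw, hP1, hP2⟩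
  obtain ⟨μ, hμ⟩ := of_ctx I C hF hfe ⟨n, hn.symm⟩
  exact no_hom (Front.FE.commutator_eq_top C₀) μ hμ

end Cfsg.Agent.OddHalf.SpTwoN.Asm
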