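import Cfsg.Agent.OddHalf.SpTwoN.KappaPen
import Cfsg.Agent.OddHalf.SpTwoN.PatL

/-!
# The commutator of `y` with a long `y_w`

`W` maximal isotropic, `u, v, w ∈ W` independent, `n` a long involution over `w` inducing a translation on `t W`.
`c_mem`: `n y n y ∈ A_W` with diagonal `0` or `w`; `delta_eq`: the diagonal is `w`.
`triple`: coplanar elements satisfy `y y' y'' ∈ t L`.
-/

set_option autoImplicit false

namespace Cfsg.Agent.OddHalf.SpTwoN.KappaE

open Cfsg.Agent.StandardComponent.SpTwo Cfsg.Agent.OddHalf Cfsg.Agent.OddHalf.SpTwo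
open Cfsg.Agent.OddHalf.SpTwoN Cfsg.Agent.OddHalf.SpTwoN.LBStart Cfsg.Agent.OddHalf.SpTwoN.KappaDef
open Cfsg.Agent.OddHalf.SpTwoN.Iso

section Sp

variable {X V : Type*} [Group X] [AddCommGroup V] [Module (ZMod 2) V] (D : SpData X V)

/-- a maximal totally isotropic subspace containing `A` -/
theorem exists_max_ge [Finite V] {A : Submodule (ZMod 2) V} (hA : A ≤ perp D A) :
    ∃ W : Submodule (ZMod 2) V, Iso.Max D W ∧ A ≤ W := by
  obtain ⟨W, ⟨hW, hAW⟩, hmax⟩ := (wellFounded_gt (α := Submodule (ZMod 2) V)).has_min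
    {B : Submodule (ZMod 2) V | B ≤ perp D B ∧ A ≤ B} ⟨A, hA, le_rfl⟩
  have hperp : perp D W ≤ W := by
    intro x hx
    by_contra hxW
    refine hmax (W ⊔ ln x) ⟨?_, hAW.trans le_sup_left⟩ ?_
    · refine sup_le ?_ ?_
      · intro w hw
        rw [mem_perp_sup]
        refine ⟨hW hw, (mem_perp_ln D).2 ?_⟩
        rw [D.symm]
        exact hx w hw
      · intro y hy
        rcases mem_ln.1 hy with rfl | rfl
        · exact zero_mem _
        · exact (mem_perp_sup D).2 ⟨hx, (mem_perp_ln D).2 (D.alt _)⟩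
    · refine lt_of_le_of_ne le_sup_left ?_
      intro h
      apply hxW
      rw [h]
      exact Submodule.mem_sup_right (self_mem_ln x)
  exact ⟨W, fun x => ⟨fun hx => hW hx, fun hx => hperp hx⟩, hAW⟩

/-- an alternating element of `A_⟨u,v,w⟩` commuting with a short root element through `u` -/
theorem mem_QU_of_alt [Finite V] {u v w : V} (hu : u ≠ 0) (huv : D.B u v = 0) (huw : D.B u w = 0)
    (hw : w ∉ pl u v) {k : X} (hkk : k * k = 1)
    (hk : ∀ e, D.B u e = 0 → D.B v e = 0 → D.B w e = 0 → D.ρ k e = e)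
    (halt : ∀ x, D.B x (D.ρ k x) = 0) {p : V} (hpu : D.B p u = 0) (hpw : D.B p w = 0) (hpv : D.B p v = 1)
    (hku : D.ρ k u = u) (hc : k * SpTwo.q D u p 0 = SpTwo.q D u p 0 * k) : k ∈ QU D (ln u) := by
  obtain ⟨f, hf, hfw⟩ := sep D hw
  rw [mem_perp_pl] at hf
  obtain ⟨hfu, hfv⟩ := hf
  have hnp : D.n k p ∈ ln u := by
    have h1 := q_conj D k (v := u) (u := p) 0
    rw [hc, mul_inv_cancel_right, hku] at h1
    have h2 : D.B (D.ρ k p) u = 0 := by
      have h3 := D.inv k p u
      rw [hku] at h3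
      rw [h3]; exact hpu
    obtain ⟨h3, -⟩ := q_inj D hu hpu h2 h1
    rw [D.n_apply, add_comm]
    exact h3
  have hn : ∀ z, D.B z u = 0 → D.n k z = D.B z v • D.n k p + D.B z w • D.n k f := by
    intro z hz
    have h1 : D.ρ k (z + (D.B z v • p + D.B z w • f)) = z + (D.B z v • p + D.B z w • f) := by
      apply hk
      · rw [D.symm]
        simp only [map_add, LinearMap.add_apply, map_smul, LinearMap.smul_apply, smul_eq_mul, hz, hpu, hfu,
          mul_zero, add_zero]
      · rw [D.symm]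
        simp only [map_add, LinearMap.add_apply, map_smul, LinearMap.smul_apply, smul_eq_mul, hpv, hfv,
          mul_zero, mul_one, add_zero, z2_add]
      · rw [D.symm]
        simp only [map_add, LinearMap.add_apply, map_smul, LinearMap.smul_apply, smul_eq_mul, hpw, hfw,
          mul_zero, mul_one, zero_add, z2_add]
    rw [← D.n_eq_zero, map_add, map_add, map_smul, map_smul] at h1
    exact eq_of_add _ _ h1
  have hBp : ∀ z, D.B z u = 0 → D.B z (D.n k p) = 0 := by
    intro z hz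
    rcases mem_ln.1 hnp with h | h
    · rw [h, map_zero]
    · rw [h]; exact hz
  have halt' : ∀ x, D.B x (D.n k x) = 0 := by
    intro x
    rw [D.n_apply, map_add, halt, D.alt, add_zero]
  refine (mem_QU D).2 ⟨fun z hz => ?_, fun z hz => ?_⟩
  · rcases mem_ln.1 hz with rfl | rfl
    · exact map_zero _
    · exact hku
  · rw [mem_perp_ln] at hz
    change D.n k z ∈ ln u
    apply mem_of_perp D
    intro z' hz'
    rw [mem_perp_ln] at hz'
    have e1 : D.B z' (D.n k f) = 0 := by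
      rw [D.n_adj hkk, hn z' hz', map_add, LinearMap.add_apply, map_smul, map_smul, LinearMap.smul_apply,
        LinearMap.smul_apply, D.symm (D.n k p) f, D.symm (D.n k f) f, hBp f hfu, halt', smul_zero, smul_zero, add_zero]
    rw [hn z hz, map_add, map_smul, map_smul, hBp z' hz', e1, smul_zero, smul_zero, add_zero]

end Sp

variable {G V : Type*} [Group G] [AddCommGroup V] [Module (ZMod 2) V] {C : Ctx G V}

/-- a long involution over `w` inducing a translation on `t W` -/
structure LY (W : Submodule (ZMod 2) V) (w : V) (n : G) (Q : V → ZMod 2) : Prop where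
  isY : IsY C w n
  type : HasType C w n 1 Q
  zero : ∀ x ∈ W, Q x = 0
  tr : Transl.E C W w n

theorem exists_LY {W : Submodule (ZMod 2) V} (hW : Iso.Max C.S W) {w : V} (hwW : w ∈ W)
    {y : G} (hy : IsY C w y) {Q : V → ZMod 2} (ht : HasType C w y 1 Q) :
    ∃ n Q, LY (C := C) W w n Q := by
  have hfinV := C.finV
  have hWv : ∀ x ∈ W, C.S.B x w = 0 := fun x hx => hW.perp hx hwW
  have hQ0 : Q 0 = 0 := by
    have h := ht.quad 0 0 (B_zero C.S w) (B_zero C.S w)
    rw [add_zero, B_zero, mul_zero, add_zero, z2_add] at h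
    exact h
  let f : W →+ ZMod 2 :=
    { toFun := fun w => Q w
      map_zero' := hQ0
      map_add' := fun a b => by
        change Q ((a : V) + b) = Q a + Q b
        rw [ht.quad a b (hWv a a.2) (hWv b b.2), hW.perp a.2 b.2, mul_zero, add_zero] }
  obtain ⟨p, hp⟩ := B_surj_on C.S W (f.toZModLinearMap 2)
  have hp' : ∀ u ∈ W, C.S.B p u = Q u := fun u hu => hp ⟨u, hu⟩
  have hpv : C.S.B p w = 0 := by rw [hp' w hwW, ht.zero]
  have hy' := hy.mul_q hpv 0
  have ht' := ht.mul_q hy hpv 0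
  have hz : ∀ x ∈ W, Q x + C.S.B p x = 0 := fun x hx => by rw [hp' x hx, z2_add]
  refine ⟨_, _, hy', ht', hz, ?_, hy'.sq⟩
  intro x hx
  have h3 := ht'.form x (hWv x hx)
  simp only [hz x hx] at h3
  rw [zero_add, one_smul] at h3
  rw [hy'.inv_eq, hy'.mul_conj, hy'.conj_t, h3, mul_assoc]
  congr 1
  change ((C.S.τ w * (SpTwo.q C.S w x 0 * C.S.τ x) : C.L) : G) = C.S.τ (x + w)
  rw [← q_mul_τ C.S (hWv x hx), ← mul_assoc, ← q_zero_one, q_mul C.S (B_zero C.S w) (hWv x hx), zero_add,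
    add_zero, B_zero, add_zero]

section

variable {W : Submodule (ZMod 2) V} {u v w : V} {y n : G} {Q : V → ZMod 2}

/-- `y` centralizes `A_W` -/
theorem comm_AW (hW : Iso.Max C.S W) (huW : u ∈ W) (hvW : v ∈ W) (h : IsX C u v y) {a : C.L}
    (ha : a ∈ AW C.S W) : y * (a : G) = a * y := by
  have hfinV := C.finV
  have h1 : a ∈ GW C.S W := by rw [← hW.AW_eq_GW]; exact ha
  have key : ∀ a : C.L, a ∈ GW C.S W → y * (a : G) = a * y := by
    intro a ha
    induction ha using Subgroup.closure_induction with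
    | mem x hx =>
      obtain ⟨z, hz, rfl⟩ := hx
      exact h.comm z (hW.perp hz huW) (hW.perp hz hvW)
    | one => change y * 1 = 1 * y; group
    | mul x y' _ _ h1 h2 => rw [Subgroup.coe_mul, ← mul_assoc, h1, mul_assoc, h2, mul_assoc]
    | inv x _ h1 =>
      change y * (x : G)⁻¹ = (x : G)⁻¹ * y
      rw [eq_inv_mul_iff_mul_eq, ← mul_assoc, ← h1, mul_inv_cancel_right]
  exact key a h1

theorem s_eq (u v : V) : Transl.s C u v = qg C u v 0 := by
  change ((Words.sg C.S u v : C.L) : G) = ((SpTwo.q C.S u v 0 : C.L) : G)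
  rw [Words.sg, SpTwo.q, zero_smul, C.S.τ_zero, mul_one]

/-- the commutator of `y` and a long involution -/
theorem c_mem (hW : Iso.Max C.S W) (huW : u ∈ W) (hvW : v ∈ W) (hwW : w ∈ W) (hu : u ≠ 0) (hv : v ∉ ln u)
    (hw0 : w ≠ 0) (h : IsX C u v y) (hn : LY (C := C) W w n Q) :
    ∃ k : C.L, n * y * n * y = k ∧ k ∈ AW C.S W ∧ (δ C.S k = 0 ∨ δ C.S k = w) ∧
      ∀ e, C.S.B u e = 0 → C.S.B v e = 0 → C.S.B w e = 0 → C.S.ρ k e = e := by
  have hfinV := C.finV
  have hvu : C.S.B v u = 0 := hW.perp hvW huW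
  have huv : C.S.B u v = 0 := hW.perp huW hvW
  have hs := h.comm_s hvu
  have hsW : Words.sg C.S u v ∈ AW C.S W := hW.sg_mem huW hvW
  have hns : n * qg C u v 0 = qg C u v 0 * n := by
    rw [← s_eq u v]
    exact hn.tr.1.comm_alt hW hwW hsW (δ_sg huv)
  have hbn : n * C.b w = C.b w * n := hn.isY.comm_b
  have hby : y * C.b w = C.b w * y := h.comm w (hW.perp hwW huW) (hW.perp hwW hvW)
  have hbs : C.b w * qg C u v 0 = qg C u v 0 * C.b w := qg_b_comm (hW.perp hwW huW) (hW.perp hvW hwW)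
  have hss : qg C u v 0 * qg C u v 0 = 1 := qg_sq C hvu
  have hnt : n * C.t = C.t * C.b w * n := by
    rw [← hn.isY.conj_t, mul_assoc (n * C.t), hn.isY.sq, mul_one]
  have hct : n * y * n * y * C.t = C.t * (n * y * n * y) := by
    have e1 : y * n * y * C.t = C.t * C.b w * (y * n * y) := by
      calc y * n * y * C.t = y * n * (y * C.t) := by group
        _ = y * (n * C.t) * qg C u v 0 * y := by rw [h.yt]; group
        _ = (y * C.t) * C.b w * (n * qg C u v 0) * y := by rw [hnt]; group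
        _ = C.t * qg C u v 0 * (y * C.b w) * qg C u v 0 * n * y := by rw [h.yt, hns]; group
        _ = C.t * (C.b w * qg C u v 0) * (y * qg C u v 0) * n * y := by rw [hby, hbs]; group
        _ = C.t * C.b w * (qg C u v 0 * qg C u v 0) * y * n * y := by rw [hs]; group
        _ = _ := by rw [hss]; group
    calc n * y * n * y * C.t = n * (y * n * y * C.t) := by group
      _ = (n * C.t) * C.b w * (y * n * y) := by rw [e1]; group
      _ = C.t * C.b w * (n * C.b w) * (y * n * y) := by rw [hnt]; group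
      _ = C.t * (C.b w * C.b w) * (n * y * n * y) := by rw [hbn]; group
      _ = _ := by rw [C.b_sq, mul_one]
  obtain ⟨k, hk, hkf⟩ := Dich.lift_fix (E := fun e => C.S.B u e = 0 ∧ C.S.B v e = 0 ∧ C.S.B w e = 0) hct (by
    rintro e ⟨h1, h2, h3⟩
    rw [C.symm] at h1 h2 h3
    have e1 := h.comm e h1 h2
    have e2 := hn.type.form e h3
    obtain ⟨g, hg⟩ : ∃ g : G, g = ((SpTwo.q C.S w ((Q e + 1) • e) (Q e) * C.S.τ e : C.L) : G) := ⟨_, rfl⟩
    rw [← hg] at e2
    have e3 : y * g = g * y := by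
      have hwy : y * C.b w = C.b w * y := hby
      have a1 : ∀ i : ZMod 2, y * C.b (i • w) = C.b (i • w) * y := fun i => by
        rcases z2 i with rfl | rfl
        · rw [zero_smul, C.b_zero, mul_one, one_mul]
        · rw [one_smul]; exact hby
      have a2 : ∀ i : ZMod 2, y * C.b (i • e) = C.b (i • e) * y := fun i => by
        rcases z2 i with rfl | rfl
        · rw [zero_smul, C.b_zero, mul_one, one_mul]
        · rw [one_smul]; exact e1
      have a3 : ∀ i : ZMod 2, y * C.b (w + i • e) = C.b (w + i • e) * y := fun i => by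
        apply h.comm
        · rw [C.B_add_left, C.B_smul_left, h1, hW.perp hwW huW, mul_zero, add_zero]
        · rw [C.B_add_left, C.B_smul_left, h2, hW.perp hwW hvW, mul_zero, add_zero]
      have a4 : g = C.b w * C.b ((Q e + 1) • e) * C.b (w + (Q e + 1) • e) * C.b (Q e • w) * C.b e := hg
      rw [a4]
      exact ((((Commute.mul_right hwy (a2 _)).mul_right (a3 _)).mul_right (a1 _)).mul_right e1).eq
    have e4 : n * C.b e = g * n := by rw [← e2, mul_assoc (n * C.b e), hn.isY.sq, mul_one]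
    have e5 : n * g = C.b e * n := by
      rw [← e2, ← mul_assoc, ← mul_assoc, hn.isY.sq, one_mul]
    calc n * y * n * y * C.b e = n * y * n * (y * C.b e) := by group
      _ = n * y * (n * C.b e) * y := by rw [e1]; group
      _ = n * (y * g) * n * y := by rw [e4]; group
      _ = (n * g) * y * n * y := by rw [e3]; group
      _ = _ := by rw [e5]; group)
  have hkW : k ∈ AW C.S W := fun x hx => hkf x ⟨hW.perp huW hx, hW.perp hvW hx, hW.perp hwW hx⟩
  have hyk := comm_AW hW huW hvW h hkW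
  have hkk : (k : G) * k = 1 := Transl.asq hW hkW
  have hinv : (n * y * n * y)⁻¹ = y * n * y * n := by
    rw [mul_inv_rev, mul_inv_rev, mul_inv_rev, h.inv_eq, hn.isY.inv_eq]; group
  have hyc : y * (n * y * n * y) * y = y * n * y * n := by
    calc y * (n * y * n * y) * y = y * n * y * n * (y * y) := by group
      _ = _ := by rw [h.sq, mul_one]
  have hnc : n * (n * y * n * y) * n = y * n * y * n := by
    calc n * (n * y * n * y) * n = (n * n) * (y * n * y * n) := by group
      _ = _ := by rw [hn.isY.sq, one_mul]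
  rcases hk with hk | hk
  · refine ⟨k, hk, hkW, ?_, fun e h1 h2 h3 => hkf e ⟨h1, h2, h3⟩⟩
    have e1 := hn.tr.conj_a hW hwW hkW
    rw [← hinv, hk, Transl.inv_of_sq hkk] at hnc
    rw [hnc] at e1
    have e2 : Transl.s C w (δ C.S k) = 1 := by
      have e3 : (k : G) * 1 = k * Transl.s C w (δ C.S k) := by rw [mul_one]; exact e1
      exact (mul_left_cancel e3).symm
    exact Transl.δ_cases hW hwW hw0 hkW e2
  · exfalso
    rw [← hinv, hk] at hyc
    have e1 : (C.t * (k : G))⁻¹ = C.t * k := by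
      rw [mul_inv_rev, Transl.inv_of_sq hkk, C.t_inv, t_comm C k]
    rw [e1] at hyc
    have e2 : y * (C.t * (k : G)) * y = C.t * (qg C u v 0 * k) := by
      calc y * (C.t * (k : G)) * y = y * C.t * (k * y) := by group
        _ = (y * C.t * y) * k := by rw [← hyk]; group
        _ = _ := by rw [h.conj_t]; group
    rw [e2] at hyc
    have e3 := mul_left_cancel hyc
    have e4 : qg C u v 0 = 1 := by
      have e5 : qg C u v 0 * (k : G) = 1 * k := by rw [one_mul]; exact e3
      exact mul_right_cancel e5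
    rw [← qg_zero C (u := u)] at e4
    obtain ⟨e5, -⟩ := qg_inj C hu hvu (C.B_zero_left u) e4
    rw [add_zero] at e5
    exact hv e5

/-- `b_w` is not in `Q_u` -/
theorem b_notMem (hw : w ∉ ln u) {g : C.L} (hg : g ∈ QU C.S (ln u)) :
    C.b w ≠ (g : G) := by
  have hfinV := C.finV
  intro h
  have h1 : C.S.τ w = g := Subtype.ext h
  obtain ⟨z, hz, hzw⟩ := sep C.S hw
  have h2 := hg.2 z hz
  rw [← h1, C.S.hτ, hzw, one_smul, add_comm z w, add_assoc, aa, add_zero] at h2
  exact hw h2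

/-- the diagonal of the commutator -/
theorem delta_eq (hW : Iso.Max C.S W) (huW : u ∈ W) (hvW : v ∈ W) (hwW : w ∈ W) (hu : u ≠ 0) (hv : v ∉ ln u)
    (hw : w ∉ pl u v) (h : UC C u v y) (hn : LY (C := C) W w n Q) :
    ∃ k : C.L, n * y * n * y = k ∧ k ∈ AW C.S W ∧ δ C.S k = w := by
  have hfinV := C.finV
  have hw0 : w ≠ 0 := ne_zero_of_notMem hw
  obtain ⟨k, hk, hkW, hδ, hkf⟩ := c_mem hW huW hvW hwW hu hv hw0 h.toIsX hn
  refine ⟨k, hk, hkW, ?_⟩
  rcases hδ with hδ | hδ
  swap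
  · exact hδ
  exfalso
  have huv : C.S.B u v = 0 := hW.perp huW hvW
  have hvu : C.S.B v u = 0 := hW.perp hvW huW
  have huw : C.S.B u w = 0 := hW.perp huW hwW
  have hwu : C.S.B w u = 0 := hW.perp hwW huW
  have hvw : C.S.B v w = 0 := hW.perp hvW hwW
  have hkk : k * k = 1 := hW.sq hkW
  have hkkG : (k : G) * k = 1 := Transl.asq hW hkW
  have hyk := comm_AW hW huW hvW h.toIsX hkW
  -- the vector `p`
  obtain ⟨p, hpu, hpw, hpv, hQp⟩ : ∃ p, C.S.B p u = 0 ∧ C.S.B p w = 0 ∧ C.S.B p v = 1 ∧ Q p = 0 := by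
    have h1 : v ∉ pl u w := by
      intro h2
      rcases mem_pl.1 h2 with h3 | h3 | h3 | h3
      · exact hv (by rw [h3]; exact zero_mem _)
      · exact hv (by rw [h3]; exact self_mem_ln u)
      · exact hw (by rw [← h3]; exact right_mem_pl u v)
      · apply hw
        have h4 : w = u + v := by rw [h3, aac]
        rw [h4]
        exact add_mem (left_mem_pl u v) (right_mem_pl u v)
    obtain ⟨p, hp, hpv⟩ := sep C.S h1
    rw [mem_perp_pl] at hp
    rcases z2 (Q p) with h2 | h2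
    · exact ⟨p, hp.1, hp.2, hpv, h2⟩
    · refine ⟨p + v, ?_, ?_, ?_, ?_⟩
      · rw [C.B_add_left, hp.1, hvu, add_zero]
      · rw [C.B_add_left, hp.2, hvw, add_zero]
      · rw [C.B_add_left, hpv, C.B_self, add_zero]
      · rw [hn.type.quad p v hp.2 hvw, h2, hn.zero v hvW, hpv]
        decide
  have hup : C.S.B u p = 0 := by rw [C.symm]; exact hpu
  have hwp : C.S.B w p = 0 := by rw [C.symm]; exact hpw
  -- `n` commutes with `q u p 0`
  have hnp : n * qg C u p 0 = qg C u p 0 * n := by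
    have f1 := hn.type.form u huw
    have f2 := hn.type.form p hpw
    have hupw : C.S.B (u + p) w = 0 := by rw [C.B_add_left, huw, hpw, add_zero]
    have f3 := hn.type.form (u + p) hupw
    rw [hn.type.quad u p huw hpw, hn.zero u huW, hQp, hup, mul_zero, add_zero, add_zero] at f3
    rw [hn.zero u huW] at f1
    rw [hQp] at f2
    rw [zero_add, one_smul] at f1 f2 f3
    have e1 : qg C u p 0 = C.b u * C.b p * C.b (u + p) := by
      change ((SpTwo.q C.S u p 0 : C.L) : G) = _
      rw [SpTwo.q, zero_smul, C.S.τ_zero, mul_one]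
      rfl
    have e2 : n * qg C u p 0 * n = (n * C.b u * n) * (n * C.b p * n) * (n * C.b (u + p) * n) := by
      rw [e1]
      calc n * (C.b u * C.b p * C.b (u + p)) * n = n * C.b u * 1 * C.b p * 1 * C.b (u + p) * n := by group
        _ = n * C.b u * (n * n) * C.b p * (n * n) * C.b (u + p) * n := by rw [hn.isY.sq]
        _ = _ := by group
    have e3 : SpTwo.q C.S w u 0 * C.S.τ u * (SpTwo.q C.S w p 0 * C.S.τ p) *
        (SpTwo.q C.S w (u + p) 0 * C.S.τ (u + p)) = C.S.τ u * C.S.τ p * C.S.τ (u + p) := by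
      have c1 : C.S.τ u * SpTwo.q C.S w p 0 = SpTwo.q C.S w p 0 * C.S.τ u :=
        q_comm_τ_perp C.S huw hpu 0
      have c2 : C.S.τ p * SpTwo.q C.S w (u + p) 0 = SpTwo.q C.S w (u + p) 0 * C.S.τ p :=
        q_comm_τ_perp C.S hpw (by rw [C.B_add_left, hup, C.B_self, add_zero]) 0
      have c3 : C.S.τ u * SpTwo.q C.S w (u + p) 0 = SpTwo.q C.S w (u + p) 0 * C.S.τ u :=
        q_comm_τ_perp C.S huw (by rw [C.B_add_left, C.B_self, hpu, add_zero]) 0
      have c4 : SpTwo.q C.S w u 0 * SpTwo.q C.S w p 0 * SpTwo.q C.S w (u + p) 0 = 1 := by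
        rw [q_mul C.S huw hpw, hup, q_mul C.S hupw hupw, aa, C.S.alt, add_zero, add_zero, add_zero, add_zero, q_zero]
      calc SpTwo.q C.S w u 0 * C.S.τ u * (SpTwo.q C.S w p 0 * C.S.τ p) *
          (SpTwo.q C.S w (u + p) 0 * C.S.τ (u + p)) =
          SpTwo.q C.S w u 0 * (C.S.τ u * SpTwo.q C.S w p 0) * (C.S.τ p * SpTwo.q C.S w (u + p) 0) *
            C.S.τ (u + p) := by group
        _ = SpTwo.q C.S w u 0 * SpTwo.q C.S w p 0 * (C.S.τ u * SpTwo.q C.S w (u + p) 0) * C.S.τ p *
            C.S.τ (u + p) := by rw [c1, c2]; group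
        _ = (SpTwo.q C.S w u 0 * SpTwo.q C.S w p 0 * SpTwo.q C.S w (u + p) 0) * (C.S.τ u * C.S.τ p *
            C.S.τ (u + p)) := by rw [c3]; group
        _ = _ := by rw [c4, one_mul]
    have e4 : n * qg C u p 0 * n = qg C u p 0 := by
      rw [e2, f1, f2, f3, e1]
      exact congrArg Subtype.val e3
    calc n * qg C u p 0 = n * qg C u p 0 * (n * n) := by rw [hn.isY.sq, mul_one]
      _ = (n * qg C u p 0 * n) * n := by group
      _ = _ := by rw [e4]
  -- `k` commutes with `q u p 0`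
  have hsG := h.toIsX.comm_s hvu
  have hsn : n * qg C u v 0 = qg C u v 0 * n := by
    rw [← s_eq u v]
    exact hn.tr.1.comm_alt hW hwW (hW.sg_mem huW hvW) (δ_sg huv)
  have hkp : (k : G) * qg C u p 0 = qg C u p 0 * k := by
    obtain ⟨r, hr⟩ : ∃ r, r = qg C u p 0 := ⟨_, rfl⟩
    have hrr : r * r = 1 := by rw [hr]; exact qg_sq C hpu
    have e1 : r * y * r = qg C u v 0 * y := by
      have e2 := h.act p 0 hpu
      rw [hpv, one_smul, zero_add, ← hr] at e2
      have hpvu : C.S.B (p + v) u = 0 := by rw [C.B_add_left, hpu, hvu, add_zero]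
      have e3 : r * qg C u (p + v) 1 = qg C u v 0 := by
        rw [hr, qg_mul C hpu hpvu, aac, C.B_add_right, C.B_self, hpv]
        congr 1
      calc r * y * r = r * (y * r * y) * y := by rw [mul_assoc y r y]; simp only [mul_assoc, h.sq, mul_one]
        _ = _ := by rw [e2, e3]
    rw [← hr] at hnp ⊢
    have e4 : r * (k : G) * r = k := by
      rw [← hk]
      calc r * (n * y * n * y) * r = r * n * y * 1 * n * y * r := by group
        _ = r * n * y * (r * r) * n * y * r := by rw [hrr]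
        _ = (r * n) * y * r * (r * n) * y * r := by group
        _ = n * (r * y * r) * n * (r * y * r) := by rw [← hnp]; group
        _ = n * qg C u v 0 * y * (n * qg C u v 0) * y := by rw [e1]; group
        _ = n * qg C u v 0 * (y * qg C u v 0) * n * y := by rw [hsn]; group
        _ = n * (qg C u v 0 * qg C u v 0) * y * n * y := by rw [hsG]; group
        _ = _ := by rw [qg_sq C hvu, mul_one]
    calc (k : G) * r = (r * r) * k * r := by rw [hrr, one_mul]
      _ = r * (r * k * r) := by group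
      _ = _ := by rw [e4]
  have hku : C.S.ρ k u = u := hkf u (C.B_self u) hvu hwu
  have hkQ : k ∈ QU C.S (ln u) := by
    refine mem_QU_of_alt C.S hu huv huw hw hkk hkf ?_ hpu hpw hpv hku (Subtype.ext hkp)
    intro x
    rw [← B_δ hkk x, hδ, map_zero]
  obtain ⟨r, e, hru, hkr⟩ := mem_QU_ln C.S hu hkQ
  -- the vector `x`
  obtain ⟨x, hx⟩ : ∃ x, x = p + v := ⟨_, rfl⟩
  have hxu : C.S.B x u = 0 := by rw [hx, C.B_add_left, hpu, hvu, add_zero]
  have hxw : C.S.B x w = 0 := by rw [hx, C.B_add_left, hpw, hvw, add_zero]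
  have hxv : C.S.B x v = 1 := by rw [hx, C.B_add_left, hpv, C.B_self, add_zero]
  have hQx : Q x = 1 := by
    rw [hx, hn.type.quad p v hpw hvw, hQp, hn.zero v hvW, hpv]
    decide
  obtain ⟨a, ha⟩ := h.three hu hv hvu hxu hxv
  have hnx : n * C.b x * n = C.b w * C.b x := by
    have e1 := hn.type.form x hxw
    have e2 : (1 : ZMod 2) + 1 = 0 := by decide
    rw [hQx, e2, zero_smul, q_zero_one] at e1
    exact e1
  have hbx : C.b w * C.b x = C.b x * C.b w := C.b_comm (by rw [C.symm]; exact hxw)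
  have hby : C.b w * y = y * C.b w := (h.comm w hwu (hW.perp hwW hvW)).symm
  have hbk : C.b w * (k : G) = k * C.b w := Transl.acomm hW (hW.τ_mem hwW) hkW
  obtain ⟨k1, hk1⟩ : ∃ k1, k1 = C.b x * (k : G) * C.b x := ⟨_, rfl⟩
  have hk1' : k1 = qg C u (r + C.S.B r x • x) e := by
    rw [hk1, hkr]
    exact qg_b_conj C hxu
  have hr1 : C.S.B (r + C.S.B r x • x) u = 0 := by
    rw [C.B_add_left, C.B_smul_left, hru, hxu, mul_zero, add_zero]
  obtain ⟨k2, hk2⟩ : ∃ k2, k2 = y * k1 * y := ⟨_, rfl⟩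
  have hk2' := h.act _ e hr1
  rw [← hk1', ← hk2] at hk2'
  have hyy := h.sq
  have hnyn : n * y * n = k * y := by rw [← hk, mul_assoc (n * y * n), hyy, mul_one]
  -- left side
  have hL : n * (y * (C.b x * y * C.b x) * y) * n = k * k2 * (C.b (a • u) * k1) * C.b x := by
    calc n * (y * (C.b x * y * C.b x) * y) * n = n * y * 1 * C.b x * 1 * y * 1 * C.b x * 1 * y * n := by group
      _ = n * y * (n * n) * C.b x * (n * n) * y * (n * n) * C.b x * (n * n) * y * n := by rw [hn.isY.sq]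
      _ = (n * y * n) * (n * C.b x * n) * (n * y * n) * (n * C.b x * n) * (n * y * n) := by group
      _ = (k * y) * (C.b w * C.b x) * (k * y) * (C.b w * C.b x) * (k * y) := by rw [hnyn, hnx]
      _ = (k * y) * (C.b x * C.b w) * (k * y) * (C.b w * C.b x) * (k * y) := by rw [hbx]
      _ = k * y * C.b x * (C.b w * k) * y * C.b w * C.b x * k * y := by group
      _ = k * y * C.b x * k * (C.b w * y) * C.b w * C.b x * k * y := by rw [hbk]; group
      _ = k * y * C.b x * k * y * (C.b w * C.b w) * C.b x * k * y := by rw [hby]; group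
      _ = k * y * C.b x * k * 1 * y * C.b x * (k * y) := by rw [C.b_sq]; group
      _ = k * y * C.b x * k * (C.b x * C.b x) * y * C.b x * (y * k) := by rw [C.b_sq, hyk]
      _ = k * y * (C.b x * k * C.b x) * 1 * (C.b x * y * C.b x) * y * k := by group
      _ = k * y * (C.b x * k * C.b x) * (y * y) * (C.b x * y * C.b x) * y * k := by rw [hyy]
      _ = k * (y * (C.b x * k * C.b x) * y) * (y * (C.b x * y * C.b x) * y) * k := by group
      _ = k * k2 * (C.b (a • u) * C.b x) * k := by rw [ha, ← hk1, ← hk2]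
      _ = k * k2 * C.b (a • u) * (C.b x * k * (C.b x * C.b x)) := by rw [C.b_sq]; group
      _ = k * k2 * (C.b (a • u) * (C.b x * k * C.b x)) * C.b x := by group
      _ = _ := by rw [← hk1]
  -- right side
  have hauW : a • u ∈ W := W.smul_mem a huW
  have hR : n * (C.b (a • u) * C.b x) * n = (C.b (a • u) * Transl.s C w (a • u)) * C.b w * C.b x := by
    have e1 := hn.tr.1.conj_b hW hwW hauW
    rw [hn.isY.inv_eq] at e1
    calc n * (C.b (a • u) * C.b x) * n = n * C.b (a • u) * 1 * C.b x * n := by group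
      _ = n * C.b (a • u) * (n * n) * C.b x * n := by rw [hn.isY.sq]
      _ = (n * C.b (a • u) * n) * (n * C.b x * n) := by group
      _ = _ := by rw [e1, hnx]; group
  rw [ha, hR] at hL
  have hfin := mul_right_cancel hL
  -- the contradiction
  have hwl : w ∉ ln u := fun h1 => hw (by
    rcases mem_ln.1 h1 with h2 | h2
    · rw [h2]; exact zero_mem _
    · rw [h2]; exact left_mem_pl u v)
  have m1 : ∀ p' e', C.S.B p' u = 0 → SpTwo.q C.S u p' e' ∈ QU C.S (ln u) := fun p' e' hp' =>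
    q_mem_QU C.S hu hp' e'
  have m2 : C.S.τ (a • u) ∈ QU C.S (ln u) :=
    τ_mem_QU C.S (ln_ti C.S u) (Submodule.smul_mem _ a (self_mem_ln u))
  have m3 : Words.sg C.S w (a • u) ∈ QU C.S (ln u) := by
    rcases z2 a with h1 | h1
    · rw [h1, zero_smul, Words.sg_zero_right]; exact one_mem _
    · rw [h1, one_smul, Words.sg_comm C.S hwu]
      have e1 : Words.sg C.S u w = SpTwo.q C.S u w 0 := by
        rw [Words.sg, SpTwo.q, zero_smul, C.S.τ_zero, mul_one]
      rw [e1]
      exact m1 w 0 hwu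
  have hr2 : C.S.B (r + C.S.B r x • x + C.S.B (r + C.S.B r x • x) v • v) u = 0 := by
    rw [C.B_add_left, C.B_smul_left, hr1, hvu, mul_zero, add_zero]
  refine b_notMem hwl (g := (C.S.τ (a • u) * Words.sg C.S w (a • u))⁻¹ *
    (k * SpTwo.q C.S u (r + C.S.B r x • x + C.S.B (r + C.S.B r x • x) v • v) (e + C.S.B (r + C.S.B r x • x) v) *
      (C.S.τ (a • u) * SpTwo.q C.S u (r + C.S.B r x • x) e))) ?_ ?_
  · exact mul_mem (inv_mem (mul_mem m2 m3)) (mul_mem (mul_mem hkQ (m1 _ _ hr2)) (mul_mem m2 (m1 _ _ hr1)))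
  · have e1 : C.b w = (C.b (a • u) * Transl.s C w (a • u))⁻¹ * (k * k2 * (C.b (a • u) * k1)) := by
      rw [← hfin]; group
    rw [e1, hk2', hk1']
    rfl

end

/-- coplanar elements -/
theorem triple (hY : ∀ w, w ≠ 0 → ∃ n Q, IsY C w n ∧ HasType C w n 1 Q) {u a b : V} (hu : u ≠ 0) (ha : a ∉ ln u)
    (hb : b ∉ pl u a) (hau : C.S.B a u = 0) (hbu : C.S.B b u = 0) (hba : C.S.B b a = 0) {y1 y2 y3 : G}
    (h1 : UC C u a y1) (h2 : UC C u b y2) (h3 : UC C u (a + b) y3) :
    ∃ k : C.L, y1 * y2 * y3 = C.t * k ∧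
      ∀ e, C.S.B u e = 0 → C.S.B a e = 0 → C.S.B b e = 0 → C.S.ρ k e = e := by
  have hfinV := C.finV
  obtain ⟨A, hA⟩ : ∃ A, A = pl u a ⊔ ln b := ⟨_, rfl⟩
  have hAr : Module.finrank (ZMod 2) A ≤ 3 := by
    have e1 := finrank_pl_le u a
    have e2 := finrank_sup_ln_le (pl u a) b
    rw [hA]
    omega
  obtain ⟨w, hw, hwA⟩ := room C.S C.cardV (A := A) (A' := A) (by omega)
  have huA : u ∈ A := by rw [hA]; exact Submodule.mem_sup_left (left_mem_pl u a)
  have haA : a ∈ A := by rw [hA]; exact Submodule.mem_sup_left (right_mem_pl u a)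
  have hbA : b ∈ A := by rw [hA]; exact Submodule.mem_sup_right (self_mem_ln b)
  have hua : C.S.B u a = 0 := by rw [C.symm]; exact hau
  have hub : C.S.B u b = 0 := by rw [C.symm]; exact hbu
  have hab : C.S.B a b = 0 := by rw [C.symm]; exact hba
  have hwu : C.S.B w u = 0 := hw u huA
  have hwa : C.S.B w a = 0 := hw a haA
  have hwb : C.S.B w b = 0 := hw b hbA
  have hti : A ⊔ ln w ≤ perp C.S (A ⊔ ln w) := by
    have e0 : ∀ z, C.S.B z u = 0 → C.S.B z a = 0 → C.S.B z b = 0 → C.S.B z w = 0 → z ∈ perp C.S (A ⊔ ln w) := by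
      intro z e1 e2 e3 e4
      rw [mem_perp_sup, hA, mem_perp_sup, mem_perp_pl, mem_perp_ln, mem_perp_ln]
      exact ⟨⟨⟨e1, e2⟩, e3⟩, e4⟩
    rw [hA, pl_eq]
    have sy : ∀ {x y : V}, C.S.B x y = 0 → C.S.B y x = 0 := fun {x y} hxy => by rw [C.symm]; exact hxy
    have e5 : ∀ x : V, x ∈ perp C.S (A ⊔ ln w) → ln x ≤ perp C.S (A ⊔ ln w) := by
      intro x hx z hz
      rcases mem_ln.1 hz with rfl | rfl
      · exact zero_mem _
      · exact hx
    rw [← pl_eq, ← hA]
    have e6 : A ≤ perp C.S (A ⊔ ln w) := by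
      have e7 : ln u ⊔ ln a ⊔ ln b ≤ perp C.S (A ⊔ ln w) :=
        sup_le (sup_le (e5 u (e0 u (C.B_self u) hua hub (sy hwu))) (e5 a (e0 a hau (C.B_self a) hab (sy hwa))))
          (e5 b (e0 b hbu hba (C.B_self b) (sy hwb)))
      rwa [← pl_eq, ← hA] at e7
    exact sup_le e6 (e5 w (e0 w hwu hwa hwb (C.B_self w)))
  obtain ⟨W, hW, hAW⟩ := exists_max_ge C.S hti
  have hA' : A ≤ W := le_sup_left.trans hAW
  have huW := hA' huA
  have haW := hA' haA
  have hbW := hA' hbA
  have hwW : w ∈ W := hAW (Submodule.mem_sup_right (self_mem_ln w))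
  have hw0 : w ≠ 0 := ne_zero_of_notMem hwA
  obtain ⟨n0, Q0, hn0, ht0⟩ := hY w hw0
  obtain ⟨n, Q, hn⟩ := exists_LY hW hwW hn0 ht0
  have habW : a + b ∈ W := add_mem haW hbW
  have hpl : ∀ {x}, x ∈ A → pl u x ≤ A := by
    intro x hx z hz
    rcases mem_pl.1 hz with rfl | rfl | rfl | rfl
    · exact zero_mem _
    · exact huA
    · exact hx
    · exact add_mem huA hx
  have hb' : b ∉ ln u := fun e1 => hb (by
    rcases mem_ln.1 e1 with e2 | e2
    · rw [e2]; exact zero_mem _
    · rw [e2]; exact left_mem_pl u a)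
  have hab' : a + b ∉ ln u := fun e1 => hb (by
    rcases mem_ln.1 e1 with e2 | e2
    · rw [← eq_of_add _ _ e2]; exact right_mem_pl u a
    · have e3 : b = a + u := by rw [← e2, aac]
      rw [e3]; exact add_mem (right_mem_pl u a) (left_mem_pl u a))
  obtain ⟨k1, hk1, hk1W, hδ1⟩ := delta_eq hW huW haW hwW hu ha (fun e => hwA (hpl haA e)) h1 hn
  obtain ⟨k2, hk2, hk2W, hδ2⟩ := delta_eq hW huW hbW hwW hu hb' (fun e => hwA (hpl hbA e)) h2 hn
  obtain ⟨k3, hk3, hk3W, hδ3⟩ := delta_eq hW huW habW hwW hu hab' (fun e => hwA (hpl (add_mem haA hbA) e)) h3 hn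
  have habu : C.S.B (a + b) u = 0 := hW.perp habW huW
  -- `y1 y2 y3` commutes with `t`
  have c12 : y1 * qg C u b 0 = qg C u b 0 * y1 := h1.comm_q hau hbu hba 0
  have c13 : y1 * qg C u (a + b) 0 = qg C u (a + b) 0 * y1 := h1.comm_q hau habu (hW.perp habW haW) 0
  have c23 : y2 * qg C u (a + b) 0 = qg C u (a + b) 0 * y2 := h2.comm_q hbu habu (hW.perp habW hbW) 0
  have hsss : qg C u a 0 * qg C u b 0 * qg C u (a + b) 0 = 1 := by
    rw [qg_mul C hau hbu, hab, qg_mul C habu habu, aa, C.B_self, add_zero, add_zero, add_zero, add_zero, qg_zero]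
  have hct : y1 * y2 * y3 * C.t = C.t * (y1 * y2 * y3) := by
    calc y1 * y2 * y3 * C.t = y1 * y2 * (y3 * C.t) := by group
      _ = y1 * (y2 * C.t) * qg C u (a + b) 0 * y3 := by rw [h3.yt]; group
      _ = (y1 * C.t) * qg C u b 0 * (y2 * qg C u (a + b) 0) * y3 := by rw [h2.yt]; group
      _ = C.t * qg C u a 0 * (y1 * qg C u b 0) * qg C u (a + b) 0 * y2 * y3 := by rw [h1.yt, c23]; group
      _ = C.t * qg C u a 0 * qg C u b 0 * (y1 * qg C u (a + b) 0) * y2 * y3 := by rw [c12]; group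
      _ = C.t * (qg C u a 0 * qg C u b 0 * qg C u (a + b) 0) * (y1 * y2 * y3) := by rw [c13]; group
      _ = _ := by rw [hsss, mul_one]
  obtain ⟨k, hk, hkf⟩ := Dich.lift_fix (E := fun e => C.S.B u e = 0 ∧ C.S.B a e = 0 ∧ C.S.B b e = 0) hct (by
    rintro e ⟨e1, e2, e3⟩
    rw [C.symm] at e1 e2 e3
    exact ((Commute.mul_left (h1.comm e e1 e2) (h2.comm e e1 e3)).mul_left
      (h3.comm e e1 (by rw [C.B_add_right, e2, e3, add_zero]))).eq)
  have hkf' : ∀ e, C.S.B u e = 0 → C.S.B a e = 0 → C.S.B b e = 0 → C.S.ρ k e = e :=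
    fun e e1 e2 e3 => hkf e ⟨e1, e2, e3⟩
  rcases hk with hk | hk
  swap
  · exact ⟨k, hk, hkf'⟩
  exfalso
  have hkW : k ∈ AW C.S W := fun x hx => hkf' x (hW.perp huW hx) (hW.perp haW hx) (hW.perp hbW hx)
  have e1 := hn.tr.conj_a hW hwW hkW
  have nn := hn.isY.sq
  have a1 : n * y1 * n = k1 * y1 := by rw [← hk1, mul_assoc (n * y1 * n), h1.sq, mul_one]
  have a2 : n * y2 * n = k2 * y2 := by rw [← hk2, mul_assoc (n * y2 * n), h2.sq, mul_one]
  have a3 : n * y3 * n = k3 * y3 := by rw [← hk3, mul_assoc (n * y3 * n), h3.sq, mul_one]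
  have b12 := comm_AW hW huW haW h1.toIsX hk2W
  have b13 := comm_AW hW huW haW h1.toIsX hk3W
  have b23 := comm_AW hW huW hbW h2.toIsX hk3W
  have e2 : n * (y1 * y2 * y3) * n = (k1 * k2 * k3 : C.L) * (y1 * y2 * y3) := by
    calc n * (y1 * y2 * y3) * n = n * y1 * 1 * y2 * 1 * y3 * n := by group
      _ = n * y1 * (n * n) * y2 * (n * n) * y3 * n := by rw [nn]
      _ = (n * y1 * n) * (n * y2 * n) * (n * y3 * n) := by group
      _ = k1 * (y1 * k2) * y2 * k3 * y3 := by rw [a1, a2, a3]; group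
      _ = k1 * k2 * y1 * (y2 * k3) * y3 := by rw [b12]; group
      _ = k1 * k2 * (y1 * k3) * y2 * y3 := by rw [b23]; group
      _ = _ := by rw [b13, Subgroup.coe_mul, Subgroup.coe_mul]; group
  rw [hk, e1] at e2
  have hsW : Words.sg C.S w (δ C.S k) ∈ AW C.S W := hW.sg_mem hwW (hW.δ_mem hkW)
  have e3 : Words.sg C.S w (δ C.S k) = k1 * k2 * k3 := by
    apply Subtype.ext
    have e4 := Transl.acomm hW hkW hsW
    have e5 : ((Words.sg C.S w (δ C.S k) : C.L) : G) * k = (k1 * k2 * k3 : C.L) * k := by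
      rw [← e4]; exact e2
    exact mul_right_cancel e5
  have e4 := congrArg (δ C.S) e3
  rw [δ_sg (hW.perp hwW (hW.δ_mem hkW)), hW.δ_mul (mul_mem hk1W hk2W) hk3W, hW.δ_mul hk1W hk2W, hδ1, hδ2, hδ3, aa,
    zero_add] at e4
  exact hw0 e4.symm

end Cfsg.Agent.OddHalf.SpTwoN.KappaE
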