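import Cfsg.Agent.OddHalf.SpTwoN.DichKill
import Cfsg.Agent.OddHalf.SpTwoN.KappaE
import Cfsg.Agent.OddHalf.SpTwoN.Asm

/-!
# `κ = 0`

`kill'`: the homocyclic configuration in relation form; `kappa`: if all classes are moved then there is an element
`y` over `u` commuting with `C_L(b_u)`.
-/

set_option autoImplicit false

namespace Cfsg.Agent.OddHalf.SpTwoN.KappaKill

open Cfsg.Agent.StandardComponent.SpTwo Cfsg.Agent.OddHalf.SpTwo Cfsg.Agent.OddHalf.SpTwoN.Words
open Cfsg.Agent.OddHalf.SpTwoN Cfsg.Agent.OddHalf.SpTwoN.DichFrame Cfsg.Agent.OddHalf.SpTwoN.DichKill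
open Cfsg.Agent.OddHalf.SpTwoN.LBStart Cfsg.Agent.OddHalf.SpTwoN.KappaDef Cfsg.Agent.OddHalf.SpTwoN.KappaE

variable {G V : Type*} [Group G] [AddCommGroup V] [Module (ZMod 2) V]

theorem kill' [Finite V] (C : Ctx G V) {u : V} (hu : u ≠ 0) (M : V → G → Prop)
    (hex : ∀ v, C.S.B u v = 0 → v ≠ 0 → v ≠ u → ∃ m, M v m)
    (hcen : ∀ v m, C.S.B u v = 0 → M v m → ∀ e, C.S.B u e = 0 → C.S.B v e = 0 → m * C.b e = C.b e * m)
    (hsq : ∀ v m, C.S.B u v = 0 → v ≠ 0 → v ≠ u → M v m → m * m = (sg C.S u v : C.L))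
    (hcomm : ∀ v v' m m', C.S.B u v = 0 → C.S.B u v' = 0 → C.S.B v v' = 0 → v ≠ 0 → v ≠ u → v' ≠ 0 → v' ≠ u →
      M v m → M v' m' → m * m' = m' * m)
    (heq : ∀ k : C.L, C.S.ρ k u = u → ∀ v m, M v m → M (C.S.ρ k v) (k * m * (k : G)⁻¹))
    (hT : ∀ v v' m m' m'', C.S.B u v = 0 → C.S.B u v' = 0 → C.S.B v v' = 0 → v ≠ 0 → v ≠ u → v' ≠ 0 → v' ≠ u →
      v + v' ≠ 0 → v + v' ≠ u → M v m → M v' m' → M (v + v') m'' → ∃ k : C.L, m * m' * m'' = k ∧
        ∀ e, C.S.B u e = 0 → C.S.B v e = 0 → C.S.B v' e = 0 → C.S.ρ k e = e) : False := by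
  obtain ⟨a, b, c, e, f, g, h, F⟩ := exists_fr C.S C.cardV hu
  have sy : ∀ {x y : V} {i : ZMod 2}, C.S.B x y = i → C.S.B y x = i := fun {x y i} hxy => by
    rw [C.S.symm]; exact hxy
  have ne : ∀ {x y z : V}, C.S.B x z = 1 → C.S.B y z = 0 → x ≠ y := by
    rintro x y z h1 h2 rfl
    rw [h1] at h2
    exact one_ne_zero h2
  have z0 : ∀ z, C.S.B 0 z = 0 := fun z => by rw [map_zero]; rfl
  -- nonzero conditions
  have a0 : a ≠ 0 := ne F.af (z0 f)
  have au : a ≠ u := ne F.af F.uf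
  have b0 : b ≠ 0 := ne F.bg (z0 g)
  have bu : b ≠ u := ne F.bg F.ug
  have c0 : c ≠ 0 := ne F.ch (z0 h)
  have cu : c ≠ u := ne F.ch F.uh
  have abg : C.S.B (a + b) g = 1 := by rw [B_add, F.ag, F.bg, zero_add]
  have bcg : C.S.B (b + c) g = 1 := by rw [B_add, F.bg, F.cg, add_zero]
  have abcg : C.S.B (a + b + c) g = 1 := by rw [B_add, abg, F.cg, add_zero]
  have ab0 : a + b ≠ 0 := ne abg (z0 g)
  have abu : a + b ≠ u := ne abg F.ug
  have bc0 : b + c ≠ 0 := ne bcg (z0 g)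
  have bcu : b + c ≠ u := ne bcg F.ug
  have abc0 : a + b + c ≠ 0 := ne abcg (z0 g)
  have abcu : a + b + c ≠ u := ne abcg F.ug
  -- the two short root elements
  obtain ⟨x, hx⟩ : ∃ x, x = sg C.S a g := ⟨_, rfl⟩
  obtain ⟨x', hx'⟩ : ∃ x', x' = sg C.S c g := ⟨_, rfl⟩
  have rx : ∀ z, C.S.ρ x z = z + (C.S.B z g • a + C.S.B z a • g) := fun z => by rw [hx, ρ_sg C.S F.ag]
  have rx' : ∀ z, C.S.ρ x' z = z + (C.S.B z g • c + C.S.B z c • g) := fun z => by rw [hx', ρ_sg C.S F.cg]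
  have xi : x⁻¹ = x := by rw [hx, sg_inv C.S F.ag]
  have xi' : x'⁻¹ = x' := by rw [hx', sg_inv C.S F.cg]
  have xu : C.S.ρ x u = u := by rw [rx, F.ug, F.ua, zero_smul, zero_smul, add_zero, add_zero]
  have xa : C.S.ρ x a = a := by rw [rx, F.ag, C.S.alt, zero_smul, zero_smul, add_zero, add_zero]
  have xb : C.S.ρ x b = b + a := by rw [rx, F.bg, sy F.ab, one_smul, zero_smul, add_zero]
  have xc : C.S.ρ x c = c := by rw [rx, F.cg, sy F.ac, zero_smul, zero_smul, add_zero, add_zero]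
  have xu' : C.S.ρ x' u = u := by rw [rx', F.ug, F.uc, zero_smul, zero_smul, add_zero, add_zero]
  have xa' : C.S.ρ x' a = a := by rw [rx', F.ag, F.ac, zero_smul, zero_smul, add_zero, add_zero]
  have xb' : C.S.ρ x' b = b + c := by rw [rx', F.bg, F.bc, one_smul, zero_smul, add_zero]
  have xc' : C.S.ρ x' c = c := by rw [rx', F.cg, C.S.alt, zero_smul, zero_smul, add_zero, add_zero]
  have uab : C.S.B u (a + b) = 0 := by rw [map_add, F.ua, F.ub, add_zero]
  have ubc : C.S.B u (b + c) = 0 := by rw [map_add, F.ub, F.uc, add_zero]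
  have uabc : C.S.B u (a + b + c) = 0 := by rw [map_add, uab, F.uc, add_zero]
  -- the six elements
  obtain ⟨A, hA⟩ := hex a F.ua a0 au
  obtain ⟨B, hB⟩ := hex b F.ub b0 bu
  obtain ⟨C0, hC⟩ := hex c F.uc c0 cu
  obtain ⟨P, hPd⟩ : ∃ P, P = (x : G) * B * (x : G)⁻¹ := ⟨_, rfl⟩
  obtain ⟨Q, hQd⟩ : ∃ Q, Q = (x' : G) * B * (x' : G)⁻¹ := ⟨_, rfl⟩
  obtain ⟨R, hRd⟩ : ∃ R, R = (x' : G) * P * (x' : G)⁻¹ := ⟨_, rfl⟩
  have hP : M (a + b) P := by
    have := heq x xu _ _ hB
    rwa [xb, add_comm b a, ← hPd] at this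
  have hQ : M (b + c) Q := by
    have := heq x' xu' _ _ hB
    rwa [xb', ← hQd] at this
  have hR : M (a + b + c) R := by
    have := heq x' xu' _ _ hP
    rwa [map_add, xa', xb', ← add_assoc, ← hRd] at this
  -- commutation with the short root elements
  have cs : ∀ {v : V} {m : G} {p q : V}, C.S.B u v = 0 → M v m → C.S.B u p = 0 → C.S.B v p = 0 →
      C.S.B u q = 0 → C.S.B v q = 0 → m * (sg C.S p q : C.L) = (sg C.S p q : C.L) * m := by
    intro v m p q h0 hm h1 h2 h3 h4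
    have e1 := hcen v m h0 hm p h1 h2
    have e2 := hcen v m h0 hm q h3 h4
    have e3 := hcen v m h0 hm (p + q) (by rw [map_add, h1, h3, add_zero]) (by rw [map_add, h2, h4, add_zero])
    exact ((Commute.mul_right e1 e2).mul_right e3).eq
  have conj_of : ∀ {m s : G}, m * s = s * m → s * m * s⁻¹ = m := fun {m s} hms => by
    rw [← hms, mul_inv_cancel_right]
  have xA : (x : G) * A * (x : G)⁻¹ = A := conj_of (by rw [hx]; exact cs F.ua hA F.ua (C.S.alt a) F.ug F.ag)
  have xC : (x : G) * C0 * (x : G)⁻¹ = C0 := conj_of (by rw [hx]; exact cs F.uc hC F.ua (sy F.ac) F.ug F.cg)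
  have xA' : (x' : G) * A * (x' : G)⁻¹ = A := conj_of (by rw [hx']; exact cs F.ua hA F.uc F.ac F.ug F.ag)
  have xC' : (x' : G) * C0 * (x' : G)⁻¹ = C0 := conj_of (by rw [hx']; exact cs F.uc hC F.uc (C.S.alt c) F.ug F.cg)
  have xx' : x * x' = x' * x := by
    apply C.S.ext_iff
    intro z
    rw [C.S.ρ_mul, C.S.ρ_mul, rx', rx z]
    simp only [map_add, map_smul, rx, rx', LinearMap.add_apply, LinearMap.smul_apply, F.ag, F.cg, sy F.ag, sy F.cg,
      F.ac, sy F.ac, C.S.alt, add_zero, smul_eq_mul, mul_zero]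
    abel
  have hRd2 : (x : G) * Q * (x : G)⁻¹ = R := by
    have e1 : (x : G) * x' = x' * x := congrArg Subtype.val xx'
    have e2 : (x' : G)⁻¹ * (x : G)⁻¹ = (x : G)⁻¹ * (x' : G)⁻¹ := by rw [← mul_inv_rev, ← mul_inv_rev, e1]
    rw [hQd, hRd, hPd]
    calc (x : G) * (x' * B * (x' : G)⁻¹) * (x : G)⁻¹ = (x * x') * B * ((x' : G)⁻¹ * (x : G)⁻¹) := by group
      _ = _ := by rw [e1, e2]; group
  have hQ2 : (x' : G) * Q * (x' : G)⁻¹ = B := by
    have e1 : (x' : G)⁻¹ = x' := congrArg Subtype.val xi'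
    have e2 : (x' : G) * x' = 1 := by
      calc (x' : G) * x' = (x' : G)⁻¹ * x' := by rw [e1]
        _ = 1 := by group
    rw [hQd, e1]
    calc (x' : G) * (x' * B * x') * x' = (x' * x') * B * (x' * x') := by group
      _ = _ := by rw [e2]; group
  -- the products
  obtain ⟨k, hk, hkf⟩ := hT a b A B P F.ua F.ub F.ab a0 au b0 bu ab0 abu hA hB hP
  obtain ⟨l, hl, hlf⟩ := hT b c B C0 Q F.ub F.uc F.bc b0 bu c0 cu bc0 bcu hB hC hQ
  have t0 : ∀ {i j : ZMod 2}, i = 0 → j = 0 → i + j = 0 := by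
    rintro _ _ rfl rfl
    rfl
  have hBQ := hcomm _ _ _ _ F.ub ubc (by rw [map_add]; exact t0 (C.S.alt b) F.bc) b0 bu bc0 bcu hB hQ
  have hCQ := hcomm _ _ _ _ F.uc ubc (by rw [map_add]; exact t0 (sy F.bc) (C.S.alt c)) c0 cu bc0 bcu hC hQ
  have hBC := hcomm _ _ _ _ F.ub F.uc F.bc b0 bu c0 cu hB hC
  have hk' : (x' : G) * k * (x' : G)⁻¹ = A * Q * R := by
    rw [← hk, show (x' : G) * (A * B * P) * (x' : G)⁻¹ = (x' * A * (x' : G)⁻¹) *
      (x' * B * (x' : G)⁻¹) * (x' * P * (x' : G)⁻¹) by group, xA', ← hQd, ← hRd]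
  have hl' : (x : G) * l * (x : G)⁻¹ = P * C0 * R := by
    rw [← hl, show (x : G) * (B * C0 * Q) * (x : G)⁻¹ = (x * B * (x : G)⁻¹) *
      (x * C0 * (x : G)⁻¹) * (x * Q * (x : G)⁻¹) by group, xC, ← hPd, hRd2]
  have hl2 : (x' : G) * l * (x' : G)⁻¹ = l := by
    rw [← hl, show (x' : G) * (B * C0 * Q) * (x' : G)⁻¹ = (x' * B * (x' : G)⁻¹) *
      (x' * C0 * (x' : G)⁻¹) * (x' * Q * (x' : G)⁻¹) by group, xC', ← hQd, hQ2]
    rw [← hCQ, mul_assoc, ← hBQ, ← mul_assoc, ← hBC]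
  -- the main identity
  have hmain : (x' : G) * k * (x' : G)⁻¹ * k * (C0 * C0) = A * A * (l * ((x : G) * l * (x : G)⁻¹)) := by
    rw [hk', hl', ← hk, ← hl]
    apply six
    · exact hcomm _ _ _ _ F.ua F.ub F.ab a0 au b0 bu hA hB
    · exact hcomm _ _ _ _ F.ua F.uc F.ac a0 au c0 cu hA hC
    · exact hcomm _ _ _ _ F.ua uab (by rw [map_add]; exact t0 (C.S.alt a) F.ab) a0 au ab0 abu hA hP
    · exact hcomm _ _ _ _ F.ua ubc (by rw [map_add]; exact t0 F.ab F.ac) a0 au bc0 bcu hA hQ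
    · exact hcomm _ _ _ _ F.ua uabc (by rw [map_add, map_add]; exact t0 (t0 (C.S.alt a) F.ab) F.ac) a0 au abc0 abcu
        hA hR
    · exact hBC
    · exact hcomm _ _ _ _ F.ub uab (by rw [map_add]; exact t0 (sy F.ab) (C.S.alt b)) b0 bu ab0 abu hB hP
    · exact hBQ
    · exact hcomm _ _ _ _ F.ub uabc (by rw [map_add, map_add]; exact t0 (t0 (sy F.ab) (C.S.alt b)) F.bc)
        b0 bu abc0 abcu hB hR
    · exact hcomm _ _ _ _ F.uc uab (by rw [map_add]; exact t0 (sy F.ac) (sy F.bc)) c0 cu ab0 abu hC hP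
    · exact hCQ
    · exact hcomm _ _ _ _ F.uc uabc (by rw [map_add, map_add]; exact t0 (t0 (sy F.ac) (sy F.bc)) (C.S.alt c))
        c0 cu abc0 abcu hC hR
    · exact hcomm _ _ _ _ uab ubc (by
        rw [B_add, map_add, map_add]; exact t0 (t0 F.ab F.ac) (t0 (C.S.alt b) F.bc)) ab0 abu bc0 bcu hP hQ
    · exact hcomm _ _ _ _ uab uabc (by
        rw [map_add, C.S.alt, B_add]; exact t0 rfl (t0 F.ac F.bc)) ab0 abu abc0 abcu hP hR
    · exact hcomm _ _ _ _ ubc uabc (by
        rw [add_assoc a b c, map_add, C.S.alt, B_add]; exact t0 (t0 (sy F.ab) (sy F.ac)) rfl) bc0 bcu abc0 abcu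
        hQ hR
  rw [hsq a A F.ua a0 au hA, hsq c C0 F.uc c0 cu hC] at hmain
  have hmain' : x' * k * x'⁻¹ * k * sg C.S u c = sg C.S u a * (l * (x * l * x⁻¹)) := Subtype.ext hmain
  have hl2' : x' * l * x'⁻¹ = l := Subtype.ext hl2
  -- the action
  obtain ⟨α, β, γ, h1⟩ := fix3 C.S hkf f
  obtain ⟨α', β', γ', h2⟩ := fix3 C.S hlf g
  obtain ⟨α₂, β₂, γ₂, h3⟩ := fix3 C.S hlf h
  have ku : C.S.ρ k u = u := hkf u (C.S.alt u) (sy F.ua) (sy F.ub)
  have ka : C.S.ρ k a = a := hkf a F.ua (C.S.alt a) (sy F.ab)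
  have kb : C.S.ρ k b = b := hkf b F.ub F.ab (C.S.alt b)
  have kc : C.S.ρ k c = c := hkf c F.uc F.ac F.bc
  have lu : C.S.ρ l u = u := hlf u (C.S.alt u) (sy F.ub) (sy F.uc)
  have la : C.S.ρ l a = a := hlf a F.ua (sy F.ab) (sy F.ac)
  have lb : C.S.ρ l b = b := hlf b F.ub (C.S.alt b) (sy F.bc)
  have lc : C.S.ρ l c = c := hlf c F.uc F.bc (C.S.alt c)
  have lf : C.S.ρ l f = f := hlf f F.uf F.bf F.cf
  -- `α' = 0`
  have hα' : α' = 0 := by
    have h4 : l * x' = x' * l := by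
      calc l * x' = x' * l * x'⁻¹ * x' := by rw [hl2']
        _ = x' * l := by group
    have h5 : C.S.ρ (l * x') h = C.S.ρ (x' * l) h := by rw [h4]
    rw [C.S.ρ_mul, C.S.ρ_mul, rx', h3, sy F.ch, one_smul] at h5
    simp only [map_add, map_smul, lc, h2, h3, xu', xb', xc'] at h5
    rw [rx' h, sy F.ch, one_smul] at h5
    have h6 := congrArg (fun z => C.S.B z e) h5
    simp only [map_add, map_smul, LinearMap.add_apply, LinearMap.smul_apply, smul_eq_mul, F.ue, F.be, F.ce,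
      mul_zero, mul_one, add_zero] at h6
    have h7 : ∀ p q r s : ZMod 2, p + r + (0 + (q + s)) = p + (0 + q) + r → s = 0 := by decide
    exact h7 _ _ _ _ h6
  have h5 : C.S.ρ (x' * k * x'⁻¹ * k * sg C.S u c) f = C.S.ρ (sg C.S u a * (l * (x * l * x⁻¹))) f := by rw [hmain']
  have hs1 : C.S.ρ (sg C.S u c) f = f := by
    rw [ρ_sg C.S F.uc, sy F.cf, sy F.uf, zero_smul, zero_smul, add_zero, add_zero]
  rw [xi, xi'] at h5
  simp only [C.S.ρ_mul] at h5
  rw [hs1, h1] at h5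
  have h7 : C.S.ρ x' f = f + C.S.B f g • c := by rw [rx', sy F.cf, zero_smul, add_zero]
  have h8 : C.S.ρ x f = f + (C.S.B f g • a + g) := by rw [rx, sy F.af, one_smul]
  have h9 : C.S.ρ x g = g := by rw [rx, C.S.alt, sy F.ag, zero_smul, zero_smul, add_zero, add_zero]
  simp only [map_add, map_smul, h7, xu', xa', xb', ku, ka, kb, kc, h1, h8, h9, lf, la, h2, xu, xa, xb, xc, xc',
    lu, lb, lc, ρ_sg C.S F.ua] at h5
  have h6 := congrArg (fun z => C.S.B z e) h5
  have hgu : C.S.B g u = 0 := sy F.ug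
  have hfu : C.S.B f u = 0 := sy F.uf
  have hfa : C.S.B f a = 1 := sy F.af
  have hga : C.S.B g a = 0 := sy F.ag
  simp only [map_add, map_smul, LinearMap.add_apply, LinearMap.smul_apply, smul_eq_mul, F.ue, F.ae, F.be, F.ce,
    mul_zero, mul_one, add_zero, C.S.alt, sy F.ua, sy F.ub, sy F.uc, F.ua, sy F.ab,
    sy F.ac, hgu, hfu, hfa, hga, zero_add] at h6
  subst hα'
  have h10 : ∀ p q r : ZMod 2, p + r + r = p + (q + 0) + (q + 0 + 0) + 1 → False := by decide
  exact h10 _ _ _ h6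

/-- existence of the elements `y` over lines (form of `Asm.Inputs.short`) -/
def Short (C : Ctx G V) : Prop :=
  ∀ u w, C.S.B u w = 0 → u ≠ 0 → w ≠ 0 → u ≠ w → ∃ y : G, y * y = 1 ∧
    y * C.t * y = C.t * ((Words.sg C.S u w : C.L) : G) ∧
    ∀ e, C.S.B u e = 0 → C.S.B w e = 0 → y * C.b e = C.b e * y

theorem sg_eq (C : Ctx G V) (u w : V) : ((Words.sg C.S u w : C.L) : G) = qg C u w 0 := KappaE.s_eq u w

theorem uc_or (C : Ctx G V) (hS : Short C) {u v : V} (hu : u ≠ 0) (hv : v ∉ ln u) (hvu : C.S.B v u = 0) :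
    ∃ y, U0 C u v y ∨ UC C u v y := by
  have hfinV := C.finV
  obtain ⟨y, h1, h2, h3⟩ := hS u v (by rw [C.symm]; exact hvu) hu (ne_zero_of_notMem hv)
    (fun h => hv (by rw [← h]; exact self_mem_ln u))
  have h : IsX C u v y := ⟨h1, by rw [h2, sg_eq], fun e he he' => h3 e (by rw [C.symm]; exact he)
    (by rw [C.symm]; exact he')⟩
  exact h.cases hu hv hvu

theorem _root_.Cfsg.Agent.OddHalf.SpTwoN.KappaDef.UC.add_self {C : Ctx G V} {u v : V} {y : G}
    (h : UC C u v y) (hv : C.S.B v u = 0) : UC C u (v + u) y := by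
  refine ⟨h.toIsX.add_self hv, fun p e hp => ?_⟩
  rw [h.act p e hp, C.B_add_right, hp, add_zero, smul_add]
  rcases z2 (C.S.B p v) with h1 | h1
  · simp only [h1, zero_smul, add_zero]
  · rw [h1, one_smul, one_smul, ← add_assoc, qg_add_self C (by rw [C.B_add_left, hp, hv, add_zero])]

/-- **`κ = 0`** -/
theorem kappa_ne_one (C : Ctx G V) (hS : Short C) (hY : ∀ w, w ≠ 0 → ∃ n Q, IsY C w n ∧ HasType C w n 1 Q) :
    False := by
  have hfinV := C.finV
  obtain ⟨u, hu⟩ : ∃ u : V, u ≠ 0 := by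
    obtain ⟨x, -, hx⟩ := room C.S C.cardV (A := ⊥) (A' := ⊥) (by simp)
    exact ⟨x, by simpa using hx⟩
  have hUC : ∀ v, v ∉ ln u → C.S.B v u = 0 → ∃ y, UC C u v y := by
    intro v hv hvu
    obtain ⟨y, h | h⟩ := uc_or C hS hu hv hvu
    · exfalso
      obtain ⟨n, Q, hn, ht⟩ := hY u hu
      exact one_ne_zero (h.kappa_zero hu hv hvu hn ht)
    · exact ⟨y, h⟩
  have sy : ∀ {x y : V}, C.S.B x y = 0 → C.S.B y x = 0 := fun {x y} hxy => by rw [C.symm]; exact hxy
  have hst : ∀ v, C.t * qg C u v 0 = qg C u v 0 * C.t := fun v => (qg_t C).symm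
  have htyt : ∀ v y, C.S.B v u = 0 → UC C u v y → C.t * y * C.t = qg C u v 0 * y := fun v y _ h => h.toIsX.t_conj
  -- coplanar elements
  have htr : ∀ v v' y y' y'', C.S.B v u = 0 → C.S.B v' u = 0 → C.S.B v' v = 0 → v ∉ ln u → v' ∉ pl u v →
      UC C u v y → UC C u v' y' → UC C u (v + v') y'' → ∃ k : C.L, y * y' * y'' = C.t * k ∧
        ∀ e, C.S.B u e = 0 → C.S.B v e = 0 → C.S.B v' e = 0 → C.S.ρ k e = e :=
    fun v v' y y' y'' h1 h2 h3 h4 h5 h6 h7 h8 => triple hY hu h4 h5 h1 h2 h3 h6 h7 h8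
  refine kill' C hu (fun v m => ∃ y, UC C u v y ∧ m = y * C.t) ?_ ?_ ?_ ?_ ?_ ?_
  · intro v huv h0 h1
    obtain ⟨y, hy⟩ := hUC v (notMem_ln h0 h1) (sy huv)
    exact ⟨_, y, hy, rfl⟩
  · rintro v m huv ⟨y, hy, rfl⟩ e he he'
    have e1 := hy.comm e (sy he) (sy he')
    have e2 : C.t * C.b e = C.b e * C.t := (t_comm C (C.S.τ e)).symm
    exact (Commute.mul_left e1 e2).eq
  · rintro v m huv h0 h1 ⟨y, hy, rfl⟩
    rw [sg_eq]
    calc y * C.t * (y * C.t) = (y * C.t * y) * C.t := by group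
      _ = C.t * qg C u v 0 * C.t := by rw [hy.conj_t]
      _ = qg C u v 0 * (C.t * C.t) := by rw [hst]; group
      _ = _ := by rw [C.tt, mul_one]
  · rintro v v' m m' huv huv' hvv' h0 h1 h0' h1' ⟨y, hy, rfl⟩ ⟨y', hy', rfl⟩
    have hvu := sy huv
    have hvu' := sy huv'
    have hvl := notMem_ln h0 h1
    by_cases hpl : v' ∈ pl u v
    · -- the same line
      have h2 : IsX C u v y' := by
        rcases mem_pl.1 hpl with h3 | h3 | h3 | h3
        · exact absurd h3 h0'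
        · exact absurd h3 h1'
        · rw [h3] at hy'; exact hy'.toIsX
        · rw [h3, add_comm u v] at hy'; exact hy'.toIsX.add_self' hvu
      obtain ⟨a, c, d, h4⟩ := hy.toIsX.same hu hvl hvu h2
      have hcv : C.S.B (c • v) u = 0 := by rw [C.B_smul_left, hvu, mul_zero]
      have hdv : C.S.B (d • v) u = 0 := by rw [C.B_smul_left, hvu, mul_zero]
      have e1 : y * qg C u (c • v) a = qg C u (c • v) a * y :=
        hy.toIsX.comm_q hvu hcv (by rw [C.B_smul_left, C.B_self, mul_zero]) a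
      have e2 : y * C.b (d • v) = C.b (d • v) * y :=
        hy.comm _ hdv (by rw [C.B_smul_left, C.B_self, mul_zero])
      have e3 : C.t * qg C u (c • v) a = qg C u (c • v) a * C.t := (qg_t C).symm
      have e4 : C.t * C.b (d • v) = C.b (d • v) * C.t := (t_comm C (C.S.τ (d • v))).symm
      have e5 : Commute (y * C.t) (qg C u (c • v) a * C.b (d • v)) :=
        (Commute.mul_left e1 e3).mul_right (Commute.mul_left e2 e4)
      rw [h4, mul_assoc _ y C.t]
      exact (e5.mul_right (Commute.refl _)).eq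
    · -- a plane
      have hpl' : v + v' ∉ ln u := fun e1 => hpl (by
        rcases mem_ln.1 e1 with e2 | e2
        · rw [← eq_of_add _ _ e2]; exact right_mem_pl u v
        · have e3 : v' = v + u := by rw [← e2, aac]
          rw [e3]; exact add_mem (right_mem_pl u v) (left_mem_pl u v))
      have hwu : C.S.B (v + v') u = 0 := by rw [C.B_add_left, hvu, hvu', add_zero]
      obtain ⟨y'', hy''⟩ := hUC (v + v') hpl' hwu
      obtain ⟨k, hk, hkf⟩ := htr v v' y y' y'' hvu hvu' (sy hvv') hvl hpl hy hy' hy''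
      -- `k` is an involution commuting with `y, y', y''`
      obtain ⟨W, hW, hAW⟩ := exists_max_ge C.S (A := pl u v ⊔ ln v') (by
        have e0 : ∀ z, C.S.B z u = 0 → C.S.B z v = 0 → C.S.B z v' = 0 → z ∈ perp C.S (pl u v ⊔ ln v') := by
          intro z e1 e2 e3
          rw [mem_perp_sup, mem_perp_pl, mem_perp_ln]
          exact ⟨⟨e1, e2⟩, e3⟩
        have e5 : ∀ x : V, x ∈ perp C.S (pl u v ⊔ ln v') → ln x ≤ perp C.S (pl u v ⊔ ln v') := by
          intro x hx z hz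
          rcases mem_ln.1 hz with rfl | rfl
          · exact zero_mem _
          · exact hx
        have e6 : ln u ⊔ ln v ≤ perp C.S (pl u v ⊔ ln v') :=
          sup_le (e5 u (e0 u (C.B_self u) huv huv')) (e5 v (e0 v hvu (C.B_self v) hvv'))
        rw [← pl_eq] at e6
        exact sup_le e6 (e5 v' (e0 v' hvu' (sy hvv') (C.B_self v'))))
      have huW : u ∈ W := hAW (Submodule.mem_sup_left (left_mem_pl u v))
      have hvW : v ∈ W := hAW (Submodule.mem_sup_left (right_mem_pl u v))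
      have hv'W : v' ∈ W := hAW (Submodule.mem_sup_right (self_mem_ln v'))
      have hkW : k ∈ Iso.AW C.S W := fun x hx => hkf x (hW.perp huW hx) (hW.perp hvW hx) (hW.perp hv'W hx)
      have hkk : (k : G) * k = 1 := Transl.asq hW hkW
      have c1 := comm_AW hW huW hvW hy.toIsX hkW
      have c2 := comm_AW hW huW hv'W hy'.toIsX hkW
      have hkt := t_comm C k
      have e1 : y * y' = C.t * k * y'' := by rw [← hk, mul_assoc _ y'' y'', hy''.sq, mul_one]
      have e2 : y'' = k * C.t * (y * y') := by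
        rw [e1]
        calc y'' = k * (C.t * C.t) * k * y'' := by rw [C.tt, mul_one, hkk, one_mul]
          _ = _ := by group
      have e3 := hy''.sq
      -- `t y y' t y y' = 1`
      have e4 : (C.t * (y * y')) * (C.t * (y * y')) = 1 := by
        have e5 : (k : G) * (C.t * (y * y')) = (C.t * (y * y')) * k := by
          calc (k : G) * (C.t * (y * y')) = (k * C.t) * y * y' := by group
            _ = C.t * (k * y) * y' := by rw [hkt]; group
            _ = C.t * y * (k * y') := by rw [← c1]; group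
            _ = _ := by rw [← c2]; group
        rw [e2] at e3
        calc (C.t * (y * y')) * (C.t * (y * y')) = (k * k) * ((C.t * (y * y')) * (C.t * (y * y'))) := by
              rw [hkk, one_mul]
          _ = k * (k * (C.t * (y * y'))) * (C.t * (y * y')) := by group
          _ = k * (C.t * (y * y') * k) * (C.t * (y * y')) := by rw [e5]
          _ = k * (C.t * (y * y')) * (k * (C.t * (y * y'))) := by group
          _ = 1 := by rw [← e3]; group
      have f1 := htyt v y hvu hy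
      have f2 := htyt v' y' hvu' hy'
      have g1 := hy.toIsX.comm_q hvu hvu' (sy hvv') 0
      have g2 : y' * qg C u v 0 = qg C u v 0 * y' := hy'.toIsX.comm_q hvu' hvu hvv' 0
      have ss : qg C u v 0 * qg C u v 0 = 1 := qg_sq C hvu
      have ss' : qg C u v' 0 * qg C u v' 0 = 1 := qg_sq C hvu'
      have scomm : qg C u v 0 * qg C u v' 0 = qg C u v' 0 * qg C u v 0 := qg_comm C hvu hvu'
      -- `s s' y y' y y' = 1`
      have e6 : qg C u v 0 * qg C u v' 0 * (y * y' * (y * y')) = 1 := by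
        rw [← e4]
        calc qg C u v 0 * qg C u v' 0 * (y * y' * (y * y')) = qg C u v 0 * (qg C u v' 0 * y) * y' * (y * y') := by
              group
          _ = (qg C u v 0 * y) * (qg C u v' 0 * y') * (y * y') := by rw [← g1]; group
          _ = C.t * y * (C.t * C.t) * y' * C.t * (y * y') := by rw [← f1, ← f2]; group
          _ = _ := by rw [C.tt]; group
      have yy := hy.sq
      have yy' := hy'.sq
      -- `y y' = s s' y' y`
      have e7 : y * y' = qg C u v 0 * qg C u v' 0 * (y' * y) := by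
        have e8 : qg C u v 0 * qg C u v' 0 * (y * y') * (y * y') = 1 := by rw [← e6]; group
        have e9 : qg C u v 0 * qg C u v' 0 * (y * y') = y' * y := by
          calc qg C u v 0 * qg C u v' 0 * (y * y') = qg C u v 0 * qg C u v' 0 * (y * y') * (y * y') * (y' * y) := by
                calc qg C u v 0 * qg C u v' 0 * (y * y') =
                    qg C u v 0 * qg C u v' 0 * (y * y') * (y * (y' * y') * y) := by rw [yy', mul_one, yy, mul_one]
                  _ = _ := by group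
            _ = _ := by rw [e8, one_mul]
        rw [← e9]
        calc y * y' = (qg C u v 0 * qg C u v 0) * (qg C u v' 0 * qg C u v' 0) * (y * y') := by
              rw [ss, ss', one_mul, one_mul]
          _ = qg C u v 0 * (qg C u v 0 * qg C u v' 0) * qg C u v' 0 * (y * y') := by group
          _ = qg C u v 0 * (qg C u v' 0 * qg C u v 0) * qg C u v' 0 * (y * y') := by rw [scomm]
          _ = _ := by group
      calc y * C.t * (y' * C.t) = y * (C.t * y' * C.t) := by group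
        _ = (y * qg C u v' 0) * y' := by rw [f2]; group
        _ = qg C u v' 0 * (y * y') := by rw [g1]; group
        _ = (qg C u v' 0 * qg C u v 0) * qg C u v' 0 * (y' * y) := by rw [e7]; group
        _ = qg C u v 0 * (qg C u v' 0 * qg C u v' 0) * (y' * y) := by rw [← scomm]; group
        _ = (qg C u v 0 * y') * y := by rw [ss']; group
        _ = y' * (qg C u v 0 * y) := by rw [← g2]; group
        _ = y' * (C.t * y * C.t) := by rw [f1]
        _ = _ := by group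
  · rintro k hk v m ⟨y, hy, rfl⟩
    refine ⟨k * y * (k : G)⁻¹, ?_, ?_⟩
    · have := hy.conj k
      rwa [hk] at this
    · have e1 : (k : G)⁻¹ * C.t = C.t * (k : G)⁻¹ := by
        rw [inv_mul_eq_iff_eq_mul, ← mul_assoc, t_comm C k, mul_inv_cancel_right]
      rw [mul_assoc _ (k : G)⁻¹ C.t, e1]
      group
  · rintro v v' m m' m'' huv huv' hvv' h0 h1 h0' h1' h2 h3 ⟨y, hy, rfl⟩ ⟨y', hy', rfl⟩ ⟨y'', hy'', rfl⟩
    have hvu := sy huv
    have hvu' := sy huv'
    have hvl := notMem_ln h0 h1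
    have hpl : v' ∉ pl u v := by
      intro h4
      rcases mem_pl.1 h4 with h5 | h5 | h5 | h5
      · exact h0' h5
      · exact h1' h5
      · exact h2 (by rw [h5, aa])
      · exact h3 (by rw [h5, add_comm u v, aac])
    obtain ⟨k, hk, hkf⟩ := htr v v' y y' y'' hvu hvu' (sy hvv') hvl hpl hy hy' hy''
    have g1 := hy.toIsX.comm_q hvu hvu' (sy hvv') 0
    have f2 := htyt v' y' hvu' hy'
    refine ⟨SpTwo.q C.S u v' 0 * k, ?_, fun e e1 e2 e3 => ?_⟩
    · calc y * C.t * (y' * C.t) * (y'' * C.t) = y * (C.t * y' * C.t) * y'' * C.t := by group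
        _ = (y * qg C u v' 0) * y' * y'' * C.t := by rw [f2]; group
        _ = qg C u v' 0 * (y * y' * y'') * C.t := by rw [g1]; group
        _ = qg C u v' 0 * C.t * (k * C.t) := by rw [hk]; group
        _ = qg C u v' 0 * (C.t * C.t) * k := by rw [t_comm C k]; group
        _ = _ := by rw [C.tt, mul_one]; rfl
    · rw [C.S.ρ_mul, hkf e e1 e2 e3, q_apply C.S hvu', sy e3, sy e1, zero_smul, zero_smul, mul_zero, zero_smul,
        add_zero, add_zero, add_zero]

theorem kappa [Finite G] (C : Ctx G V) (hS : Short C) (hL : PL C) : ∃ v y, v ≠ 0 ∧ Asm.Long C v y := by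
  have hfinV := C.finV
  obtain ⟨u, hu⟩ : ∃ u : V, u ≠ 0 := by
    obtain ⟨x, -, hx⟩ := room C.S C.cardV (A := ⊥) (A' := ⊥) (by simp)
    exact ⟨x, by simpa using hx⟩
  obtain ⟨κ, hκ⟩ := exists_kappa C
  have hYex : ∀ w, w ≠ 0 → ∃ y, IsY C w y := by
    intro w hw
    obtain ⟨g, hg⟩ := hL w hw
    exact SpTwo.exists_y C ⟨g, w, hw, hg.symm⟩ hw
  rcases z2 κ with h0 | h1
  · rw [h0] at hκ
    obtain ⟨y, hy⟩ := hYex u hu
    obtain ⟨Q, hQ⟩ := hκ u y hu hy
    obtain ⟨y', hy', hc⟩ := exists_commuting hu hy hQ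
    exact ⟨u, y', hu, hy'.sq, hy'.conj_t, fun k hk => (hc k hk).symm⟩
  · exfalso
    rw [h1] at hκ
    refine kappa_ne_one C hS fun w hw => ?_
    obtain ⟨y, hy⟩ := hYex w hw
    obtain ⟨Q, hQ⟩ := hκ w y hw hy
    exact ⟨y, Q, hy, hQ⟩

end Cfsg.Agent.OddHalf.SpTwoN.KappaKill
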