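import Cfsg.Agent.OddHalf.SpTwo.AsmShort
import Cfsg.Agent.OddHalf.SpTwo.EndCOCtx
import Cfsg.Agent.OddHalf.SpTwoN.KappaKill

/-!
# The row `K = Sp_2n(2)`, `n ≥ 4`

`inputs`: the inputs of the assembly; `false_of_psp`: no standard `K ≃* PSp m F`, `|F| = 2`, `m ≥ 4`.
-/

set_option autoImplicit false

namespace Cfsg.Agent.OddHalf.SpTwoN.RowTwo

open Cfsg Cfsg.Agent.OddHalf

universe u

theorem inputs : Asm.Inputs.{u} where
  short _ _ _ _ _ _ C h0 _ _ huw hu hw hne := SpTwo.short_of_PQ C h0 huw hu hw hne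
  kappa _ _ _ _ _ _ C hL h0 _ :=
    KappaKill.kappa C (fun _ _ huw hu hw hne => SpTwo.short_of_PQ C h0 huw hu hw hne) hL
  co _ _ _ _ _ _ _ _ Y h := SpTwo.EndCOCtx.exists_hom Y h

/-- **The row.** -/
theorem false_of_psp {G : Type u} [Group G] (C₀ : Iface.Ctx G) {K : Subgroup G} (S : Iface.Std G K)
    (hcyc : Iface.Cyc K) {m : ℕ} (hm : 4 ≤ m) {F : Type*} [Field F] [Fintype F] (hF : Fintype.card F = 2)
    (e : K ≃* PSp m F) : False :=
  Asm.false_of_inputs inputs C₀ S hcyc hm hF e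

end Cfsg.Agent.OddHalf.SpTwoN.RowTwo
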