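import Cfsg.Agent.OddHalf.SpTwoN.CCNorm
import Cfsg.Agent.OddHalf.SpTwoN.SemiGrow

/-!
# The end of the case (C, C)

`R W u = ⟨q u x, r u x : x ∈ W ∩ u^⊥⟩` is elementary abelian and good. Induction over non-degenerate subspaces `W`.
-/

set_option autoImplicit false

namespace Cfsg.Agent.OddHalf.SpTwoN

open Subgroup
open Cfsg.Agent.StandardComponent.SpTwo
open Cfsg.Agent.OddHalf.SpTwoN.SemiGrow

variable {G V : Type*} [Group G] [AddCommGroup V] [Module (ZMod 2) V]

/-- The group generated by the `q u x`, `r u x`, `x ∈ W ∩ u^⊥`. -/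
def RR (C : Ctx G V) (y : V → G) (W : Submodule (ZMod 2) V) (u : V) : Subgroup G :=
  closure {g | ∃ x ∈ W, C.S.B u x = 0 ∧ (g = C.q u x ∨ g = r y u x)}

/-- The group generated by the `b x`, `y x`, `x ∈ W`. -/
def MM (C : Ctx G V) (y : V → G) (W : Submodule (ZMod 2) V) : Subgroup G :=
  closure {g | ∃ x ∈ W, g = C.b x ∨ g = y x}

/-- `W` is the orthogonal space of `E`. -/
structure Perp (C : Ctx G V) (W : Submodule (ZMod 2) V) (E : Set V) : Prop where
  mem_iff : ∀ x, x ∈ W ↔ ∀ z ∈ E, C.S.B z x = 0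
  nondeg : ∀ x ∈ W, (∀ w ∈ W, C.S.B x w = 0) → x = 0

namespace Perp

variable {C : Ctx G V} {W : Submodule (ZMod 2) V} {E : Set V} (P : Perp C W E)
include P

theorem B_eq {x z : V} (hx : x ∈ W) (hz : z ∈ E) : C.S.B z x = 0 := (P.mem_iff x).1 hx z hz

theorem B_eq' {x z : V} (hx : x ∈ W) (hz : z ∈ E) : C.S.B x z = 0 := by
  rw [C.symm]; exact P.B_eq hx hz

/-- An element of `L` fixing `E` moves vectors by elements of `W`. -/
theorem add_mem {k : C.L} (hk : ∀ z ∈ E, C.S.ρ k z = z) (x : V) : C.S.ρ k x + x ∈ W := by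
  rw [P.mem_iff]
  intro z hz
  rw [C.B_add_right]
  have := C.S.inv k z x
  rw [hk z hz] at this
  rw [this, ← two_mul, show (2 : ZMod 2) = 0 from rfl, zero_mul]

theorem rho_mem {k : C.L} (hk : ∀ z ∈ E, C.S.ρ k z = z) {x : V} (hx : x ∈ W) : C.S.ρ k x ∈ W := by
  have h := W.add_mem (P.add_mem hk x) hx
  rwa [add_assoc, aa, add_zero] at h

theorem exists_one {u : V} (hu : u ∈ W) (hu0 : u ≠ 0) : ∃ f ∈ W, C.S.B f u = 1 := by
  by_contra hn
  push Not at hn
  apply hu0
  apply P.nondeg u hu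
  intro w hw
  rcases z2 (C.S.B w u) with h | h
  · rw [C.symm]; exact h
  · exact absurd h (hn w hw)

/-- An element of `L` which fixes `E`, `W ∩ u^⊥` and `f` is trivial. -/
theorem eq_one {u f : V} (hf : f ∈ W) (hfu : C.S.B f u = 1) {k : C.L} (hk : ∀ z ∈ E, C.S.ρ k z = z)
    (hkx : ∀ x ∈ W, C.S.B u x = 0 → C.S.ρ k x = x) (hkf : C.S.ρ k f = f) : k = 1 := by
  apply C.S.ext_iff
  intro v
  rw [C.S.ρ_one]
  apply eq_of_add
  apply P.nondeg _ (P.add_mem hk v)
  intro w hw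
  have h1 : ∀ x, C.S.ρ k x = x → C.S.B (C.S.ρ k v + v) x = 0 := by
    intro x hx
    rw [C.B_add_left]
    have := C.S.inv k v x
    rw [hx] at this
    rw [this, ← two_mul, show (2 : ZMod 2) = 0 from rfl, zero_mul]
  rcases z2 (C.S.B u w) with h | h
  · exact h1 w (hkx w hw h)
  · have h2 := h1 (w + f) (by
      rw [map_add, hkf]
      have h3 := hkx (w + f) (W.add_mem hw hf) (by rw [C.B_add_right, h, C.symm, hfu]; decide)
      rw [map_add, hkf] at h3
      exact h3)
    rw [C.B_add_right, h1 f hkf, add_zero] at h2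
    exact h2

end Perp

namespace YData

variable {C : Ctx G V} {y : V → G} (Y : YData C y) {W : Submodule (ZMod 2) V} {E : Set V}

theorem q_mem_RR {u x : V} (hx : x ∈ W) (h : C.S.B u x = 0) : C.q u x ∈ RR C y W u :=
  subset_closure ⟨x, hx, h, Or.inl rfl⟩

theorem r_mem_RR {u x : V} (hx : x ∈ W) (h : C.S.B u x = 0) : r y u x ∈ RR C y W u :=
  subset_closure ⟨x, hx, h, Or.inr rfl⟩

theorem b_mem_RR (u : V) : C.b u ∈ RR C y W u := by
  rw [← C.q_zero u]
  exact q_mem_RR W.zero_mem (C.B_zero_right u)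

include Y

theorem y_mem_RR (u : V) : y u ∈ RR C y W u := by
  rw [← Y.r_zero u]
  exact r_mem_RR W.zero_mem (C.B_zero_right u)

theorem gen_comm {u x z : V} (hu : u ≠ 0) (hx : C.S.B u x = 0) (hz : C.S.B u z = 0) {g h : G}
    (hg : g = C.q u x ∨ g = r y u x) (hh : h = C.q u z ∨ h = r y u z) : Commute g h := by
  rcases hg with rfl | rfl <;> rcases hh with rfl | rfl
  · exact C.q_comm hx hz
  · exact Y.q_comm_r hx hz
  · exact (Y.q_comm_r hz hx).symm
  · exact Y.r_comm hu hx hz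

/-- `RR` is abelian. -/
theorem RR_comm {u : V} (hu : u ≠ 0) {g h : G} (hg : g ∈ RR C y W u) (hh : h ∈ RR C y W u) : Commute g h := by
  have h1 : RR C y W u ≤ centralizer {g | ∃ x ∈ W, C.S.B u x = 0 ∧ (g = C.q u x ∨ g = r y u x)} := by
    refine (closure_le _).2 ?_
    rintro g ⟨x, -, hx, hg⟩
    rw [SetLike.mem_coe, mem_centralizer_iff]
    rintro h ⟨z, -, hz, hh⟩
    exact (Y.gen_comm hu hx hz hg hh).symm
  have h2 : RR C y W u ≤ centralizer (RR C y W u : Set G) := by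
    refine (closure_le _).2 ?_
    intro g hg'
    rw [SetLike.mem_coe, mem_centralizer_iff]
    intro h hh'
    exact (mem_centralizer_iff.1 (h1 hh') g hg').symm
  exact (mem_centralizer_iff.1 (h2 hh) g hg)

theorem RR_sq {u : V} (hu : u ≠ 0) {g : G} (hg : g ∈ RR C y W u) : g * g = 1 := by
  refine closure_induction (p := fun g _ => g * g = 1) ?_ (one_mul 1) ?_ ?_ hg
  · rintro g ⟨x, -, hx, rfl | rfl⟩
    · exact C.q_sq hx
    · exact Y.r_sq hx
  · intro a b ha hb h1 h2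
    have := Y.RR_comm hu ha hb
    rw [this.symm.mul_mul_mul_comm, h1, h2, one_mul]
  · intro a _ h1
    rw [← mul_inv_rev, h1, inv_one]

theorem RR_t {u : V} {g : G} (hg : g ∈ RR C y W u) : C.t * g * C.t ∈ RR C y W u := by
  have hle : RR C y W u ≤ (RR C y W u).comap (MulAut.conj C.t).toMonoidHom := by
    refine (closure_le _).2 ?_
    rintro g ⟨x, hxW, hx, hg⟩
    show C.t * g * C.t⁻¹ ∈ RR C y W u
    rw [C.t_inv]
    rcases hg with rfl | rfl
    · rw [commute_inv_of_conj C.tt (C.t_comm (C.q_mem u x))]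
      exact q_mem_RR hxW hx
    · rw [Y.t_conj_r hx]
      exact mul_mem (q_mem_RR hxW hx) (r_mem_RR hxW hx)
  have h1 : C.t * g * C.t⁻¹ ∈ RR C y W u := hle hg
  rwa [C.t_inv] at h1

theorem MM_t {g : G} (hg : g ∈ MM C y W) : C.t * g * C.t ∈ MM C y W := by
  have hle : MM C y W ≤ (MM C y W).comap (MulAut.conj C.t).toMonoidHom := by
    refine (closure_le _).2 ?_
    rintro g ⟨x, hxW, hg⟩
    show C.t * g * C.t⁻¹ ∈ MM C y W
    rw [C.t_inv]
    rcases hg with rfl | rfl
    · rw [commute_inv_of_conj C.tt (C.t_comm (C.b_mem x))]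
      exact subset_closure ⟨x, hxW, Or.inl rfl⟩
    · rw [Y.conj_t]
      exact mul_mem (subset_closure ⟨x, hxW, Or.inl rfl⟩) (subset_closure ⟨x, hxW, Or.inr rfl⟩)
  have h1 : C.t * g * C.t⁻¹ ∈ MM C y W := hle hg
  rwa [C.t_inv] at h1

omit Y in
theorem MM_comm_b (Y : YData C y) {z : V} (hz : ∀ x ∈ W, C.S.B z x = 0) {g : G} (hg : g ∈ MM C y W) :
    Commute g (C.b z) := by
  have hle : MM C y W ≤ centralizer {C.b z} := by
    refine (closure_le _).2 ?_
    rintro g ⟨x, hxW, hg⟩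
    rw [SetLike.mem_coe, mem_centralizer_singleton_iff]
    have h1 : C.S.B x z = 0 := by rw [C.symm]; exact hz x hxW
    rcases hg with rfl | rfl
    · exact C.b_comm h1
    · exact Y.y_comm_b h1
  exact mem_centralizer_singleton_iff.1 (hle hg)

omit Y in
theorem RR_le_MM {u : V} (hu : u ∈ W) : RR C y W u ≤ MM C y W := by
  refine (closure_le _).2 ?_
  rintro g ⟨x, hxW, hx, hg⟩
  rw [SetLike.mem_coe]
  rcases hg with rfl | rfl
  · exact mul_mem (subset_closure ⟨x, hxW, Or.inl rfl⟩) (subset_closure ⟨x + u, W.add_mem hxW hu, Or.inl rfl⟩)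
  · exact mul_mem (subset_closure ⟨x, hxW, Or.inr rfl⟩) (subset_closure ⟨x + u, W.add_mem hxW hu, Or.inr rfl⟩)

/-- the subgroup of `L` generated by the `q u x` -/
def _root_.Cfsg.Agent.OddHalf.SpTwoN.QL (C : Ctx G V) (W : Submodule (ZMod 2) V) (u : V) : Subgroup C.L :=
  closure {k | ∃ x ∈ W, C.S.B u x = 0 ∧ k = C.qL u x}

omit Y in
theorem QL_le {u : V} {k : C.L} (hk : k ∈ QL C W u) : (k : G) ∈ RR C y W u := by
  have hle : QL C W u ≤ (RR C y W u).comap C.L.subtype := by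
    refine (closure_le _).2 ?_
    rintro k ⟨x, hxW, hx, rfl⟩
    exact q_mem_RR hxW hx
  exact hle hk

omit Y in
/-- `QL` is transitive on the vectors `f + x`, `x ∈ W ∩ u^⊥`. -/
theorem exists_QL {u f x : V} (hfu : C.S.B f u = 1) (hxW : x ∈ W) (hx : C.S.B u x = 0) :
    ∃ k ∈ QL C W u, C.S.ρ k f = f + x := by
  have hb : C.qL u 0 ∈ QL C W u := subset_closure ⟨0, W.zero_mem, C.B_zero_right u, rfl⟩
  have hq : C.qL u x ∈ QL C W u := subset_closure ⟨x, hxW, hx, rfl⟩
  rcases z2 (C.S.B f x) with h | h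
  · refine ⟨C.qL u x * C.qL u 0, mul_mem hq hb, ?_⟩
    rw [C.S.ρ_mul, C.rho_q (C.B_zero_right u), C.rho_q hx, C.B_zero_right, zero_smul, add_zero, zero_add, hfu,
      one_smul, C.B_add_left, C.B_add_left, hfu, C.B_self, h, C.symm u x, C.symm x u, hx]
    rw [add_zero, add_zero, one_smul, zero_smul, add_zero, add_assoc f u, add_comm x u, ← add_assoc u u, aa,
      zero_add]
  · refine ⟨C.qL u x, hq, ?_⟩
    rw [C.rho_q hx, hfu, h, one_smul, one_smul, add_assoc, add_assoc x, aa, add_zero]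

/-- Elements of `RR` commuting with `t` belong to `QL`. -/
theorem RR_fix (P : Perp C W E) {u : V} (hu : u ≠ 0) (huW : u ∈ W) {g : G} (hg : g ∈ RR C y W u)
    (hgt : C.t * g * C.t = g) : ∃ k ∈ QL C W u, g = k := by
  have hgt' := C.t_comm_of hgt
  have hgb : Commute g (C.b u) := Y.RR_comm hu hg (b_mem_RR u)
  have hgy : Commute g (y u) := Y.RR_comm hu hg (Y.y_mem_RR u)
  have hgL : g ∈ C.L := by
    rcases (C.cent g).1 hgt' with h | h
    · exact h
    · exfalso
      have k1 : C.S.ρ ⟨C.t * g, h⟩ u = u :=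
        C.fix_of_comm (k := ⟨C.t * g, h⟩) (((C.t_comm (C.b_mem u)).symm.mul_left hgb))
      have k2 : Commute (C.t * g) (y u) := Y.comm_L (k := ⟨C.t * g, h⟩) k1
      have k3 : Commute C.t (y u) := by
        have := k2.mul_left hgy.inv_left
        rwa [mul_inv_cancel_right] at this
      have k4 := Y.conj_t u
      rw [k3.eq, mul_assoc, C.tt, mul_one] at k4
      exact C.b_ne_one hu (right_eq_mul.1 k4)
  obtain ⟨f, hf, hfu⟩ := P.exists_one huW hu
  have fixE : ∀ k : C.L, (k : G) ∈ RR C y W u → ∀ z ∈ E, C.S.ρ k z = z := by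
    intro k hk z hz
    exact C.fix_of_comm (MM_comm_b Y (fun x hx => P.B_eq hx hz) (RR_le_MM huW hk))
  have fixu : ∀ k : C.L, (k : G) ∈ RR C y W u → C.S.ρ k u = u := by
    intro k hk
    exact C.fix_of_comm (Y.RR_comm hu hk (b_mem_RR u))
  set k : C.L := ⟨g, hgL⟩ with hk
  have hkE := fixE k hg
  have hku := fixu k hg
  have hx0 := P.add_mem hkE f
  have hux0 : C.S.B u (C.S.ρ k f + f) = 0 := by
    rw [C.B_add_right]
    have := C.S.inv k u f
    rw [hku] at this
    rw [this, ← two_mul, show (2 : ZMod 2) = 0 from rfl, zero_mul]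
  obtain ⟨q, hq, hqf⟩ := exists_QL (C := C) hfu hx0 hux0
  have hqf' : C.S.ρ q f = C.S.ρ k f := by
    rw [hqf, add_comm (C.S.ρ k f), ← add_assoc, aa, zero_add]
  refine ⟨q, hq, ?_⟩
  have hqR : (q : G) ∈ RR C y W u := QL_le hq
  have hqkR : ((q⁻¹ * k : C.L) : G) ∈ RR C y W u := mul_mem (inv_mem hqR) hg
  have h1 : q⁻¹ * k = 1 := by
    have hff : C.S.ρ (q⁻¹ * k) f = f := by
      rw [C.S.ρ_mul, ← hqf', C.S.ρ_inv_apply]
    apply P.eq_one hf hfu (fixE _ hqkR) ?_ hff
    intro x hxW hx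
    have h2 := (C.coset_of_comm hu hx (k := q⁻¹ * k) (Y.RR_comm hu hqkR (b_mem_RR u))
      (Y.RR_comm hu hqkR (q_mem_RR hxW hx))).2
    rcases h2 with h2 | h2
    · exact h2
    · exfalso
      have h3 := C.S.inv (q⁻¹ * k) x f
      rw [h2, hff, C.B_add_left, C.symm u f, hfu] at h3
      exact one_ne_zero (add_eq_left.1 h3)
  have h2 : k = q := by
    rw [inv_mul_eq_one] at h1
    exact h1.symm
  rw [← h2]

/-- `RR` is good. -/
theorem RR_good (P : Perp C W E) {u : V} (hu : u ≠ 0) (huW : u ∈ W) : Good C.t (RR C y W u) where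
  conj w hw := Y.RR_t hw
  good w hw hwt := by
    have hw2 := Y.RR_sq hu hw
    have hwi : w⁻¹ = w := inv_eq_of_mul_eq_one_left hw2
    rw [hwi] at hwt
    obtain ⟨k, hk, rfl⟩ := Y.RR_fix P hu huW hw hwt
    clear hwt hwi hw2 hw
    refine closure_induction (p := fun (k : C.L) _ => ∃ c ∈ RR C y W u, (k : G) = C.t * c * C.t * c⁻¹)
      ?_ ?_ ?_ ?_ hk
    · rintro k ⟨x, hxW, hx, rfl⟩
      refine ⟨r y u x, r_mem_RR hxW hx, ?_⟩
      rw [Y.t_conj_r hx, mul_inv_cancel_right]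
      rfl
    · refine ⟨1, one_mem _, ?_⟩
      rw [mul_one, C.tt, one_mul, inv_one]
      rfl
    · rintro a b - - ⟨c, hc, hac⟩ ⟨d, hd, hbd⟩
      refine ⟨c * d, mul_mem hc hd, ?_⟩
      have h1 : Commute c⁻¹ (C.t * d * C.t * d⁻¹) :=
        Y.RR_comm hu (inv_mem hc) (mul_mem (Y.RR_t hd) (inv_mem hd))
      have h2 : Commute c⁻¹ d⁻¹ := Y.RR_comm hu (inv_mem hc) (inv_mem hd)
      calc ((a * b : C.L) : G) = (a : G) * b := rfl
        _ = (C.t * c * C.t) * (c⁻¹ * (C.t * d * C.t * d⁻¹)) := by rw [hac, hbd]; group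
        _ = (C.t * c * C.t) * ((C.t * d * C.t * d⁻¹) * c⁻¹) := by rw [h1.eq]
        _ = C.t * c * (C.t * C.t) * d * C.t * (d⁻¹ * c⁻¹) := by group
        _ = C.t * (c * d) * C.t * (c * d)⁻¹ := by rw [C.tt]; group
    · rintro a - ⟨c, hc, hac⟩
      refine ⟨c⁻¹, inv_mem hc, ?_⟩
      have h1 : Commute c (C.t * c * C.t) := Y.RR_comm hu hc (Y.RR_t hc)
      calc ((a⁻¹ : C.L) : G) = (a : G)⁻¹ := rfl
        _ = c * (C.t * c * C.t)⁻¹ := by rw [hac]; group
        _ = (C.t * c * C.t)⁻¹ * c := h1.inv_right.eq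
        _ = C.t⁻¹ * c⁻¹ * C.t⁻¹ * c := by group
        _ = C.t * c⁻¹ * C.t * c⁻¹⁻¹ := by rw [C.t_inv, inv_inv]

/-- `b w`, `y w` normalise `RR`, `w ∈ W ∩ u^⊥`. -/
theorem RR_norm {u w : V} (hu : u ≠ 0) (hwW : w ∈ W) (hw : C.S.B u w = 0) {s g : G}
    (hs : s = C.b w ∨ s = y w) (hg : g ∈ RR C y W u) : s * g * s⁻¹ ∈ RR C y W u := by
  have hle : RR C y W u ≤ (RR C y W u).comap (MulAut.conj s).toMonoidHom := by
    refine (closure_le _).2 ?_
    rintro g ⟨x, hxW, hx, hg⟩
    show s * g * s⁻¹ ∈ RR C y W u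
    have hwu : C.S.B w u = 0 := by rw [C.symm]; exact hw
    rcases hs with rfl | rfl
    · have h1 : C.S.ρ (C.S.τ w) u = u := by rw [C.S.hτ, hw, zero_smul, add_zero]
      have h2 : C.S.ρ (C.S.τ w) x = x + C.S.B x w • w := C.S.hτ w x
      have h3 : x + C.S.B x w • w ∈ W := W.add_mem hxW (W.smul_mem _ hwW)
      have h4 : C.S.B u (x + C.S.B x w • w) = 0 := by
        rw [C.B_add_right, C.B_smul_right, hx, hw, mul_zero, add_zero]
      rcases hg with rfl | rfl
      · have := C.q_conj (C.S.τ w) u x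
        rw [h1, h2] at this
        show (C.S.τ w : G) * C.q u x * (C.S.τ w : G)⁻¹ ∈ _
        rw [this]
        exact q_mem_RR h3 h4
      · have := Y.r_conj_L (C.S.τ w) u x
        rw [h1, h2] at this
        show (C.S.τ w : G) * r y u x * (C.S.τ w : G)⁻¹ ∈ _
        rw [this]
        exact r_mem_RR h3 h4
    · rw [Y.inv]
      rcases z2 (C.S.B x w) with h | h
      · rcases hg with rfl | rfl
        · have h1 : Commute (C.q u x) (y w) := Commute.mul_left (show Commute _ _ from Y.b_comm_y h)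
            (show Commute _ _ from Y.b_comm_y (by rw [C.B_add_left, h, hw, add_zero]))
          rw [commute_inv_of_conj (Y.sq w) h1]
          exact q_mem_RR hxW hx
        · rw [commute_inv_of_conj (Y.sq w) (Y.r_comm_y hw h)]
          exact r_mem_RR hxW hx
      · have hwx : C.S.B w x = 1 := by rw [C.symm]; exact h
        rcases hg with rfl | rfl
        · -- `y w * q u x * y w = r u w * q u x`
          have g1 := Y.equiv (C.qL u x) w
          rw [C.rho_q hx, hwu, zero_smul, add_zero, hwx, one_smul, C.coe_qL, C.q_inv hx] at g1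
          have g2 : y w * C.q u x * y w = r y u w * C.q u x := by
            calc y w * C.q u x * y w = y w * (C.q u x * y w * C.q u x) * (C.q u x)⁻¹ := by group
              _ = y w * y (w + u) * C.q u x := by rw [g1, C.q_inv hx]
              _ = _ := rfl
          rw [g2]
          exact mul_mem (r_mem_RR hwW hw) (q_mem_RR hxW hx)
        · have g1 := Y.comm_r_y hu hx hw h (RR C y W u) (r_mem_RR hwW hw) (q_mem_RR hwW hw) (Y.y_mem_RR u)
            (b_mem_RR u)
          have g2 := mul_mem (r_mem_RR (y := y) hxW hx) g1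
          have g3 : r y u x * (r y u x * y w * r y u x * y w) = y w * r y u x * y w := by
            calc r y u x * (r y u x * y w * r y u x * y w) = (r y u x * r y u x) * y w * r y u x * y w := by group
              _ = _ := by rw [Y.r_sq hx, one_mul]
          rwa [g3] at g2
  exact hle hg

/-- `MM W'` normalises `RR W u` for `W' ≤ W ∩ u^⊥`. -/
theorem MM_norm {W' : Submodule (ZMod 2) V} {u : V} (hu : u ≠ 0) (hW' : ∀ x ∈ W', x ∈ W ∧ C.S.B u x = 0)
    {s g : G} (hs : s ∈ MM C y W') (hg : g ∈ RR C y W u) : s * g * s⁻¹ ∈ RR C y W u := by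
  refine closure_induction (p := fun s _ => ∀ g ∈ RR C y W u, s * g * s⁻¹ ∈ RR C y W u ∧
    s⁻¹ * g * s ∈ RR C y W u) ?_ ?_ ?_ ?_ hs g hg |>.1
  · rintro s ⟨x, hxW, hs⟩ g hg
    obtain ⟨h1, h2⟩ := hW' x hxW
    refine ⟨Y.RR_norm hu h1 h2 hs hg, ?_⟩
    have hs' : s⁻¹ = s := by
      rcases hs with rfl | rfl
      · exact C.b_inv x
      · exact Y.inv x
    have := Y.RR_norm hu h1 h2 hs hg
    rw [hs'] at this ⊢
    exact this
  · intro g hg
    simp only [one_mul, inv_one, mul_one]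
    exact ⟨hg, hg⟩
  · intro a b _ _ ha hb g hg
    constructor
    · have := (ha _ (hb g hg).1).1
      have e : a * (b * g * b⁻¹) * a⁻¹ = a * b * g * (a * b)⁻¹ := by group
      rwa [e] at this
    · have := (hb _ (ha g hg).2).2
      have e : b⁻¹ * (a⁻¹ * g * a) * b = (a * b)⁻¹ * g * (a * b) := by group
      rwa [e] at this
  · intro a _ ha g hg
    obtain ⟨h1, h2⟩ := ha g hg
    rw [inv_inv]
    exact ⟨h2, h1⟩

/-- `RR W u ∩ MM W' = 1` if `W' ⊥ f`. -/
theorem RR_inf_MM (P : Perp C W E) {u f : V} (hu : u ≠ 0) (huW : u ∈ W) (hf : f ∈ W) (hfu : C.S.B f u = 1)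
    {W' : Submodule (ZMod 2) V} (hW' : ∀ x ∈ W', C.S.B f x = 0) {g : G} (hg : g ∈ RR C y W u)
    (hg' : g ∈ MM C y W') : g = 1 := by
  -- fixed points of `t`
  have key : ∀ h ∈ RR C y W u, h ∈ MM C y W' → C.t * h * C.t = h → h = 1 := by
    intro h hh hh' hht
    obtain ⟨k, hk, rfl⟩ := Y.RR_fix P hu huW hh hht
    have hkf : C.S.ρ k f = f := C.fix_of_comm (MM_comm_b Y hW' hh')
    have h1 : k = 1 := by
      apply P.eq_one hf hfu ?_ ?_ hkf
      · intro z hz
        exact C.fix_of_comm (MM_comm_b Y (fun x hx => P.B_eq hx hz) (RR_le_MM huW hh))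
      · intro x hxW hx
        have h2 := (C.coset_of_comm hu hx (k := k) (Y.RR_comm hu hh (b_mem_RR u))
          (Y.RR_comm hu hh (q_mem_RR hxW hx))).2
        rcases h2 with h2 | h2
        · exact h2
        · exfalso
          have h3 := C.S.inv k x f
          rw [h2, hkf, C.B_add_left, C.symm u f, hfu] at h3
          exact one_ne_zero (add_eq_left.1 h3)
    rw [h1]; rfl
  have h1 := Y.RR_t hg
  have h2 := Y.MM_t hg'
  have h3 : g * (C.t * g * C.t) = 1 := by
    apply key _ (mul_mem hg h1) (mul_mem hg' h2)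
    rw [conj_mul C.tt, conj_conj C.tt]
    exact Y.RR_comm hu h1 hg
  have h4 : C.t * g * C.t = g := by
    have h5 := Y.RR_sq hu hg
    exact mul_left_cancel (h3.trans h5.symm)
  exact key g hg hg' h4

end YData

end Cfsg.Agent.OddHalf.SpTwoN
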