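import Cfsg.Agent.OddHalf.SpTwoN.CCRel

/-!
# `y w` normalises the group generated by the `q u x`, `r u x`
-/

set_option autoImplicit false

namespace Cfsg.Agent.OddHalf.SpTwoN

open Subgroup
open Cfsg.Agent.StandardComponent.SpTwo

variable {G V : Type*} [Group G] [AddCommGroup V] [Module (ZMod 2) V]

namespace YData

variable {C : Ctx G V} {y : V → G} (Y : YData C y)
include Y

/-- All `r u x` commute. -/
theorem r_comm {u v w : V} (hu : u ≠ 0) (hv : C.S.B u v = 0) (hw : C.S.B u w = 0) :
    Commute (r y u v) (r y u w) := by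
  rcases z2 (C.S.B v w) with h | h
  · exact (Y.r_comm_y hw h).mul_right (Y.r_comm_y (by rw [C.B_add_right, C.B_self, hw, add_zero])
      (by rw [C.B_add_right, h, C.symm v u, hv, add_zero]))
  · exact (Y.hyp hu hv hw h).1

/-- The commutator of `r u v` and `y w`, `B v w = 1`. -/
theorem comm_r_y {u v w : V} (hu : u ≠ 0) (hv : C.S.B u v = 0) (hw : C.S.B u w = 0) (hvw : C.S.B v w = 1)
    (R : Subgroup G) (h1 : r y u w ∈ R) (h2 : C.q u w ∈ R) (h3 : y u ∈ R) (h4 : C.b u ∈ R) :
    r y u v * y w * r y u v * y w ∈ R := by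
  have huvw : C.S.B u (v + w) = 0 := by rw [C.B_add_right, hv, hw, add_zero]
  have hvu : C.S.B v u = 0 := by rw [C.symm]; exact hv
  have hwu : C.S.B w u = 0 := by rw [C.symm]; exact hw
  have hwv : C.S.B w v = 1 := by rw [C.symm]; exact hvw
  set a := r y u v with ha
  set b := r y u w with hb
  set d := r y u (v + w) with hd
  set s := y w with hs
  have aa' : a * a = 1 := Y.r_sq hv
  have bb' : b * b = 1 := Y.r_sq hw
  have ss' : s * s = 1 := Y.sq w
  have cab : Commute a b := Y.r_comm hu hv hw
  have cad : Commute a d := Y.r_comm hu hv huvw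
  have cbd : Commute b d := Y.r_comm hu hw huvw
  have csb : Commute s b := (Y.r_comm_y hw (C.B_self w)).symm
  have csyu : Commute s (y u) := Y.y_comm hwu
  have csbw : Commute s (C.b w) := Y.y_comm_b (C.B_self w)
  have csbu : Commute s (C.b u) := Y.y_comm_b hwu
  have cab_u : Commute a (C.b u) := Y.r_comm_b (C.B_self u) hvu
  have cbb_u : Commute b (C.b u) := Y.r_comm_b (C.B_self u) hwu
  have cay_u : Commute a (y u) := Y.r_comm_y (C.B_self u) hvu
  have cby_u : Commute b (y u) := Y.r_comm_y (C.B_self u) hwu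
  have cb_bw : Commute b (C.b w) := Y.r_comm_b hw (C.B_self w)
  have qvi : (C.q u v)⁻¹ = C.q u v := C.q_inv hv
  obtain ⟨-, hF⟩ := Y.hyp hu hv hw hvw
  rw [← ha, ← hb, ← hd] at hF
  -- (A1)
  have A1 : s * C.q u v * s = b * C.q u v := by
    have g := Y.equiv (C.qL u v) w
    rw [C.rho_q hv, hwu, zero_smul, add_zero, hwv, one_smul, C.coe_qL, qvi] at g
    calc s * C.q u v * s = s * (C.q u v * s * C.q u v) * (C.q u v)⁻¹ := by group
      _ = s * y (w + u) * C.q u v := by rw [qvi, ← g]
      _ = b * C.q u v := by rw [hb, r]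
  -- (A2)
  set F := a * b * d with hFd
  have cF : ∀ g, Commute g (C.b u) → Commute g F := by
    intro g hg
    rcases hF with h | h <;> rw [h]
    · exact Commute.one_right g
    · exact hg
  have hadF : a * d = F * b := by
    calc a * d = a * (b * b) * d := by rw [bb', mul_one]
      _ = a * b * (b * d) := by group
      _ = a * b * (d * b) := by rw [cbd.eq]
      _ = F * b := by rw [hFd]; group
  have A2 : a * C.b w * a = F * b * C.b w := by
    have g : C.b w * a * C.b w = d := by
      rw [ha, Y.r_conj_b hw, hvw, one_smul]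
    calc a * C.b w * a = a * (C.b w * a * C.b w) * (C.b w)⁻¹ := by group
      _ = a * d * C.b w := by rw [g, C.b_inv]
      _ = _ := by rw [hadF]
  -- conjugate of `t` under `c`
  set c := a * s * a * s with hc
  have hci : c⁻¹ = s * a * s * a := invol_inv aa' ss'
  have ata : a * C.t * a = C.t * C.q u v := Y.r_conj_t hv
  have sts : s * C.t * s = C.t * C.b w := Y.y_conj_t w
  have hct : c * C.t * c⁻¹ = C.t * C.q u w * F := by
    have e1 : c * C.t * c⁻¹ = a * (s * (a * (s * C.t * s) * a) * s) * a := by rw [hci, hc]; group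
    have e2 : a * (s * C.t * s) * a = C.t * C.q u v * (F * b * C.b w) := by
      rw [sts, ← A2, ← ata]
      calc a * (C.t * C.b w) * a = a * C.t * 1 * C.b w * a := by group
        _ = a * C.t * (a * a) * C.b w * a := by rw [aa']
        _ = _ := by group
    have e3 : s * (C.t * C.q u v * (F * b * C.b w)) * s = C.t * C.q u (v + w) * F := by
      have csF : Commute s F := cF s csbu
      have cbF : Commute b F := cF b cbb_u
      have cqb : Commute (C.q u v) b := Y.q_comm_r hv hw
      have cbwF : Commute (C.b w) F := cF _ (C.b_comm hwu)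
      have g : C.b w * C.q u v * C.b w = C.q u (v + w) := by
        have g := C.q_conj (C.S.τ w) u v
        rw [C.S.hτ, C.S.hτ, hw, zero_smul, add_zero, hvw, one_smul] at g
        have e : ((C.S.τ w : C.L) : G)⁻¹ = C.b w := C.b_inv w
        rwa [e] at g
      have hs' : ∀ p q : G, s * (p * q) * s = (s * p * s) * (s * q * s) := by
        intro p q
        calc s * (p * q) * s = s * p * 1 * q * s := by group
          _ = s * p * (s * s) * q * s := by rw [ss']
          _ = _ := by group
      rw [hs', hs', sts, A1, hs', hs', commute_inv_of_conj ss' csF.symm, commute_inv_of_conj ss' csb.symm,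
        commute_inv_of_conj ss' csbw.symm]
      calc C.t * C.b w * (b * C.q u v) * (F * b * C.b w) =
          C.t * C.b w * (b * C.q u v) * ((F * b) * C.b w) := by group
        _ = C.t * C.b w * (C.q u v * b) * ((b * F) * C.b w) := by rw [← cqb.eq, ← cbF.eq]
        _ = C.t * C.b w * C.q u v * (b * b) * F * C.b w := by group
        _ = C.t * C.b w * C.q u v * (F * C.b w) := by rw [bb']; group
        _ = C.t * C.b w * C.q u v * (C.b w * F) := by rw [cbwF.eq]
        _ = C.t * (C.b w * C.q u v * C.b w) * F := by group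
        _ = _ := by rw [g]
    rw [e1, e2, e3]
    have caq : Commute a (C.q u (v + w)) := (Y.q_comm_r huvw hv).symm
    have caF : Commute a F := cF a cab_u
    calc a * (C.t * C.q u (v + w) * F) * a = a * C.t * C.q u (v + w) * (F * a) := by group
      _ = a * C.t * C.q u (v + w) * (a * F) := by rw [caF.eq]
      _ = a * C.t * (C.q u (v + w) * a) * F := by group
      _ = a * C.t * (a * C.q u (v + w)) * F := by rw [caq.eq]
      _ = (a * C.t * a) * C.q u (v + w) * F := by group
      _ = C.t * (C.q u v * C.q u (v + w)) * F := by rw [ata]; group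
      _ = C.t * C.q u w * F := by
        rw [← C.q_mul_one hv hw hvw, ← mul_assoc (C.q u v), C.q_sq hv, one_mul]
  -- the correcting element
  obtain ⟨p, hpR, hpp, hpa, hps, hpt, hpz⟩ : ∃ p ∈ R, p * p = 1 ∧ Commute p a ∧ Commute p s ∧
      p * C.t * p = C.t * C.q u w * F ∧ ∀ z, C.S.B u z = 0 → C.S.B w z = 0 → Commute p (C.b z) := by
    rcases hF with h | h
    · refine ⟨b, h1, bb', cab.symm, csb.symm, ?_, fun z h5 h6 => Y.r_comm_b h5 h6⟩
      rw [h, mul_one]
      exact Y.r_conj_t hw
    · refine ⟨b * y u, R.mul_mem h1 h3, ?_, cab.symm.mul_left cay_u.symm, csb.symm.mul_left csyu.symm, ?_,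
        fun z h5 h6 => (Y.r_comm_b h5 h6).mul_left (Y.y_comm_b h5)⟩
      · calc b * y u * (b * y u) = b * (y u * b) * y u := by group
          _ = b * (b * y u) * y u := by rw [cby_u.eq]
          _ = (b * b) * (y u * y u) := by group
          _ = 1 := by rw [bb', Y.sq, one_mul]
      · calc b * y u * C.t * (b * y u) = b * (y u * C.t * (b * y u)) := by group
          _ = b * (y u * C.t * (y u * b)) := by rw [cby_u.eq]
          _ = b * (y u * C.t * y u) * b := by group
          _ = b * C.t * (C.b u * b) := by rw [Y.y_conj_t]; group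
          _ = b * C.t * (b * C.b u) := by rw [cbb_u.eq]
          _ = (b * C.t * b) * C.b u := by group
          _ = C.t * C.q u w * F := by rw [Y.r_conj_t hw, h]
  have hpc : Commute p c := ((hpa.mul_right hps).mul_right hpa).mul_right hps
  set c0 := p * c with hc0
  have hpi : p⁻¹ = p := inv_eq_of_mul_eq_one_left hpp
  have hc0t : c0 * C.t = C.t * c0 := by
    have e1 : c0 * C.t * c0⁻¹ = C.t := by
      calc c0 * C.t * c0⁻¹ = p * (c * C.t * c⁻¹) * p⁻¹ := by rw [hc0]; group
        _ = p * (p * C.t * p) * p := by rw [hct, hpt, hpi]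
        _ = (p * p) * C.t * (p * p) := by group
        _ = C.t := by rw [hpp, one_mul, mul_one]
    exact mul_inv_eq_iff_eq_mul.1 e1
  have hac0 : a * c0 * a = c0⁻¹ := by
    calc a * c0 * a = (a * p) * c * a := by rw [hc0]; group
      _ = (p * a) * c * a := by rw [hpa.eq]
      _ = p * (a * c * a) := by group
      _ = p * c⁻¹ := by rw [hc, invol_left aa' ss']
      _ = c⁻¹ * p⁻¹ := by rw [hpc.inv_right.eq, hpi]
      _ = c0⁻¹ := (mul_inv_rev p c).symm
  have hsc0 : s * c0 * s = c0⁻¹ := by
    calc s * c0 * s = (s * p) * c * s := by rw [hc0]; group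
      _ = (p * s) * c * s := by rw [hps.eq]
      _ = p * (s * c * s) := by group
      _ = p * c⁻¹ := by rw [hc, invol_right aa' ss']
      _ = c⁻¹ * p⁻¹ := by rw [hpc.inv_right.eq, hpi]
      _ = c0⁻¹ := (mul_inv_rev p c).symm
  have hta := tool aa' hc0t hac0
  have hts := tool ss' hc0t hsc0
  rw [ata] at hta
  rw [sts] at hts
  have hqv : Commute c0 (C.q u v) := by
    have h1 : Commute c0 (C.t * C.q u v) := hta
    have h2 : Commute c0 C.t := hc0t
    have h3 := h2.inv_right.mul_right h1
    rwa [inv_mul_cancel_left] at h3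
  have hbw : Commute c0 (C.b w) := by
    have h1 : Commute c0 (C.t * C.b w) := hts
    have h2 : Commute c0 C.t := hc0t
    have h3 := h2.inv_right.mul_right h1
    rwa [inv_mul_cancel_left] at h3
  have hz : ∀ z, C.S.B u z = 0 → C.S.B v z = 0 → C.S.B w z = 0 → Commute c0 (C.b z) := by
    intro z h5 h6 h7
    have h8 : Commute a (C.b z) := Y.r_comm_b h5 h6
    have h9 : Commute s (C.b z) := Y.y_comm_b h7
    exact (hpz z h5 h7).mul_left (((h8.mul_left h9).mul_left h8).mul_left h9)
  have hbu : Commute c0 (C.b u) := hz u (C.B_self u) hvu hwu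
  have hc0L : c0 ∈ C.L := by
    rcases (C.cent c0).1 hc0t with h | h
    · exact h
    · exfalso
      have htc : ∀ g ∈ C.L, Commute c0 g → Commute (C.t * c0) g := fun g h1 h2 =>
        (C.t_comm h1).symm.mul_left h2
      obtain ⟨k1, k2⟩ := C.coset_of_comm hu hv (k := ⟨C.t * c0, h⟩)
        (htc _ (C.b_mem u) hbu) (htc _ (C.q_mem u v) hqv)
      have k3 : C.S.ρ ⟨C.t * c0, h⟩ w = w := C.fix_of_comm (k := ⟨C.t * c0, h⟩) (htc _ (C.b_mem w) hbw)
      have k4 : Commute (C.t * c0) a := Y.comm_r_of hv k1 k2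
      have k5 : Commute (C.t * c0) s := Y.comm_L (k := ⟨C.t * c0, h⟩) k3
      have e0 : c0 = C.t * (C.t * c0) := by rw [← mul_assoc, C.tt, one_mul]
      have e1 : c0⁻¹ = C.t * C.q u v * (C.t * c0) := by
        rw [← hac0, ← ata]
        calc a * c0 * a = a * (C.t * (C.t * c0)) * a := by rw [← e0]
          _ = a * C.t * ((C.t * c0) * a) := by group
          _ = a * C.t * (a * (C.t * c0)) := by rw [k4.eq]
          _ = _ := by group
      have e2 : c0⁻¹ = C.t * C.b w * (C.t * c0) := by
        rw [← hsc0, ← sts]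
        calc s * c0 * s = s * (C.t * (C.t * c0)) * s := by rw [← e0]
          _ = s * C.t * ((C.t * c0) * s) := by group
          _ = s * C.t * (s * (C.t * c0)) := by rw [k5.eq]
          _ = _ := by group
      have e3 : C.q u v = C.b w := mul_left_cancel (mul_right_cancel (e1.symm.trans e2))
      have e4 : Commute (C.q u v) (C.b v) := q_comm_b hv (C.B_self v)
      rw [e3] at e4
      have e5 := C.b_commute_iff.1 e4
      rw [hwv] at e5
      exact one_ne_zero e5
  obtain ⟨k1, k2⟩ := C.coset_of_comm hu hv (k := ⟨c0, hc0L⟩) hbu hqv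
  have k3 : C.S.ρ ⟨c0, hc0L⟩ w = w := C.fix_of_comm (k := ⟨c0, hc0L⟩) hbw
  have k4 : ∀ z, C.S.B u z = 0 → C.S.B v z = 0 → C.S.B w z = 0 → C.S.ρ ⟨c0, hc0L⟩ z = z :=
    fun z h5 h6 h7 => C.fix_of_comm (k := ⟨c0, hc0L⟩) (hz z h5 h6 h7)
  -- vectors of `u^⊥`
  have hdec : ∀ z, C.S.B u z = 0 → C.S.B u (z + C.S.B w z • v + C.S.B v z • w) = 0 ∧
      C.S.B v (z + C.S.B w z • v + C.S.B v z • w) = 0 ∧ C.S.B w (z + C.S.B w z • v + C.S.B v z • w) = 0 := by
    intro z hz
    refine ⟨?_, ?_, ?_⟩
    · rw [C.B_add_right, C.B_add_right, C.B_smul_right, C.B_smul_right, hz, hv, hw]; simp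
    · rw [C.B_add_right, C.B_add_right, C.B_smul_right, C.B_smul_right, C.B_self, hvw]
      rcases z2 (C.S.B v z) with h | h <;> rw [h] <;> simp <;> decide
    · rw [C.B_add_right, C.B_add_right, C.B_smul_right, C.B_smul_right, C.B_self, hwv]
      rcases z2 (C.S.B w z) with h | h <;> rw [h] <;> simp <;> decide
  have hfin : ∀ k : C.L, C.S.ρ k v = v → C.S.ρ k w = w →
      (∀ z, C.S.B u z = 0 → C.S.B v z = 0 → C.S.B w z = 0 → C.S.ρ k z = z) → (k : G) ∈ R := by
    intro k h5 h6 h7
    have h8 : (k : G) = 1 ∨ (k : G) = C.b u := by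
      apply C.eq_one_or_b hu
      intro z hz
      obtain ⟨g1, g2, g3⟩ := hdec z hz
      have hz' := h7 _ g1 g2 g3
      rw [map_add, map_add, map_smul, map_smul, h5, h6] at hz'
      exact add_right_cancel (add_right_cancel hz')
    rcases h8 with h8 | h8 <;> rw [h8]
    · exact R.one_mem
    · exact h4
  have hc0R : c0 ∈ R := by
    rcases k2 with k2 | k2
    · exact hfin ⟨c0, hc0L⟩ k2 k3 k4
    · have h5 : ((⟨c0, hc0L⟩ * C.qL u w : C.L) : G) ∈ R := by
        apply hfin
        · rw [C.S.ρ_mul, C.rho_q hw, hvu, zero_smul, add_zero, hvw, one_smul, map_add, k2, k1, add_assoc, aa,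
            add_zero]
        · rw [C.S.ρ_mul, C.rho_q hw, hwu, zero_smul, add_zero, C.B_self, zero_smul, add_zero, k3]
        · intro z g1 g2 g3
          rw [C.S.ρ_mul, C.rho_q hw, C.symm z u, g1, zero_smul, add_zero, C.symm z w, g3, zero_smul, add_zero]
          exact k4 z g1 g2 g3
      have h6 : c0 * C.q u w ∈ R := h5
      have h7 := R.mul_mem h6 (R.inv_mem h2)
      rwa [mul_inv_cancel_right] at h7
  have h5 : c = p * c0 := by rw [hc0, ← mul_assoc, hpp, one_mul]
  rw [h5]
  exact R.mul_mem hpR hc0R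

end YData

end Cfsg.Agent.OddHalf.SpTwoN
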