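import Cfsg.Agent.OddHalf.SpTwoN.Siegel

/-!
# Relations between the `y u` (case (C, C))

`y u` is an involution centralising `C_L(b u)`, `[y u, t] = b u`, `y` is `L`-equivariant and `y u`, `y v` commute if
`B u v = 0`. For `x ∈ u^⊥` put `r u x = y x * y (x + u)`. Then all the `r u x` commute, and `y w` normalises the group
generated by the `r u x`, `q u x`.
-/

set_option autoImplicit false

namespace Cfsg.Agent.OddHalf.SpTwoN

open Subgroup
open Cfsg.Agent.StandardComponent.SpTwo

section General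

variable {G : Type*} [Group G]

theorem tool {y1 c0 t : G} (h1 : y1 * y1 = 1) (hc : c0 * t = t * c0) (hi : y1 * c0 * y1 = c0⁻¹) :
    c0 * (y1 * t * y1) = (y1 * t * y1) * c0 := by
  have h2 : c0 * y1 = y1 * c0⁻¹ := by
    rw [← hi]
    calc c0 * y1 = (y1 * y1) * c0 * y1 := by rw [h1, one_mul]
      _ = _ := by group
  have h3 : c0⁻¹ * t = t * c0⁻¹ := by
    rw [inv_mul_eq_iff_eq_mul, ← mul_assoc, hc, mul_inv_cancel_right]
  have h4 : c0⁻¹ * y1 = y1 * c0 := by
    rw [← hi]
    calc y1 * c0 * y1 * y1 = y1 * c0 * (y1 * y1) := by group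
      _ = _ := by rw [h1, mul_one]
  calc c0 * (y1 * t * y1) = (c0 * y1) * t * y1 := by group
    _ = y1 * (c0⁻¹ * t) * y1 := by rw [h2]; group
    _ = y1 * t * (c0⁻¹ * y1) := by rw [h3]; group
    _ = _ := by rw [h4]; group

theorem invol_inv {a b : G} (ha : a * a = 1) (hb : b * b = 1) : (a * b * a * b)⁻¹ = b * a * b * a := by
  have ha' : a⁻¹ = a := inv_eq_of_mul_eq_one_left ha
  have hb' : b⁻¹ = b := inv_eq_of_mul_eq_one_left hb
  rw [mul_inv_rev, mul_inv_rev, mul_inv_rev, ha', hb']
  group

theorem invol_left {a b : G} (ha : a * a = 1) (hb : b * b = 1) :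
    a * (a * b * a * b) * a = (a * b * a * b)⁻¹ := by
  rw [invol_inv ha hb]
  calc a * (a * b * a * b) * a = (a * a) * (b * a * b * a) := by group
    _ = _ := by rw [ha, one_mul]

theorem invol_right {a b : G} (ha : a * a = 1) (hb : b * b = 1) :
    b * (a * b * a * b) * b = (a * b * a * b)⁻¹ := by
  rw [invol_inv ha hb]
  calc b * (a * b * a * b) * b = (b * a * b * a) * (b * b) := by group
    _ = _ := by rw [hb, mul_one]

theorem four {a b p q : G} (pa : Commute p a) (pb : Commute p b) (qa : Commute q a) (qb : Commute q b)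
    (pq : Commute p q) (pp : p * p = 1) (qq : q * q = 1) :
    (p * a) * (q * b) * (p * a) * (q * b) = a * b * a * b := by
  have h1 : (p * a) * (q * b) = (p * q) * (a * b) := qa.symm.mul_mul_mul_comm p b
  have h2 : Commute (a * b) (p * q) := ((pa.mul_right pb).mul_left (qa.mul_right qb)).symm
  calc (p * a) * (q * b) * (p * a) * (q * b) = ((p * a) * (q * b)) * ((p * a) * (q * b)) := by group
    _ = ((p * q) * (a * b)) * ((p * q) * (a * b)) := by rw [h1]
    _ = ((p * q) * (p * q)) * ((a * b) * (a * b)) := h2.mul_mul_mul_comm _ _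
    _ = ((p * p) * (q * q)) * ((a * b) * (a * b)) := by rw [pq.symm.mul_mul_mul_comm]
    _ = a * b * a * b := by rw [pp, qq, one_mul, one_mul]; group

theorem commute_inv_of_conj {g x : G} (hx : x * x = 1) (h : Commute g x) : x * g * x = g := by
  rw [← h.eq, mul_assoc, hx, mul_one]

end General

variable {G V : Type*} [Group G] [AddCommGroup V] [Module (ZMod 2) V]

/-- Equivariant involutions `y u` with `[y u, t] = b u`. -/
structure YBase (C : Ctx G V) (y : V → G) : Prop where
  zero : y 0 = 1
  sq : ∀ u, y u * y u = 1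
  conj_t : ∀ u, C.t * y u * C.t = C.b u * y u
  equiv : ∀ (k : C.L) (u : V), (k : G) * y u * (k : G)⁻¹ = y (C.S.ρ k u)

/-- The case (C, C). -/
structure YData (C : Ctx G V) (y : V → G) : Prop extends YBase C y where
  comm : ∀ u v, C.S.B u v = 0 → y u * y v = y v * y u

namespace YBase

variable {C : Ctx G V} {y : V → G} (Y : YBase C y)
include Y

theorem inv (u : V) : (y u)⁻¹ = y u := inv_eq_of_mul_eq_one_left (Y.sq u)

theorem comm_L {k : C.L} {u : V} (h : C.S.ρ k u = u) : (k : G) * y u = y u * k := by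
  have := Y.equiv k u
  rw [h] at this
  exact mul_inv_eq_iff_eq_mul.1 this

theorem b_conj_y (v u : V) : C.b v * y u * C.b v = y (u + C.S.B u v • v) := by
  have h := Y.equiv (C.S.τ v) u
  rw [C.S.hτ] at h
  have e : ((C.S.τ v : C.L) : G)⁻¹ = C.b v := C.b_inv v
  rwa [e] at h

theorem b_comm_y {u v : V} (h : C.S.B u v = 0) : C.b u * y v = y v * C.b u := by
  apply Y.comm_L (k := C.S.τ u)
  rw [C.S.hτ, C.symm, h, zero_smul, add_zero]

theorem y_conj_t (u : V) : y u * C.t * y u = C.t * C.b u := by
  have h1 := Y.conj_t u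
  calc y u * C.t * y u = (C.t * C.t) * y u * C.t * y u := by rw [C.tt, one_mul]
    _ = C.t * (C.t * y u * C.t) * y u := by group
    _ = C.t * C.b u * (y u * y u) := by rw [h1]; group
    _ = C.t * C.b u := by rw [Y.sq, mul_one]

end YBase

/-- The product of the `y` over a coset of `⟨u⟩`. -/
def r (y : V → G) (u x : V) : G := y x * y (x + u)

namespace YData

variable {C : Ctx G V} {y : V → G} (Y : YData C y)
include Y

theorem y_comm {u v : V} (h : C.S.B u v = 0) : Commute (y u) (y v) := Y.comm u v h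

theorem y_comm_b {u v : V} (h : C.S.B u v = 0) : Commute (y u) (C.b v) :=
  (Y.b_comm_y (by rw [C.symm]; exact h)).symm

theorem r_zero (u : V) : r y u 0 = y u := by rw [r, Y.zero, one_mul, zero_add]

theorem r_add {u x : V} (hx : C.S.B u x = 0) : r y u (x + u) = r y u x := by
  rw [r, r, add_assoc, aa, add_zero]
  exact Y.comm _ _ (by rw [C.B_add_left, C.B_self, hx, add_zero])

theorem r_smul {u x : V} (hx : C.S.B u x = 0) (a : ZMod 2) : r y u (x + a • u) = r y u x := by
  rcases z2 a with h | h <;> rw [h]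
  · rw [zero_smul, add_zero]
  · rw [one_smul, Y.r_add hx]

theorem r_sq {u x : V} (hx : C.S.B u x = 0) : r y u x * r y u x = 1 := by
  have h : y x * y (x + u) = y (x + u) * y x := Y.comm _ _ (by
    rw [C.B_add_right, C.B_self, C.symm, hx, add_zero])
  rw [r]
  calc y x * y (x + u) * (y x * y (x + u)) = y x * (y (x + u) * y x) * y (x + u) := by group
    _ = (y x * y x) * (y (x + u) * y (x + u)) := by rw [← h]; group
    _ = 1 := by rw [Y.sq, Y.sq, one_mul]

theorem r_inv {u x : V} (hx : C.S.B u x = 0) : (r y u x)⁻¹ = r y u x := inv_eq_of_mul_eq_one_left (Y.r_sq hx)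

theorem r_conj_L (k : C.L) (u x : V) : (k : G) * r y u x * (k : G)⁻¹ = r y (C.S.ρ k u) (C.S.ρ k x) := by
  rw [r, r, ← map_add, ← Y.equiv, ← Y.equiv]
  group

theorem r_conj_b {u x z : V} (hz : C.S.B u z = 0) : C.b z * r y u x * C.b z = r y u (x + C.S.B x z • z) := by
  have h := Y.r_conj_L (C.S.τ z) u x
  rw [C.S.hτ, C.S.hτ, hz, zero_smul, add_zero] at h
  have e : ((C.S.τ z : C.L) : G)⁻¹ = C.b z := C.b_inv z
  rwa [e] at h

theorem r_comm_b {u x z : V} (hu : C.S.B u z = 0) (hx : C.S.B x z = 0) : Commute (r y u x) (C.b z) :=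
  (Y.y_comm_b hx).mul_left (Y.y_comm_b (by rw [C.B_add_left, hx, hu, add_zero]))

theorem r_comm_y {u x z : V} (hu : C.S.B u z = 0) (hx : C.S.B x z = 0) : Commute (r y u x) (y z) :=
  (Y.y_comm hx).mul_left (Y.y_comm (by rw [C.B_add_left, hx, hu, add_zero]))

theorem q_comm_r {u x z : V} (hx : C.S.B u x = 0) (hz : C.S.B u z = 0) : Commute (C.q u x) (r y u z) := by
  have h := Y.r_conj_L (C.qL u x) u z
  rw [C.rho_q hx, C.rho_q hx, C.B_self, hx, zero_smul, zero_smul, add_zero, add_zero, C.symm z u, hz,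
    zero_smul, add_zero, Y.r_smul hz] at h
  exact mul_inv_eq_iff_eq_mul.1 h

omit Y in
theorem q_comm_b {u x z : V} (hu : C.S.B u z = 0) (hx : C.S.B x z = 0) : Commute (C.q u x) (C.b z) :=
  Commute.mul_left (C.b_comm hx) (C.b_comm (by rw [C.B_add_left, hx, hu, add_zero]))

theorem t_conj_r {u x : V} (hx : C.S.B u x = 0) : C.t * r y u x * C.t = C.q u x * r y u x := by
  have h : Commute (y x) (C.b (x + u)) := Y.y_comm_b (by rw [C.B_add_right, C.B_self, C.symm, hx, add_zero])
  rw [r, Ctx.q]
  calc C.t * (y x * y (x + u)) * C.t = C.t * y x * (C.t * C.t) * y (x + u) * C.t := by rw [C.tt]; group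
    _ = (C.t * y x * C.t) * (C.t * y (x + u) * C.t) := by group
    _ = (C.b x * y x) * (C.b (x + u) * y (x + u)) := by rw [Y.conj_t, Y.conj_t]
    _ = C.b x * (y x * C.b (x + u)) * y (x + u) := by group
    _ = C.b x * (C.b (x + u) * y x) * y (x + u) := by rw [h.eq]
    _ = _ := by group

theorem r_conj_t {u x : V} (hx : C.S.B u x = 0) : r y u x * C.t * r y u x = C.t * C.q u x := by
  have h1 := Y.t_conj_r hx
  calc r y u x * C.t * r y u x = (C.t * C.t) * r y u x * C.t * r y u x := by rw [C.tt, one_mul]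
    _ = C.t * (C.t * r y u x * C.t) * r y u x := by group
    _ = C.t * C.q u x * (r y u x * r y u x) := by rw [h1]; group
    _ = C.t * C.q u x := by rw [Y.r_sq hx, mul_one]

omit Y in
/-- An element of `L` fixing `u` and commuting with `q u v` fixes the coset `v + ⟨u⟩`. -/
theorem _root_.Cfsg.Agent.OddHalf.SpTwoN.Ctx.coset_of_comm (C : Ctx G V) {u v : V} (hu : u ≠ 0)
    (hv : C.S.B u v = 0) {k : C.L} (hku : (k : G) * C.b u = C.b u * k)
    (hkq : (k : G) * C.q u v = C.q u v * k) : C.S.ρ k u = u ∧ (C.S.ρ k v = v ∨ C.S.ρ k v = v + u) := by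
  have h1 := C.fix_of_comm hku
  refine ⟨h1, ?_⟩
  have h2 := C.q_conj k u v
  rw [h1, hkq, mul_inv_cancel_right] at h2
  refine C.q_inj hu hv ?_ h2
  have := C.S.inv k u v
  rw [h1] at this
  rw [this, hv]

theorem comm_r_of {u v : V} (hv : C.S.B u v = 0) {k : C.L} (hku : C.S.ρ k u = u)
    (hkv : C.S.ρ k v = v ∨ C.S.ρ k v = v + u) : Commute (k : G) (r y u v) := by
  have h := Y.r_conj_L k u v
  rw [hku] at h
  have h2 : r y u (C.S.ρ k v) = r y u v := by
    rcases hkv with h3 | h3 <;> rw [h3]
    exact Y.r_add hv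
  rw [h2] at h
  exact mul_inv_eq_iff_eq_mul.1 h

omit Y in
theorem _root_.Cfsg.Agent.OddHalf.SpTwoN.Ctx.t_comm (C : Ctx G V) {k : G} (hk : k ∈ C.L) : Commute k C.t :=
  C.commute_of_mem hk

/-- A commutator `c` of `r u v` and `r u w` lies in `L`, fixes the cosets, commutes with `r u v`, `r u w`. -/
theorem c_mem {u v w : V} (hu : u ≠ 0) (hv : C.S.B u v = 0) (hw : C.S.B u w = 0) (hvw : C.S.B v w = 1) :
    ∃ k : C.L, (k : G) = r y u v * r y u w * r y u v * r y u w ∧ C.S.ρ k u = u ∧
      (C.S.ρ k v = v ∨ C.S.ρ k v = v + u) ∧ (C.S.ρ k w = w ∨ C.S.ρ k w = w + u) ∧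
      (∀ z, C.S.B u z = 0 → C.S.B v z = 0 → C.S.B w z = 0 → C.S.ρ k z = z) ∧
      (k : G) * k = 1 := by
  set a := r y u v with ha
  set b := r y u w with hb
  set c := a * b * a * b with hc
  have aa' : a * a = 1 := Y.r_sq hv
  have bb' : b * b = 1 := Y.r_sq hw
  have hct : C.t * c * C.t = c := by
    have h1 : C.t * c * C.t = (C.t * a * C.t) * (C.t * b * C.t) * (C.t * a * C.t) * (C.t * b * C.t) := by
      calc C.t * c * C.t = C.t * a * 1 * b * 1 * a * 1 * b * C.t := by rw [hc]; group
        _ = C.t * a * (C.t * C.t) * b * (C.t * C.t) * a * (C.t * C.t) * b * C.t := by rw [C.tt]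
        _ = _ := by group
    rw [h1, Y.t_conj_r hv, Y.t_conj_r hw]
    exact four (Y.q_comm_r hv hv) (Y.q_comm_r hv hw) (Y.q_comm_r hw hv) (Y.q_comm_r hw hw) (C.q_comm hv hw)
      (C.q_sq hv) (C.q_sq hw)
  have hct' : c * C.t = C.t * c := by
    calc c * C.t = (C.t * c * C.t) * C.t := by rw [hct]
      _ = C.t * c * (C.t * C.t) := by group
      _ = C.t * c := by rw [C.tt, mul_one]
  have hia : a * c * a = c⁻¹ := invol_left aa' bb'
  have hib : b * c * b = c⁻¹ := invol_right aa' bb'
  have hta := tool aa' hct' hia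
  have htb := tool bb' hct' hib
  rw [ha, Y.r_conj_t hv] at hta
  rw [hb, Y.r_conj_t hw] at htb
  have hqv : Commute c (C.q u v) := by
    have h1 : Commute c (C.t * C.q u v) := hta
    have h2 : Commute c C.t := hct'
    have h3 := h2.inv_right.mul_right h1
    rwa [inv_mul_cancel_left] at h3
  have hqw : Commute c (C.q u w) := by
    have h1 : Commute c (C.t * C.q u w) := htb
    have h2 : Commute c C.t := hct'
    have h3 := h2.inv_right.mul_right h1
    rwa [inv_mul_cancel_left] at h3
  have hz : ∀ z, C.S.B u z = 0 → C.S.B v z = 0 → C.S.B w z = 0 → Commute c (C.b z) := by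
    intro z h1 h2 h3
    have h4 : Commute a (C.b z) := Y.r_comm_b h1 h2
    have h5 : Commute b (C.b z) := Y.r_comm_b h1 h3
    exact ((h4.mul_left h5).mul_left h4).mul_left h5
  have hbu : Commute c (C.b u) := hz u (C.B_self u) (by rw [C.symm]; exact hv) (by rw [C.symm]; exact hw)
  -- no `t`
  have hcL : c ∈ C.L := by
    rcases (C.cent c).1 hct' with h | h
    · exact h
    · exfalso
      have htc : ∀ g, Commute g C.t → Commute c g → Commute (C.t * c) g := fun g h1 h2 =>
        (h1.symm).mul_left h2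
      obtain ⟨k1, k2⟩ := C.coset_of_comm hu hv (k := ⟨C.t * c, h⟩)
        (htc _ (C.t_comm (C.b_mem u)) hbu) (htc _ (C.t_comm (C.q_mem u v)) hqv)
      obtain ⟨-, k3⟩ := C.coset_of_comm hu hw (k := ⟨C.t * c, h⟩)
        (htc _ (C.t_comm (C.b_mem u)) hbu) (htc _ (C.t_comm (C.q_mem u w)) hqw)
      have k4 : Commute (C.t * c) a := Y.comm_r_of hv k1 k2
      have k5 : Commute (C.t * c) b := Y.comm_r_of hw k1 k3
      have e0 : c = C.t * (C.t * c) := by rw [← mul_assoc, C.tt, one_mul]
      have e1 : c⁻¹ = C.t * C.q u v * (C.t * c) := by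
        rw [← hia, ← Y.r_conj_t hv, ← ha]
        calc a * c * a = a * (C.t * (C.t * c)) * a := by rw [← e0]
          _ = a * C.t * ((C.t * c) * a) := by group
          _ = a * C.t * (a * (C.t * c)) := by rw [k4.eq]
          _ = _ := by group
      have e2 : c⁻¹ = C.t * C.q u w * (C.t * c) := by
        rw [← hib, ← Y.r_conj_t hw, ← hb]
        calc b * c * b = b * (C.t * (C.t * c)) * b := by rw [← e0]
          _ = b * C.t * ((C.t * c) * b) := by group
          _ = b * C.t * (b * (C.t * c)) := by rw [k5.eq]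
          _ = _ := by group
      have e3 : C.q u v = C.q u w := mul_left_cancel (mul_right_cancel (e1.symm.trans e2))
      rcases C.q_inj hu hv hw e3 with h5 | h5
      · rw [h5, C.B_self] at hvw
        exact zero_ne_one hvw
      · rw [h5, C.B_add_right, C.B_self, C.symm v u, hv, add_zero] at hvw
        exact zero_ne_one hvw
  obtain ⟨k1, k2⟩ := C.coset_of_comm hu hv (k := ⟨c, hcL⟩) hbu hqv
  obtain ⟨-, k3⟩ := C.coset_of_comm hu hw (k := ⟨c, hcL⟩) hbu hqw
  have k4 : Commute c a := Y.comm_r_of hv (k := ⟨c, hcL⟩) k1 k2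
  refine ⟨⟨c, hcL⟩, rfl, k1, k2, k3, fun z h1 h2 h3 => C.fix_of_comm (hz z h1 h2 h3), ?_⟩
  have e1 : c = c⁻¹ := by
    rw [← hia, ← k4.eq, mul_assoc, aa', mul_one]
  exact mul_eq_one_iff_eq_inv.2 e1

/-- additivity: `r u (w + e)` and `r u w` have the same commutator with `r u v` -/
theorem c_add {u v w e : V} (hu : u ≠ 0) (hv : C.S.B u v = 0) (hw : C.S.B u w = 0) (hvw : C.S.B v w = 1)
    (hue : C.S.B u e = 0) (hve : C.S.B v e = 0) (hwe : C.S.B w e = 0) :
    r y u v * r y u (w + e) * r y u v * r y u (w + e) = r y u v * r y u w * r y u v * r y u w := by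
  have huwe : C.S.B u (w + e) = 0 := by rw [C.B_add_right, hw, hue, add_zero]
  set a := r y u v with ha
  set b := r y u w with hb
  set b' := r y u (w + e) with hb'
  set d := r y u e with hd
  have aa' : a * a = 1 := Y.r_sq hv
  have bb' : b * b = 1 := Y.r_sq hw
  have bb'' : b' * b' = 1 := Y.r_sq huwe
  have dd' : d * d = 1 := Y.r_sq hue
  have yy' : y u * y u = 1 := Y.sq u
  have hbd : Commute b d := (Y.r_comm_y hue hwe).mul_right (Y.r_comm_y (by
    rw [C.B_add_right, C.B_self, hue, add_zero]) (by rw [C.B_add_right, hwe, C.symm, hw, add_zero]))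
  have hew : C.S.B e w = 0 := by rw [C.symm]; exact hwe
  have hwu : C.S.B w u = 0 := by rw [C.symm]; exact hw
  have heu : C.S.B e u = 0 := by rw [C.symm]; exact hue
  have hb'b : Commute b' b := (Y.r_comm_y hw (by rw [C.B_add_left, C.B_self, hew, add_zero])).mul_right
    (Y.r_comm_y (by rw [C.B_add_right, hw, C.B_self, add_zero])
      (by rw [C.B_add_right, C.B_add_left, C.B_add_left, C.B_self, hew, hwu, heu]; simp))
  have hb'd : Commute b' d := (Y.r_comm_y hue (by rw [C.B_add_left, C.B_self, hwe, add_zero])).mul_right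
    (Y.r_comm_y (by rw [C.B_add_right, hue, C.B_self, add_zero])
      (by rw [C.B_add_right, C.B_add_left, C.B_add_left, C.B_self, hwe, hwu, heu]; simp))
  have hb'y : Commute b' (y u) := Y.r_comm_y (C.B_self u) (by rw [C.B_add_left, hwu, heu, add_zero])
  have hby : Commute b (y u) := Y.r_comm_y (C.B_self u) hwu
  have hdy : Commute d (y u) := Y.r_comm_y (C.B_self u) heu
  have hay : Commute a (y u) := Y.r_comm_y (C.B_self u) (by rw [C.symm]; exact hv)
  have had : Commute a d := (Y.r_comm_y hue hve).mul_right (Y.r_comm_y (by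
    rw [C.B_add_right, C.B_self, hue, add_zero]) (by rw [C.B_add_right, hve, C.symm, hv, add_zero]))
  -- the product `Z` lies in `L`
  set Z := b' * b * d * y u with hZ
  have hZt : C.t * Z * C.t = Z := by
    have h1 : C.t * Z * C.t = (C.t * b' * C.t) * (C.t * b * C.t) * (C.t * d * C.t) * (C.t * y u * C.t) := by
      calc C.t * Z * C.t = C.t * b' * 1 * b * 1 * d * 1 * y u * C.t := by rw [hZ]; group
        _ = C.t * b' * (C.t * C.t) * b * (C.t * C.t) * d * (C.t * C.t) * y u * C.t := by rw [C.tt]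
        _ = _ := by group
    rw [h1, Y.t_conj_r huwe, Y.t_conj_r hw, Y.t_conj_r hue, Y.conj_t]
    have q1 : Commute (C.q u w) b' := Y.q_comm_r hw huwe
    have q2 : Commute (C.q u e) b' := Y.q_comm_r hue huwe
    have q3 : Commute (C.q u e) b := Y.q_comm_r hue hw
    have q4 : Commute (C.b u) b' := (Y.r_comm_b (C.B_self u) (by rw [C.B_add_left, hwu, heu, add_zero])).symm
    have q5 : Commute (C.b u) b := (Y.r_comm_b (C.B_self u) hwu).symm
    have q6 : Commute (C.b u) d := (Y.r_comm_b (C.B_self u) heu).symm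
    have e1 : C.q u (w + e) * b' * (C.q u w * b) * (C.q u e * d) * (C.b u * y u) =
        (C.q u (w + e) * C.q u w * C.q u e * C.b u) * Z := by
      calc C.q u (w + e) * b' * (C.q u w * b) * (C.q u e * d) * (C.b u * y u) =
          C.q u (w + e) * (b' * C.q u w) * b * C.q u e * (d * C.b u) * y u := by group
        _ = C.q u (w + e) * (C.q u w * b') * b * C.q u e * (C.b u * d) * y u := by rw [q1.eq, q6.eq]
        _ = C.q u (w + e) * C.q u w * b' * (b * C.q u e) * C.b u * d * y u := by group
        _ = C.q u (w + e) * C.q u w * b' * (C.q u e * b) * C.b u * d * y u := by rw [q3.eq]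
        _ = C.q u (w + e) * C.q u w * (b' * C.q u e) * (b * C.b u) * d * y u := by group
        _ = C.q u (w + e) * C.q u w * (C.q u e * b') * (C.b u * b) * d * y u := by rw [q2.eq, q5.eq]
        _ = C.q u (w + e) * C.q u w * C.q u e * (b' * C.b u) * b * d * y u := by group
        _ = C.q u (w + e) * C.q u w * C.q u e * (C.b u * b') * b * d * y u := by rw [q4.eq]
        _ = _ := by rw [hZ]; group
    have e2 : C.q u (w + e) * C.q u w * C.q u e * C.b u = 1 := by
      calc C.q u (w + e) * C.q u w * C.q u e * C.b u = C.q u (w + e) * (C.q u w * C.q u e) * C.b u := by group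
        _ = C.q u (w + e) * (C.q u (w + e) * C.b u) * C.b u := by rw [C.q_mul_zero hw hue hwe]
        _ = (C.q u (w + e) * C.q u (w + e)) * (C.b u * C.b u) := by group
        _ = 1 := by rw [C.q_sq huwe, C.b_sq, one_mul]
    rw [e1, e2, one_mul]
  have hZt' : Commute Z C.t := by
    have : Z * C.t = C.t * Z := by
      calc Z * C.t = (C.t * Z * C.t) * C.t := by rw [hZt]
        _ = C.t * Z * (C.t * C.t) := by group
        _ = C.t * Z := by rw [C.tt, mul_one]
    exact this
  have hZb : Commute Z (C.b u) := ((Y.r_comm_b (C.B_self u) (by rw [C.B_add_left, hwu, heu, add_zero])).mul_left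
    (Y.r_comm_b (C.B_self u) hwu)).mul_left (Y.r_comm_b (C.B_self u) heu) |>.mul_left (Y.y_comm_b (C.B_self u))
  have hZy : Commute Z (y u) := ((hb'y.mul_left hby).mul_left hdy).mul_left (Commute.refl _)
  have hZq : Commute Z (C.q u v) := by
    have g1 : C.q u v * b' * (C.q u v)⁻¹ = r y u (w + e + u) := by
      have h := Y.r_conj_L (C.qL u v) u (w + e)
      rw [C.rho_q hv, C.rho_q hv, C.B_self, hv, zero_smul, zero_smul, add_zero, add_zero, C.B_add_left, hwu, heu,
        add_zero, zero_smul, add_zero, C.B_add_left, C.symm w v, hvw, C.symm e v, hve, add_zero, one_smul] at h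
      exact h
    have g2 : C.q u v * b * (C.q u v)⁻¹ = r y u (w + u) := by
      have h := Y.r_conj_L (C.qL u v) u w
      rw [C.rho_q hv, C.rho_q hv, C.B_self, hv, zero_smul, zero_smul, add_zero, add_zero, hwu,
        zero_smul, add_zero, C.symm w v, hvw, one_smul] at h
      exact h
    rw [Y.r_add huwe] at g1
    rw [Y.r_add hw] at g2
    have g1' : Commute (C.q u v) b' := mul_inv_eq_iff_eq_mul.1 g1
    have g2' : Commute (C.q u v) b := mul_inv_eq_iff_eq_mul.1 g2
    have g3 : Commute (C.q u v) d := Y.q_comm_r hv hue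
    have g4 : Commute (C.q u v) (y u) := by
      have := Y.q_comm_r hv (C.B_zero_right u)
      rwa [Y.r_zero] at this
    exact (((g1'.mul_right g2').mul_right g3).mul_right g4).symm
  have hZL : Z ∈ C.L := by
    rcases (C.cent Z).1 hZt' with h | h
    · exact h
    · exfalso
      have k1 : C.S.ρ ⟨C.t * Z, h⟩ u = u :=
        C.fix_of_comm (k := ⟨C.t * Z, h⟩) (((C.t_comm (C.b_mem u)).symm.mul_left hZb))
      have k2 : Commute (C.t * Z) (y u) := Y.comm_L (k := ⟨C.t * Z, h⟩) k1
      have k3 : Commute C.t (y u) := by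
        have := k2.mul_left hZy.inv_left
        rwa [mul_inv_cancel_right] at this
      have k4 := Y.conj_t u
      rw [k3.eq, mul_assoc, C.tt, mul_one] at k4
      exact C.b_ne_one hu (right_eq_mul.1 k4)
  obtain ⟨k1, k2⟩ := C.coset_of_comm hu hv (k := ⟨Z, hZL⟩) hZb hZq
  have hZa : Commute Z a := Y.comm_r_of hv (k := ⟨Z, hZL⟩) k1 k2
  -- `b' = b * s` with `s` commuting with `a` and `b`, `s * s = 1`
  set s := d * y u * Z with hs
  have hb's : b' = b * s := by
    have hZinv : Z * (y u * d * b) = b' := by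
      calc Z * (y u * d * b) = b' * b * d * (y u * y u) * d * b := by rw [hZ]; group
        _ = b' * b * (d * d) * b := by rw [yy']; group
        _ = b' * (b * b) := by rw [dd']; group
        _ = b' := by rw [bb', mul_one]
    have hZd : Commute Z d := ((hb'd.mul_left hbd).mul_left (Commute.refl _)).mul_left hdy.symm
    have hZb' : Commute Z b := ((hb'b.mul_left (Commute.refl _)).mul_left hbd.symm).mul_left hby.symm
    calc b' = Z * (y u * d * b) := hZinv.symm
      _ = Z * y u * d * b := by group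
      _ = b * (d * y u * Z) := by
        rw [hZy.eq, mul_assoc (y u), hZd.eq, mul_assoc (y u), mul_assoc d, hZb'.eq, ← mul_assoc d, ← hbd.eq,
          ← mul_assoc (y u), ← mul_assoc (y u), ← hby.eq, mul_assoc b, mul_assoc b, hdy.eq]
      _ = b * s := by rw [hs]
  have has : Commute a s := (had.mul_right hay).mul_right hZa.symm
  have hbs : Commute b s := by
    have h1 : s = b⁻¹ * b' := by rw [hb's]; group
    rw [h1]
    exact ((Commute.refl b).inv_right).mul_right hb'b.symm
  have hss : s * s = 1 := by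
    have h1 : b' * b' = (b * b) * (s * s) := by rw [hb's]; exact hbs.symm.mul_mul_mul_comm b s
    rw [bb', one_mul, bb''] at h1
    exact h1.symm
  rw [hb's]
  calc a * (b * s) * a * (b * s) = a * b * (s * a) * b * s := by group
    _ = a * b * (a * s) * b * s := by rw [has.eq]
    _ = a * b * a * (s * b) * s := by group
    _ = a * b * a * (b * s) * s := by rw [hbs.eq]
    _ = a * b * a * b * (s * s) := by group
    _ = a * b * a * b := by rw [hss, mul_one]

/-- the commutator `c` fixes `v` -/
theorem c_fix {u v w : V} (hu : u ≠ 0) (hv : C.S.B u v = 0) (hw : C.S.B u w = 0) (hvw : C.S.B v w = 1)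
    {k : C.L} (hk : (k : G) = r y u v * r y u w * r y u v * r y u w) (hku : C.S.ρ k u = u)
    (hkv : C.S.ρ k v = v ∨ C.S.ρ k v = v + u)
    (hkz : ∀ z, C.S.B u z = 0 → C.S.B v z = 0 → C.S.B w z = 0 → C.S.ρ k z = z) : C.S.ρ k v = v := by
  obtain ⟨e, hue, hve, hwe, he0, heu⟩ := C.exists_perp u v w
  have hev : C.S.B e v = 0 := by rw [C.symm]; exact hve
  -- conjugation by `q e v` sends `w` to `w + e`
  have h1 : Commute (k : G) (C.q e v) := by
    have g1 := Y.r_conj_L (C.qL e v) u v
    have g2 := Y.r_conj_L (C.qL e v) u w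
    rw [C.rho_q hev, C.rho_q hev, hue, hv, zero_smul, zero_smul, add_zero, add_zero, hve, C.B_self, zero_smul,
      zero_smul, add_zero, add_zero] at g1
    rw [C.rho_q hev, C.rho_q hev, hue, hv, zero_smul, zero_smul, add_zero, add_zero, hwe, zero_smul, add_zero,
      C.symm w v, hvw, one_smul] at g2
    rw [C.coe_qL] at g1 g2
    have g3 : C.q e v * (k : G) * (C.q e v)⁻¹ = k := by
      have h2 := Y.c_add hu hv hw hvw hue hve hwe
      calc C.q e v * (k : G) * (C.q e v)⁻¹ = (C.q e v * r y u v * (C.q e v)⁻¹) *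
            (C.q e v * r y u w * (C.q e v)⁻¹) * (C.q e v * r y u v * (C.q e v)⁻¹) *
            (C.q e v * r y u w * (C.q e v)⁻¹) := by rw [hk]; group
        _ = r y u v * r y u (w + e) * r y u v * r y u (w + e) := by rw [g1, g2]
        _ = k := by rw [h2, hk]
    exact (mul_inv_eq_iff_eq_mul.1 g3).symm
  have h3 : C.S.ρ k e = e := hkz e hue hve hwe
  have h4 := C.q_conj k e v
  rw [h3, h1.eq, mul_inv_cancel_right] at h4
  rcases hkv with h5 | h5
  · exact h5
  · exfalso
    rw [h5] at h4
    rcases C.q_inj he0 hev (by rw [C.B_add_right, hev, C.symm, hue, add_zero]) h4 with h6 | h6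
    · exact hu (add_eq_left.1 h6)
    · exact heu (add_left_cancel h6).symm

/-- the commutator is `1` or `b u` -/
theorem c_or {u v w : V} (hu : u ≠ 0) (hv : C.S.B u v = 0) (hw : C.S.B u w = 0) (hvw : C.S.B v w = 1) :
    r y u v * r y u w * r y u v * r y u w = 1 ∨ r y u v * r y u w * r y u v * r y u w = C.b u := by
  obtain ⟨k, hk, k1, k2, k3, k4, k5⟩ := Y.c_mem hu hv hw hvw
  have hwv : C.S.B w v = 1 := by rw [C.symm]; exact hvw
  have f1 : C.S.ρ k v = v := Y.c_fix hu hv hw hvw hk k1 k2 k4
  have f2 : C.S.ρ k w = w := by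
    refine Y.c_fix hu hw hv hwv ?_ k1 k3 (fun z h1 h2 h3 => k4 z h1 h3 h2)
    have h1 : (k : G) = (k : G)⁻¹ := eq_inv_of_mul_eq_one_left k5
    rw [h1, hk, invol_inv (Y.r_sq hv) (Y.r_sq hw)]
  rw [← hk]
  apply C.eq_one_or_b hu
  intro z hz
  have hz' : C.S.ρ k (z + C.S.B w z • v + C.S.B v z • w) = z + C.S.B w z • v + C.S.B v z • w := by
    apply k4
    · rw [C.B_add_right, C.B_add_right, C.B_smul_right, C.B_smul_right, hz, hv, hw]; simp
    · rw [C.B_add_right, C.B_add_right, C.B_smul_right, C.B_smul_right, C.B_self, hvw]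
      rcases z2 (C.S.B v z) with h | h <;> rw [h] <;> simp <;> decide
    · rw [C.B_add_right, C.B_add_right, C.B_smul_right, C.B_smul_right, C.B_self, hwv]
      rcases z2 (C.S.B w z) with h | h <;> rw [h] <;> simp <;> decide
  rw [map_add, map_add, map_smul, map_smul, f1, f2] at hz'
  exact add_right_cancel (add_right_cancel hz')

omit Y in
theorem _root_.Cfsg.Agent.OddHalf.SpTwoN.Ctx.t_comm_of (C : Ctx G V) {F : G} (h : C.t * F * C.t = F) :
    Commute F C.t := by
  have : F * C.t = C.t * F := by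
    calc F * C.t = (C.t * F * C.t) * C.t := by rw [h]
      _ = C.t * F * (C.t * C.t) := by group
      _ = C.t * F := by rw [C.tt, mul_one]
  exact this

/-- The product `F = r u v * r u w * r u (v + w)` of a hyperbolic triple is `1` or `b u`, and `r u v`, `r u w`
commute. -/
theorem hyp {u v w : V} (hu : u ≠ 0) (hv : C.S.B u v = 0) (hw : C.S.B u w = 0) (hvw : C.S.B v w = 1) :
    r y u v * r y u w = r y u w * r y u v ∧
      (r y u v * r y u w * r y u (v + w) = 1 ∨ r y u v * r y u w * r y u (v + w) = C.b u) := by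
  have huvw : C.S.B u (v + w) = 0 := by rw [C.B_add_right, hv, hw, add_zero]
  have hvu : C.S.B v u = 0 := by rw [C.symm]; exact hv
  have hwu : C.S.B w u = 0 := by rw [C.symm]; exact hw
  have hwv : C.S.B w v = 1 := by rw [C.symm]; exact hvw
  set a := r y u v with ha
  set b := r y u w with hb
  set d := r y u (v + w) with hd
  set c := a * b * a * b with hc
  have aa' : a * a = 1 := Y.r_sq hv
  have bb' : b * b = 1 := Y.r_sq hw
  have dd' : d * d = 1 := Y.r_sq huvw
  have hc' : c = 1 ∨ c = C.b u := Y.c_or hu hv hw hvw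
  have bu_a : Commute (C.b u) a := (Y.r_comm_b (C.B_self u) hvu).symm
  have bu_b : Commute (C.b u) b := (Y.r_comm_b (C.B_self u) hwu).symm
  have bu_d : Commute (C.b u) d := (Y.r_comm_b (C.B_self u) (by rw [C.B_add_left, hvu, hwu, add_zero])).symm
  have cc : ∀ g, Commute (C.b u) g → Commute c g := by
    intro g hg
    rcases hc' with h | h <;> rw [h]
    · exact Commute.one_left g
    · exact hg
  have c2 : c * c = 1 := by
    rcases hc' with h | h <;> rw [h]
    · rw [one_mul]
    · exact C.b_sq u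
  -- conjugation by `b v`, `b w`, `b (v + w)`
  have bva : C.b v * a * C.b v = a := by
    rw [ha, Y.r_conj_b hv, C.B_self, zero_smul, add_zero]
  have bvb : C.b v * b * C.b v = d := by
    rw [hb, Y.r_conj_b hv, hwv, one_smul, hd, add_comm]
  have bvd : C.b v * d * C.b v = b := by
    rw [hd, Y.r_conj_b hv, C.B_add_left, C.B_self, hwv, zero_add, one_smul, add_comm v w, add_assoc, aa, add_zero]
  have bwb : C.b w * b * C.b w = b := by
    rw [hb, Y.r_conj_b hw, C.B_self, zero_smul, add_zero]
  have bwa : C.b w * a * C.b w = d := by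
    rw [ha, Y.r_conj_b hw, hvw, one_smul]
  have bwd : C.b w * d * C.b w = a := by
    rw [hd, Y.r_conj_b hw, C.B_add_left, C.B_self, hvw, add_zero, one_smul, add_assoc, aa, add_zero]
  have conj4 : ∀ x p q : G, x * x = 1 → x * (p * q * p * q) * x =
      (x * p * x) * (x * q * x) * (x * p * x) * (x * q * x) := by
    intro x p q hx
    calc x * (p * q * p * q) * x = x * p * 1 * q * 1 * p * 1 * q * x := by group
      _ = x * p * (x * x) * q * (x * x) * p * (x * x) * q * x := by rw [hx]
      _ = _ := by group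
  have conj3 : ∀ x p q s : G, x * x = 1 → x * (p * q * s) * x = (x * p * x) * (x * q * x) * (x * s * x) := by
    intro x p q s hx
    calc x * (p * q * s) * x = x * p * 1 * q * 1 * s * x := by group
      _ = x * p * (x * x) * q * (x * x) * s * x := by rw [hx]
      _ = _ := by group
  have hcb : ∀ z, C.S.B u z = 0 → C.b z * c * C.b z = c := fun z hz =>
    commute_inv_of_conj (C.b_sq z) (cc _ (C.b_comm hz))
  have cad : a * d * a * d = c := by
    have := conj4 (C.b v) a b (C.b_sq v)
    rw [bva, bvb, ← hc, hcb v hv] at this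
    exact this.symm
  have cdb : d * b * d * b = c := by
    have := conj4 (C.b w) a b (C.b_sq w)
    rw [bwa, bwb, ← hc, hcb w hw] at this
    exact this.symm
  have e_ab : a * b = c * (b * a) := by
    calc a * b = a * b * (a * (b * b) * a) := by rw [bb', mul_one, aa', mul_one]
      _ = c * (b * a) := by rw [hc]; group
  have e_ba : b * a = c * (a * b) := by
    rw [e_ab, ← mul_assoc, c2, one_mul]
  have e_ad : a * d = c * (d * a) := by
    calc a * d = a * d * (a * (d * d) * a) := by rw [dd', mul_one, aa', mul_one]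
      _ = a * d * a * d * (d * a) := by group
      _ = c * (d * a) := by rw [cad]
  have e_db : d * b = c * (b * d) := by
    calc d * b = d * b * (d * (b * b) * d) := by rw [bb', mul_one, dd', mul_one]
      _ = d * b * d * b * (b * d) := by group
      _ = c * (b * d) := by rw [cdb]
  -- `F`
  set F := a * b * d with hF
  have hFt : C.t * F * C.t = F := by
    have h1 := conj3 C.t a b d C.tt
    rw [← hF] at h1
    rw [h1, ha, hb, hd, Y.t_conj_r hv, Y.t_conj_r hw, Y.t_conj_r huvw, ← ha, ← hb, ← hd]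
    have q1 : Commute (C.q u w) a := Y.q_comm_r hw hv
    have q2 : Commute (C.q u (v + w)) a := Y.q_comm_r huvw hv
    have q3 : Commute (C.q u (v + w)) b := Y.q_comm_r huvw hw
    calc C.q u v * a * (C.q u w * b) * (C.q u (v + w) * d) =
        C.q u v * (a * C.q u w) * (b * C.q u (v + w)) * d := by group
      _ = C.q u v * (C.q u w * a) * (C.q u (v + w) * b) * d := by rw [q1.eq, q3.eq]
      _ = C.q u v * C.q u w * (a * C.q u (v + w)) * b * d := by group
      _ = C.q u v * C.q u w * (C.q u (v + w) * a) * b * d := by rw [q2.eq]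
      _ = (C.q u v * C.q u w) * C.q u (v + w) * (a * b * d) := by group
      _ = F := by rw [C.q_mul_one hv hw hvw, C.q_sq huvw, one_mul, hF]
  have hFt' := C.t_comm_of hFt
  have hFu : Commute F (C.b u) := ((bu_a.symm.mul_left bu_b.symm).mul_left bu_d.symm)
  have hFqv : Commute F (C.q u v) := ((Y.q_comm_r hv hv).symm.mul_left (Y.q_comm_r hv hw).symm).mul_left
    (Y.q_comm_r hv huvw).symm
  have hFqw : Commute F (C.q u w) := ((Y.q_comm_r hw hv).symm.mul_left (Y.q_comm_r hw hw).symm).mul_left
    (Y.q_comm_r hw huvw).symm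
  have hFz : ∀ z, C.S.B u z = 0 → C.S.B v z = 0 → C.S.B w z = 0 → Commute F (C.b z) := by
    intro z h1 h2 h3
    exact ((Y.r_comm_b h1 h2).mul_left (Y.r_comm_b h1 h3)).mul_left
      (Y.r_comm_b h1 (by rw [C.B_add_left, h2, h3, add_zero]))
  have hFa : a * F * a = F := by
    calc a * F * a = (a * a) * b * (d * a) := by rw [hF]; group
      _ = b * (c * (a * d)) := by
        rw [aa', one_mul]
        have : d * a = c * (a * d) := by rw [e_ad, ← mul_assoc, c2, one_mul]
        rw [this]
      _ = (b * c) * a * d := by group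
      _ = (c * b) * a * d := by rw [(cc b bu_b).eq]
      _ = c * (b * a) * d := by group
      _ = c * (c * (a * b)) * d := by rw [e_ba]
      _ = (c * c) * (a * b * d) := by group
      _ = F := by rw [c2, one_mul]
  have hFL : F ∈ C.L := by
    rcases (C.cent F).1 hFt' with h | h
    · exact h
    · exfalso
      obtain ⟨k1, k2⟩ := C.coset_of_comm hu hv (k := ⟨C.t * F, h⟩)
        ((C.t_comm (C.b_mem u)).symm.mul_left hFu) ((C.t_comm (C.q_mem u v)).symm.mul_left hFqv)
      have k4 : Commute (C.t * F) a := Y.comm_r_of hv k1 k2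
      have e0 : F = C.t * (C.t * F) := by rw [← mul_assoc, C.tt, one_mul]
      have e1 : F = C.t * C.q u v * (C.t * F) := by
        rw [← Y.r_conj_t hv, ← ha]
        calc F = a * F * a := hFa.symm
          _ = a * (C.t * (C.t * F)) * a := by rw [← e0]
          _ = a * C.t * ((C.t * F) * a) := by group
          _ = a * C.t * (a * (C.t * F)) := by rw [k4.eq]
          _ = _ := by group
      have e2 : C.t * (C.t * F) = C.t * C.q u v * (C.t * F) := by rw [← e0]; exact e1
      have e3 : C.t = C.t * C.q u v := mul_right_cancel e2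
      exact C.q_ne_one hu v (left_eq_mul.1 e3)
  obtain ⟨k1, k2⟩ := C.coset_of_comm hu hv (k := ⟨F, hFL⟩) hFu hFqv
  obtain ⟨-, k3⟩ := C.coset_of_comm hu hw (k := ⟨F, hFL⟩) hFu hFqw
  -- the swap
  have hc1 : c = 1 := by
    have s1 : C.b (v + w) * a * C.b (v + w) = b := by
      rw [ha, Y.r_conj_b huvw, C.B_add_right, C.B_self, hvw, zero_add, one_smul, ← add_assoc, aa, zero_add]
    have s2 : C.b (v + w) * b * C.b (v + w) = a := by
      rw [hb, Y.r_conj_b huvw, C.B_add_right, C.B_self, hwv, add_zero, one_smul, add_comm v w, ← add_assoc, aa,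
        zero_add]
    have s3 : C.b (v + w) * d * C.b (v + w) = d := by
      rw [hd, Y.r_conj_b huvw, C.B_self, zero_smul, add_zero]
    have s4 : C.b (v + w) * F * C.b (v + w) = c * F := by
      rw [hF, conj3 _ _ _ _ (C.b_sq _), s1, s2, s3, e_ba, mul_assoc, mul_assoc, mul_assoc]
    have s5 := C.b_conj ⟨F, hFL⟩ (v + w)
    rw [map_add] at s5
    have s6 : C.b (v + w) * (F * C.b (v + w) * F⁻¹) = c := by
      calc C.b (v + w) * (F * C.b (v + w) * F⁻¹) = (C.b (v + w) * F * C.b (v + w)) * F⁻¹ := by group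
        _ = c := by rw [s4]; group
    have s5' : F * C.b (v + w) * F⁻¹ = C.b (C.S.ρ ⟨F, hFL⟩ v + C.S.ρ ⟨F, hFL⟩ w) := s5
    rw [s5'] at s6
    have s7 : C.S.ρ ⟨F, hFL⟩ v + C.S.ρ ⟨F, hFL⟩ w = v + w ∨
        C.S.ρ ⟨F, hFL⟩ v + C.S.ρ ⟨F, hFL⟩ w = v + w + u := by
      rcases k2 with h1 | h1 <;> rcases k3 with h2 | h2 <;> rw [h1, h2]
      · exact Or.inl rfl
      · right; abel
      · right; abel
      · left
        rw [show v + u + (w + u) = v + w + (u + u) by abel, aa, add_zero]
    rcases s7 with h | h <;> rw [h] at s6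
    · rw [← s6, C.b_sq]
    · exfalso
      have s8 : C.q u (v + w) = c := s6
      rcases hc' with h1 | h1
      · exact C.q_ne_one hu _ (s8.trans h1)
      · rw [h1, ← C.q_zero u] at s8
        have h9 : v = w ∨ v = w + u := by
          rcases C.q_inj hu huvw (C.B_zero_right u) s8 with h2 | h2
          · exact Or.inl (eq_of_add _ _ h2.symm)
          · right
            apply eq_of_add
            rw [← add_assoc]; exact h2.symm
        rcases h9 with h9 | h9
        · rw [h9, C.B_self] at hvw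
          exact zero_ne_one hvw
        · rw [h9, C.B_add_left, C.B_self, hw, add_zero] at hvw
          exact zero_ne_one hvw
  rw [hc1, one_mul] at e_ab e_ad e_db
  refine ⟨e_ab, ?_⟩
  have f1 : C.S.ρ ⟨F, hFL⟩ v = v := by
    apply C.fix_of_comm
    have s4 : C.b v * F * C.b v = F := by
      rw [hF, conj3 _ _ _ _ (C.b_sq _), bva, bvb, bvd, mul_assoc, ← e_db.symm, mul_assoc]
    have : F * C.b v = C.b v * F := by
      calc F * C.b v = (C.b v * F * C.b v) * C.b v := by rw [s4]
        _ = C.b v * F * (C.b v * C.b v) := by group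
        _ = C.b v * F := by rw [C.b_sq, mul_one]
    exact this
  have f2 : C.S.ρ ⟨F, hFL⟩ w = w := by
    apply C.fix_of_comm
    have s4 : C.b w * F * C.b w = F := by
      rw [hF, conj3 _ _ _ _ (C.b_sq _), bwa, bwb, bwd, e_db, mul_assoc, ← e_ad, ← mul_assoc, e_ab]
    have : F * C.b w = C.b w * F := by
      calc F * C.b w = (C.b w * F * C.b w) * C.b w := by rw [s4]
        _ = C.b w * F * (C.b w * C.b w) := by group
        _ = C.b w * F := by rw [C.b_sq, mul_one]
    exact this
  have hFk : ((⟨F, hFL⟩ : C.L) : G) = F := rfl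
  rw [← hFk]
  apply C.eq_one_or_b hu
  intro z hz
  have hz' : C.S.ρ ⟨F, hFL⟩ (z + C.S.B w z • v + C.S.B v z • w) = z + C.S.B w z • v + C.S.B v z • w := by
    apply C.fix_of_comm
    refine hFz _ ?_ ?_ ?_
    · rw [C.B_add_right, C.B_add_right, C.B_smul_right, C.B_smul_right, hz, hv, hw]; simp
    · rw [C.B_add_right, C.B_add_right, C.B_smul_right, C.B_smul_right, C.B_self, hvw]
      rcases z2 (C.S.B v z) with h | h <;> rw [h] <;> simp <;> decide
    · rw [C.B_add_right, C.B_add_right, C.B_smul_right, C.B_smul_right, C.B_self, hwv]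
      rcases z2 (C.S.B w z) with h | h <;> rw [h] <;> simp <;> decide
  rw [map_add, map_add, map_smul, map_smul, f1, f2] at hz'
  exact add_right_cancel (add_right_cancel hz')

end YData

end Cfsg.Agent.OddHalf.SpTwoN
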