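import Cfsg.Agent.StandardComponent.SpTwo

/-!
# The case (C, O): computations modulo `b u`

`H` is the group `C(b u) / ⟨b u⟩` and `E = u^⊥`. The elements `T`, `Z`, `Q w`, `g w`, `z x` are the images of `t`,
`z u`, `q u w = b w * b (w + u)`, `(z w)⁻¹ * z (w + u)`, `z x`.
-/

set_option autoImplicit false

namespace Cfsg.Agent.OddHalf.SpTwoN

open Cfsg.Agent.StandardComponent.SpTwo

/-- Relations in `C(b u) / ⟨b u⟩`. -/
structure HData (H E : Type*) [Group H] [AddCommGroup E] [Module (ZMod 2) E] where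
  β : E →ₗ[ZMod 2] E →ₗ[ZMod 2] ZMod 2
  alt : ∀ x, β x x = 0
  T : H
  Z : H
  Q : E → H
  g : E → H
  z : E → H
  TT : T * T = 1
  ZZ : Z * Z = 1
  Q_add : ∀ w x, Q (w + x) = Q w * Q x
  Q_T : ∀ w, Q w * T = T * Q w
  Z_T : Z * T = T * Z
  Z_Q : ∀ w, Z * Q w = Q w * Z
  gg : ∀ w, g w * g w = 1
  g_zero : g 0 = Z
  g_T : ∀ w, g w * T = T * (g w * Q w)
  Q_g : ∀ w x, Q x * g w = g w * Q x
  Z_g : ∀ w, Z * g w = g w * Z
  g_comm : ∀ w x, β w x = 0 → g w * g x = g x * g w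
  z_T : ∀ x, T * z x * T = (z x)⁻¹
  b_g : ∀ x w, z x * z x * g w = g (w + β w x • x) * (z x * z x)
  b_Q : ∀ x w, z x * z x * Q w = Q (w + β w x • x) * (z x * z x)
  b_z : ∀ x w, z x * z x * z w = z (w + β w x • x) * (z x * z x)
  z_Z : ∀ x, z x * Z = Q x * Z * z x
  z_g : ∀ x w, β w x = 0 → z x * g w = g w * Q x * z x
  z_Q : ∀ x w, β w x = 0 → z x * Q w = Q w * z x
  z_Q1 : ∀ x w, β w x = 1 → Q w * z x * Q w = z x * g x
  z_z : ∀ x y, β x y = 0 → z x * z y =
    (z x * z x) * (z y * z y) * (z (x + y) * z (x + y)) * (z y * z x)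
  kl : ∀ h, T * h = h * T → (∀ w, Q w * h = h * Q w) →
    ∃ y, h = Q y ∨ h = Q y * Z ∨ h = T * Q y ∨ h = T * (Q y * Z)
  Q_one : ∀ y, Q y = 1 ↔ ∀ x, β y x = 0
  g_rad : ∀ w x, (∀ y, β x y = 0) → g (w + x) = g w
  hyp : ∀ w x, ∃ e f, β e w = 0 ∧ β e x = 0 ∧ β f w = 0 ∧ β f x = 0 ∧ β e f = 1
  three : ∀ w x y, ∃ e, β e w = 0 ∧ β e x = 0 ∧ β e y = 0 ∧ ¬ (∀ v, β e v = 0)

namespace HData

variable {H E : Type*} [Group H] [AddCommGroup E] [Module (ZMod 2) E] (D : HData H E)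

theorem symm (x y : E) : D.β x y = D.β y x := by
  have h := D.alt (x + y)
  simp only [map_add, LinearMap.add_apply, D.alt, zero_add, add_zero] at h
  rcases z2 (D.β x y) with h1 | h1 <;> rcases z2 (D.β y x) with h2 | h2 <;> rw [h1, h2] at h <;> rw [h1, h2]
  · simp at h
  · simp at h

theorem β_add_left (x y w : E) : D.β (x + y) w = D.β x w + D.β y w := by
  rw [map_add, LinearMap.add_apply]

theorem β_add_right (x y w : E) : D.β w (x + y) = D.β w x + D.β w y := map_add _ _ _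

theorem β_smul_left (a : ZMod 2) (x w : E) : D.β (a • x) w = a * D.β x w := by
  rw [map_smul, LinearMap.smul_apply, smul_eq_mul]

theorem Q_zero : D.Q 0 = 1 := by
  have h := D.Q_add 0 0
  rw [add_zero] at h
  exact (left_eq_mul.1 h)

theorem QQ (w : E) : D.Q w * D.Q w = 1 := by
  rw [← D.Q_add, aa, D.Q_zero]

theorem Q_comm (w x : E) : D.Q w * D.Q x = D.Q x * D.Q w := by
  rw [← D.Q_add, ← D.Q_add, add_comm]

/-- Conjugation. -/
def cj (a b : H) : H := a * b * a⁻¹

theorem cj_mul (a x y : H) : cj a (x * y) = cj a x * cj a y := by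
  simp only [cj]; group

theorem cj_cj (a b x : H) : cj (a * b) x = cj a (cj b x) := by
  simp only [cj]; group

theorem cj_inv (a x : H) : cj a x⁻¹ = (cj a x)⁻¹ := by
  simp only [cj]; group

theorem cj_of_comm {a x : H} (h : a * x = x * a) : cj a x = x := by
  rw [cj, h, mul_inv_cancel_right]

theorem comm_of_cj {a x : H} (h : cj a x = x) : a * x = x * a := by
  rw [cj] at h
  exact mul_inv_eq_iff_eq_mul.1 h

theorem cj_eq {a x y : H} (h : a * x = y * a) : cj a x = y := by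
  rw [cj, h, mul_inv_cancel_right]

theorem inv_eq {x : H} (h : x * x = 1) : x⁻¹ = x := inv_eq_of_mul_eq_one_left h

/-- `T` acts on `g`. -/
theorem cjT_g (w : E) : cj D.T (D.g w) = D.g w * D.Q w := by
  apply cj_eq
  have h := D.g_T w
  calc D.T * D.g w = D.T * (D.g w * D.Q w * D.Q w) := by rw [mul_assoc, D.QQ, mul_one]
    _ = (D.T * (D.g w * D.Q w)) * D.Q w := by group
    _ = D.g w * D.T * D.Q w := by rw [h]
    _ = D.g w * (D.Q w * D.T) := by rw [D.Q_T]; group
    _ = _ := by group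

theorem cjT_Q (w : E) : cj D.T (D.Q w) = D.Q w := cj_of_comm (D.Q_T w).symm

theorem cjT_Z : cj D.T D.Z = D.Z := cj_of_comm D.Z_T.symm

/-- The element `b x`. -/
def b (x : E) : H := D.z x * D.z x

theorem cjb_g (x w : E) : cj (D.b x) (D.g w) = D.g (w + D.β w x • x) := cj_eq (D.b_g x w)

theorem cjb_Q (x w : E) : cj (D.b x) (D.Q w) = D.Q (w + D.β w x • x) := cj_eq (D.b_Q x w)

theorem cjb_z (x w : E) : cj (D.b x) (D.z w) = D.z (w + D.β w x • x) := cj_eq (D.b_z x w)

theorem cjz_Z (x : E) : cj (D.z x) D.Z = D.Q x * D.Z := cj_eq (D.z_Z x)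

theorem cjz_g {x w : E} (h : D.β w x = 0) : cj (D.z x) (D.g w) = D.g w * D.Q x := cj_eq (D.z_g x w h)

theorem cjz_Q {x w : E} (h : D.β w x = 0) : cj (D.z x) (D.Q w) = D.Q w := cj_eq (D.z_Q x w h)

theorem cjb_Z (x : E) : cj (D.b x) D.Z = D.Z := by
  rw [b, cj_cj, D.cjz_Z, cj_mul, D.cjz_Z, D.cjz_Q (D.alt x), ← mul_assoc, D.QQ, one_mul]

/-- If `b e` centralises `Q y` then `β y e = 0`. -/
theorem β_of_cjb {e y : E} (h : D.Q (y + D.β y e • e) = D.Q y) : D.β y e = 0 := by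
  rcases z2 (D.β y e) with h1 | h1
  · exact h1
  · rw [h1, one_smul, D.Q_add] at h
    have h2 : D.Q e = 1 := mul_eq_left.1 h
    have h3 := (D.Q_one e).1 h2 y
    rw [D.symm, h1] at h3
    exact absurd h3 one_ne_zero

theorem exists_nrad : ∃ v f, D.β v f = 1 := by
  obtain ⟨e, f, -, -, -, -, h⟩ := D.hyp 0 0
  exact ⟨e, f, h⟩

theorem Q_ne {y f : E} (h : D.β y f = 1) : D.Q y ≠ 1 := fun h1 => by
  have := (D.Q_one y).1 h1 f
  rw [h] at this
  exact one_ne_zero this

theorem cjg_T (w : E) : cj (D.g w) D.T = D.T * D.Q w := by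
  apply cj_eq
  rw [D.g_T, mul_assoc, D.Q_g]

theorem cjg_Q (w x : E) : cj (D.g w) (D.Q x) = D.Q x := cj_of_comm (D.Q_g w x).symm

theorem cjg_Z (w : E) : cj (D.g w) D.Z = D.Z := cj_of_comm (D.Z_g w).symm

/-- An element commuting with `T`, `Q` and inverted by `g w` (`w` not in the radical) has no `T`-part. -/
theorem kl_g {h : H} {w f : E} (hw : D.β w f = 1) (hT : D.T * h = h * D.T) (hQ : ∀ w, D.Q w * h = h * D.Q w)
    (hi : cj (D.g w) h = h⁻¹) : ∃ y, h = D.Q y ∨ h = D.Q y * D.Z := by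
  obtain ⟨y, h1 | h1 | h1 | h1⟩ := D.kl h hT hQ
  · exact ⟨y, Or.inl h1⟩
  · exact ⟨y, Or.inr h1⟩
  · exfalso
    have h2 : h * h = 1 := by
      rw [h1]
      calc D.T * D.Q y * (D.T * D.Q y) = D.T * (D.Q y * D.T) * D.Q y := by group
        _ = (D.T * D.T) * (D.Q y * D.Q y) := by rw [D.Q_T]; group
        _ = 1 := by rw [D.TT, D.QQ, one_mul]
    rw [inv_eq h2, h1, cj_mul, D.cjg_T, D.cjg_Q, mul_assoc, D.Q_comm, ← mul_assoc] at hi
    exact D.Q_ne hw (mul_eq_left.1 hi)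
  · exfalso
    have h2 : h * h = 1 := by
      rw [h1]
      calc D.T * (D.Q y * D.Z) * (D.T * (D.Q y * D.Z)) = D.T * (D.Q y * (D.Z * D.T)) * (D.Q y * D.Z) := by group
        _ = D.T * ((D.Q y * D.T) * D.Z) * (D.Q y * D.Z) := by rw [D.Z_T]; group
        _ = (D.T * D.T) * D.Q y * (D.Z * D.Q y) * D.Z := by rw [D.Q_T]; group
        _ = (D.T * D.T) * (D.Q y * D.Q y) * (D.Z * D.Z) := by rw [D.Z_Q]; group
        _ = 1 := by rw [D.TT, D.QQ, D.ZZ, one_mul, one_mul]
    rw [inv_eq h2, h1, cj_mul, cj_mul, D.cjg_T, D.cjg_Q, D.cjg_Z, mul_assoc, ← mul_assoc (D.Q w),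
      D.Q_comm w y] at hi
    have h3 : D.Q y * D.Q w * D.Z = D.Q y * D.Z := mul_left_cancel hi
    exact D.Q_ne hw (mul_eq_left.1 (mul_right_cancel h3))

/-- The `Z`-part is killed by a suitable `z e`. -/
theorem kl_z {h : H} {y e f : E} (he : D.β e f = 1) (hye : D.β y e = 0) (hz : cj (D.z e) h = h)
    (hh : h = D.Q y ∨ h = D.Q y * D.Z) : h = D.Q y := by
  rcases hh with hh | hh
  · exact hh
  · exfalso
    rw [hh, cj_mul, D.cjz_Q hye, D.cjz_Z] at hz
    have h2 := mul_left_cancel hz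
    exact D.Q_ne he (mul_eq_right.1 h2)

theorem Q_T' (w : E) (h : H) : D.Q w * (D.T * h) = D.T * (D.Q w * h) := by
  rw [← mul_assoc, D.Q_T, mul_assoc]

theorem Z_T' (h : H) : D.Z * (D.T * h) = D.T * (D.Z * h) := by
  rw [← mul_assoc, D.Z_T, mul_assoc]

theorem Z_Q' (w : E) (h : H) : D.Z * (D.Q w * h) = D.Q w * (D.Z * h) := by
  rw [← mul_assoc, D.Z_Q, mul_assoc]

theorem Z_g' (w : E) (h : H) : D.Z * (D.g w * h) = D.g w * (D.Z * h) := by
  rw [← mul_assoc, D.Z_g, mul_assoc]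

theorem Q_g' (w x : E) (h : H) : D.Q x * (D.g w * h) = D.g w * (D.Q x * h) := by
  rw [← mul_assoc, D.Q_g, mul_assoc]

theorem gg' (w : E) (h : H) : D.g w * (D.g w * h) = h := by
  rw [← mul_assoc, D.gg, one_mul]

theorem QQ' (w : E) (h : H) : D.Q w * (D.Q w * h) = h := by
  rw [← mul_assoc, D.QQ, one_mul]

theorem ZZ' (h : H) : D.Z * (D.Z * h) = h := by
  rw [← mul_assoc, D.ZZ, one_mul]

theorem Q_comm' (w x : E) (h : H) : D.Q w * (D.Q x * h) = D.Q x * (D.Q w * h) := by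
  rw [← mul_assoc, D.Q_comm, mul_assoc]

theorem Q4 (w x : E) (h : H) : D.Q w * (D.Q x * (D.Q w * (D.Q x * h))) = h := by
  rw [D.Q_comm' x w, D.QQ', D.QQ']

theorem cjQ_g (v w : E) : cj (D.Q v) (D.g w) = D.g w := cj_of_comm (D.Q_g w v)

theorem cjQ_Z (v : E) : cj (D.Q v) D.Z = D.Z := cj_of_comm (D.Z_Q v).symm

/-- The product `g w * g x * g (w + x) * Z`. -/
def s (w x : E) : H := D.g w * (D.g x * (D.g (w + x) * D.Z))

theorem cjT_s (w x : E) : cj D.T (D.s w x) = D.s w x := by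
  rw [s, cj_mul, cj_mul, cj_mul, D.cjT_g, D.cjT_g, D.cjT_g, D.cjT_Z, D.Q_add]
  simp only [mul_assoc, D.Q_g', D.Q_g, D.Z_g', D.Z_g, D.Z_Q', D.Z_Q]
  rw [D.Q4]

theorem cjQ_s (v w x : E) : cj (D.Q v) (D.s w x) = D.s w x := by
  rw [s, cj_mul, cj_mul, cj_mul, D.cjQ_g, D.cjQ_g, D.cjQ_g, D.cjQ_Z]

theorem symm0 {x y : E} (h : D.β x y = 0) : D.β y x = 0 := by rw [D.symm]; exact h

theorem symm1 {x y : E} (h : D.β x y = 1) : D.β y x = 1 := by rw [D.symm]; exact h

theorem cjb_g0 {x w : E} (h : D.β w x = 0) : cj (D.b x) (D.g w) = D.g w := by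
  rw [D.cjb_g, h, zero_smul, add_zero]

theorem cjb_g1 {x w : E} (h : D.β w x = 1) : cj (D.b x) (D.g w) = D.g (w + x) := by
  rw [D.cjb_g, h, one_smul]

theorem cjb_Q1 {x w : E} (h : D.β w x = 1) : cj (D.b x) (D.Q w) = D.Q (w + x) := by
  rw [D.cjb_Q, h, one_smul]

theorem cjb_Q0 {x w : E} (h : D.β w x = 0) : cj (D.b x) (D.Q w) = D.Q w := by
  rw [D.cjb_Q, h, zero_smul, add_zero]

/-- `g w` and `g x` always commute. -/
theorem gg_comm (w x : E) : D.g w * D.g x = D.g x * D.g w := by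
  rcases z2 (D.β w x) with hwx | hwx
  · exact D.g_comm w x hwx
  have hxw : D.β x w = 1 := D.symm1 hwx
  have fin : D.g w * (D.g x * (D.g w * D.g x)) = 1 → D.g w * D.g x = D.g x * D.g w := by
    intro h
    calc D.g w * D.g x = D.g w * (D.g x * (D.g w * D.g x)) * (D.g x * D.g w) := by
          simp only [mul_assoc, D.gg', D.gg, mul_one]
      _ = _ := by rw [h, one_mul]
  set c := D.g w * (D.g x * (D.g w * D.g x)) with hc
  have hcT : cj D.T c = c := by
    rw [hc, cj_mul, cj_mul, cj_mul, D.cjT_g, D.cjT_g]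
    simp only [mul_assoc, D.Q_g', D.Q_g]
    rw [D.Q_comm' x w, D.QQ', D.QQ, mul_one]
  have hcQ : ∀ v, cj (D.Q v) c = c := by
    intro v
    rw [hc, cj_mul, cj_mul, cj_mul, D.cjQ_g, D.cjQ_g]
  have hci : cj (D.g w) c = c⁻¹ := by
    rw [hc, mul_inv_rev, mul_inv_rev, mul_inv_rev, inv_eq (D.gg w), inv_eq (D.gg x), cj, inv_eq (D.gg w)]
    simp only [mul_assoc, D.gg']
  obtain ⟨y, hy⟩ := D.kl_g hwx (comm_of_cj hcT) (fun v => comm_of_cj (hcQ v)) hci
  have hcc : c * c = 1 := by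
    rcases hy with h | h
    · rw [h]; exact D.QQ y
    · rw [h, mul_assoc, D.Z_Q', D.ZZ, mul_one, D.QQ]
  -- invariance under `b e`
  have hye : ∀ e, D.β e w = 0 → D.β e x = 0 → D.β y e = 0 := by
    intro e h1 h2
    apply D.β_of_cjb
    have h3 : cj (D.b e) c = c := by
      rw [hc, cj_mul, cj_mul, cj_mul, D.cjb_g0 (D.symm0 h1), D.cjb_g0 (D.symm0 h2)]
    rcases hy with h | h
    · rw [h, D.cjb_Q] at h3
      exact h3
    · rw [h, cj_mul, D.cjb_Q, D.cjb_Z] at h3
      exact mul_right_cancel h3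
  obtain ⟨e, f, hew, hex, hfw, hfx, hef⟩ := D.hyp w x
  have hcy : c = D.Q y := by
    refine D.kl_z hef (hye e hew hex) ?_ hy
    rw [hc, cj_mul, cj_mul, cj_mul, D.cjz_g (D.symm0 hew), D.cjz_g (D.symm0 hex)]
    simp only [mul_assoc, D.Q_g', D.QQ', D.Q_g, D.QQ, mul_one]
  -- additivity
  have key : ∀ w x f', D.β w x = 1 → D.β e w = 0 → D.β e x = 0 → D.β x f' = 1 →
      D.g w * (D.g (x + e) * (D.g w * D.g (x + e))) = D.g w * (D.g x * (D.g w * D.g x)) := by
    intro w x f' hwx hew hex hxf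
    have c1 : D.g x * D.g e = D.g e * D.g x := D.g_comm x e (D.symm0 hex)
    have c2 : D.g x * D.g (x + e) = D.g (x + e) * D.g x :=
      D.g_comm x (x + e) (by rw [D.β_add_right, D.alt, D.symm0 hex, add_zero])
    have c3 : D.g w * D.g e = D.g e * D.g w := D.g_comm w e (D.symm0 hew)
    have c4 : D.g e * D.g (x + e) = D.g (x + e) * D.g e :=
      D.g_comm e (x + e) (by rw [D.β_add_right, D.alt, hex, add_zero])
    have hsg : cj (D.g x) (D.s x e) = D.s x e := by
      rw [s, cj_mul, cj_mul, cj_mul, cj_of_comm c1, cj_of_comm c2, D.cjg_Z, cj_of_comm rfl]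
    have hss : D.s x e * D.s x e = 1 := by
      have k1 : Commute (D.g x) (D.g e * (D.g (x + e) * D.Z)) :=
        Commute.mul_right c1 (Commute.mul_right c2 (D.Z_g x).symm)
      have k2 : Commute (D.g e) (D.g (x + e) * D.Z) := Commute.mul_right c4 (D.Z_g e).symm
      have k3 : Commute (D.g (x + e)) D.Z := (D.Z_g (x + e)).symm
      rw [s, k1.symm.mul_mul_mul_comm, D.gg, one_mul, k2.symm.mul_mul_mul_comm, D.gg, one_mul,
        k3.symm.mul_mul_mul_comm, D.gg, one_mul, D.ZZ]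
    obtain ⟨y', hy'⟩ := D.kl_g hxf (comm_of_cj (D.cjT_s x e)) (fun v => comm_of_cj (D.cjQ_s v x e))
      (by rw [hsg, inv_eq hss])
    have hsw : Commute (D.g w) (D.s x e) := by
      rcases hy' with h | h <;> rw [h]
      · exact (D.Q_g w y').symm
      · exact Commute.mul_right (D.Q_g w y').symm (D.Z_g w).symm
    -- `g (x + e) = g x * d`, `d = g e * Z * s`
    have hd : D.g (x + e) = D.g x * (D.g e * (D.s x e * D.Z)) := by
      have h1 : D.g x * (D.g e * (D.s x e * D.Z)) = D.g (x + e) := by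
        rw [s]
        have h2 : D.g e * (D.g x * (D.g e * (D.g (x + e) * D.Z)) * D.Z) = D.g x * D.g (x + e) := by
          calc D.g e * (D.g x * (D.g e * (D.g (x + e) * D.Z)) * D.Z)
              = (D.g e * D.g x) * D.g e * D.g (x + e) * (D.Z * D.Z) := by group
            _ = (D.g x * D.g e) * D.g e * D.g (x + e) * 1 := by rw [c1, D.ZZ]
            _ = D.g x * (D.g e * D.g e) * D.g (x + e) := by group
            _ = D.g x * D.g (x + e) := by rw [D.gg, mul_one]
        rw [h2, D.gg']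
      exact h1.symm
    set d := D.g e * (D.s x e * D.Z) with hdd
    have hdw : Commute d (D.g w) := Commute.mul_left c3.symm (hsw.symm.mul_left (D.Z_g w))
    have hxd : Commute (D.g x) d := by
      have h1 : d = D.g x * D.g (x + e) := by rw [hd, D.gg']
      rw [h1]
      exact Commute.mul_right rfl c2
    have hdd : d * d = 1 := by
      have h1 : D.g (x + e) * D.g (x + e) = 1 := D.gg _
      rw [hd, hxd.symm.mul_mul_mul_comm, D.gg, one_mul] at h1
      exact h1
    rw [hd]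
    calc D.g w * (D.g x * d * (D.g w * (D.g x * d))) = D.g w * D.g x * (d * D.g w) * D.g x * d := by group
      _ = D.g w * D.g x * D.g w * (d * D.g x) * d := by rw [hdw.eq]; group
      _ = D.g w * D.g x * D.g w * D.g x * (d * d) := by rw [← hxd.eq]; group
      _ = _ := by rw [hdd]; group
  -- `y` is orthogonal to `w` and `x`
  have fin2 : ∀ w x, D.β w x = 1 → D.β e w = 0 → D.β e x = 0 →
      D.g w * (D.g x * (D.g w * D.g x)) = D.Q y → (∀ v, D.β v w = 0 → D.β v x = 0 → D.β y v = 0) →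
      D.β y w = 0 := by
    intro w x hwx hew hex hc hye
    have h1 := key w x w hwx hew hex (D.symm1 hwx)
    have h2 : cj (D.b w) (cj (D.b (w + e)) (D.Q y)) = D.Q y := by
      rw [← hc, cj_mul, cj_mul, cj_mul, cj_mul, cj_mul, cj_mul]
      have g1 : cj (D.b w) (cj (D.b (w + e)) (D.g w)) = D.g w := by
        rw [D.cjb_g0 (x := w + e) (by rw [D.β_add_right, D.alt, D.symm0 hew, add_zero]), D.cjb_g0 (D.alt w)]
      have g2 : cj (D.b w) (cj (D.b (w + e)) (D.g x)) = D.g (x + e) := by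
        rw [D.cjb_g1 (x := w + e) (by rw [D.β_add_right, D.symm1 hwx, D.symm0 hex, add_zero]),
          D.cjb_g1 (x := w) (by rw [D.β_add_left, D.β_add_left, D.symm1 hwx, D.alt, hew, add_zero, add_zero])]
        congr 1
        rw [show x + (w + e) + w = x + e + (w + w) by abel, aa, add_zero]
      rw [g1, g2, h1]
    rcases z2 (D.β y w) with h3 | h3
    · exact h3
    · exfalso
      have hye' : D.β y e = 0 := hye e hew hex
      rw [D.cjb_Q1 (x := w + e) (by rw [D.β_add_right, h3, hye', add_zero]),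
        D.cjb_Q1 (x := w) (by rw [D.β_add_left, D.β_add_left, h3, D.alt, hew, add_zero, add_zero]),
        show y + (w + e) + w = y + e + (w + w) by abel, aa, add_zero, D.Q_add] at h2
      exact D.Q_ne hef (mul_eq_left.1 h2)
  have yw := fin2 w x hwx hew hex hcy (fun v => hye v)
  have yx := fin2 x w hxw hex hew (by
    have h1 : D.g x * (D.g w * (D.g x * D.g w)) = c⁻¹ := by
      rw [hc, mul_inv_rev, mul_inv_rev, mul_inv_rev, inv_eq (D.gg w), inv_eq (D.gg x)]
      group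
    rw [h1, inv_eq hcc, hcy]) (fun v h1 h2 => hye v h2 h1)
  apply fin
  rw [hcy, D.Q_one]
  intro v
  have h1 := hye (v + D.β x v • w + D.β w v • x) (by
    rw [D.β_add_left, D.β_add_left, D.β_smul_left, D.β_smul_left, D.alt, hxw, D.symm v w]
    rcases z2 (D.β w v) with h | h <;> rw [h] <;> simp <;> decide) (by
    rw [D.β_add_left, D.β_add_left, D.β_smul_left, D.β_smul_left, D.alt, hwx, D.symm v x]
    rcases z2 (D.β x v) with h | h <;> rw [h] <;> simp <;> decide)
  rw [D.β_add_right, D.β_add_right, map_smul, map_smul, yw, yx, smul_zero, smul_zero, add_zero, add_zero] at h1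
  exact h1

theorem cjg_g (w x : E) : cj (D.g w) (D.g x) = D.g x := cj_of_comm (D.gg_comm w x)

theorem s_sq (w x : E) : D.s w x * D.s w x = 1 := by
  have k1 : Commute (D.g w) (D.g x * (D.g (w + x) * D.Z)) :=
    Commute.mul_right (D.gg_comm w x) (Commute.mul_right (D.gg_comm _ _) (D.Z_g w).symm)
  have k2 : Commute (D.g x) (D.g (w + x) * D.Z) := Commute.mul_right (D.gg_comm _ _) (D.Z_g x).symm
  have k3 : Commute (D.g (w + x)) D.Z := (D.Z_g (w + x)).symm
  rw [s, k1.symm.mul_mul_mul_comm, D.gg, one_mul, k2.symm.mul_mul_mul_comm, D.gg, one_mul,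
    k3.symm.mul_mul_mul_comm, D.gg, one_mul, D.ZZ]

theorem s_comm (w x : E) : D.s w x = D.s x w := by
  rw [s, s, ← mul_assoc, D.gg_comm w x, mul_assoc, add_comm]

theorem s_rot (w x : E) : D.s w (w + x) = D.s w x := by
  rw [s, s, ← add_assoc, aa, zero_add, ← mul_assoc (D.g (w + x)), D.gg_comm (w + x) x, mul_assoc]

/-- The element `s w x` is some `Q y`, `y` orthogonal to `⟨w, x⟩^⊥`. -/
theorem exists_s (w x : E) : ∃ y, D.s w x = D.Q y ∧ ∀ e, D.β e w = 0 → D.β e x = 0 → D.β y e = 0 := by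
  obtain ⟨v, f, hvf⟩ := D.exists_nrad
  obtain ⟨y, hy⟩ := D.kl_g hvf (comm_of_cj (D.cjT_s w x)) (fun u => comm_of_cj (D.cjQ_s u w x)) (by
    rw [inv_eq (D.s_sq w x), s, cj_mul, cj_mul, cj_mul, D.cjg_g, D.cjg_g, D.cjg_g, D.cjg_Z])
  have hye : ∀ e, D.β e w = 0 → D.β e x = 0 → D.β y e = 0 := by
    intro e h1 h2
    apply D.β_of_cjb
    have h3 : cj (D.b e) (D.s w x) = D.s w x := by
      rw [s, cj_mul, cj_mul, cj_mul, D.cjb_g0 (D.symm0 h1), D.cjb_g0 (D.symm0 h2),
        D.cjb_g0 (by rw [D.β_add_left, D.symm0 h1, D.symm0 h2, add_zero]), D.cjb_Z]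
    rcases hy with h | h
    · rw [h, D.cjb_Q] at h3
      exact h3
    · rw [h, cj_mul, D.cjb_Q, D.cjb_Z] at h3
      exact mul_right_cancel h3
  obtain ⟨e, f, hew, hex, hfw, hfx, hef⟩ := D.hyp w x
  refine ⟨y, D.kl_z hef (hye e hew hex) ?_ hy, hye⟩
  rw [s, cj_mul, cj_mul, cj_mul, D.cjz_g (D.symm0 hew), D.cjz_g (D.symm0 hex),
    D.cjz_g (by rw [D.β_add_left, D.symm0 hew, D.symm0 hex, add_zero]), D.cjz_Z]
  simp only [mul_assoc, D.Q_g', D.QQ']

/-- A step of the determination of `s w x`. -/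
theorem s_step {w x y v f : E} (hwx : D.β w x = 0) (hs : D.s w x = D.Q y)
    (hy : ∀ e, D.β e w = 0 → D.β e x = 0 → D.β y e = 0) (hxf : D.β x f = 1) (hvw : D.β v w = 1)
    (hvx : D.β v x = 0) : D.β y v = 0 := by
  have h1 : D.s (w + x) x = D.s w x := by
    rw [D.s_comm (w + x), add_comm w x, D.s_rot, D.s_comm]
  have h2 : cj (D.b v) (cj (D.b (v + x)) (D.Q y)) = D.Q y := by
    rw [← hs, s, cj_mul, cj_mul, cj_mul, cj_mul, cj_mul, cj_mul, D.cjb_Z, D.cjb_Z]
    have g1 : cj (D.b v) (cj (D.b (v + x)) (D.g w)) = D.g (w + x) := by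
      rw [D.cjb_g1 (x := v + x) (by rw [D.β_add_right, D.symm1 hvw, hwx, add_zero]),
        D.cjb_g1 (x := v) (by rw [D.β_add_left, D.β_add_left, D.symm1 hvw, D.alt, D.symm0 hvx, add_zero, add_zero])]
      congr 1
      rw [show w + (v + x) + v = w + x + (v + v) by abel, aa, add_zero]
    have g2 : cj (D.b v) (cj (D.b (v + x)) (D.g x)) = D.g x := by
      rw [D.cjb_g0 (x := v + x) (by rw [D.β_add_right, D.symm0 hvx, D.alt, add_zero]), D.cjb_g0 (D.symm0 hvx)]
    have g3 : cj (D.b v) (cj (D.b (v + x)) (D.g (w + x))) = D.g w := by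
      rw [D.cjb_g1 (x := v + x) (by
          rw [D.β_add_right, D.β_add_left, D.β_add_left, D.symm1 hvw, D.symm0 hvx, hwx, D.alt, add_zero,
            add_zero, add_zero]),
        D.cjb_g1 (x := v) (by
          rw [D.β_add_left, D.β_add_left, D.β_add_left, D.symm1 hvw, D.symm0 hvx, D.alt, add_zero,
            add_zero, add_zero])]
      congr 1
      rw [show w + x + (v + x) + v = w + (x + x) + (v + v) by abel, aa, aa, add_zero, add_zero]
    rw [g1, g2, g3]
    rw [s, s, add_assoc, aa, add_zero] at h1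
    exact h1
  have hyx : D.β y x = 0 := hy x (D.symm0 hwx) (D.alt x)
  rcases z2 (D.β y v) with h3 | h3
  · exact h3
  · exfalso
    rw [D.cjb_Q1 (x := v + x) (by rw [D.β_add_right, h3, hyx, add_zero]),
      D.cjb_Q1 (x := v) (by rw [D.β_add_left, D.β_add_left, h3, D.alt, D.symm0 hvx, add_zero, add_zero]),
      show y + (v + x) + v = y + x + (v + v) by abel, aa, add_zero, D.Q_add] at h2
    exact D.Q_ne hxf (mul_eq_left.1 h2)

theorem g_of_rad {x : E} (hx : ∀ y, D.β x y = 0) : D.g x = D.Z := by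
  have h := D.g_rad 0 x hx
  rw [zero_add, D.g_zero] at h
  exact h

theorem s_one_of_rad {w x : E} (hx : ∀ y, D.β x y = 0) : D.s w x = 1 := by
  rw [s, D.g_rad w x hx, D.g_of_rad hx, D.Z_g', D.gg', D.ZZ]

theorem exists_of_nrad {x : E} (hx : ¬ ∀ y, D.β x y = 0) : ∃ f, D.β x f = 1 := by
  push Not at hx
  obtain ⟨f, hf⟩ := hx
  rcases z2 (D.β x f) with h | h
  · exact absurd h hf
  · exact ⟨f, h⟩

/-- The hats are additive. -/
theorem s_one (w x : E) : D.s w x = 1 := by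
  by_cases rx : ∀ y, D.β x y = 0
  · exact D.s_one_of_rad rx
  by_cases rw' : ∀ y, D.β w y = 0
  · rw [D.s_comm]; exact D.s_one_of_rad rw'
  by_cases rwx : ∀ y, D.β (w + x) y = 0
  · rw [← D.s_rot]; exact D.s_one_of_rad rwx
  obtain ⟨fx, hfx⟩ := D.exists_of_nrad rx
  obtain ⟨fw, hfw⟩ := D.exists_of_nrad rw'
  obtain ⟨fwx, hfwx⟩ := D.exists_of_nrad rwx
  obtain ⟨y, hs, hy⟩ := D.exists_s w x
  rw [hs, D.Q_one]
  rcases z2 (D.β w x) with hwx | hwx
  · intro v
    rcases z2 (D.β v w) with hv | hv <;> rcases z2 (D.β v x) with hv' | hv'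
    · exact hy v hv hv'
    · exact D.s_step (D.symm0 hwx) (by rw [D.s_comm]; exact hs) (fun e h1 h2 => hy e h2 h1) hfw hv' hv
    · exact D.s_step hwx hs hy hfx hv hv'
    · refine D.s_step (w := w) (x := w + x) (f := fwx) (by rw [D.β_add_right, D.alt, hwx, add_zero])
        (by rw [D.s_rot]; exact hs) (fun e h1 h2 => hy e h1 ?_) hfwx hv ?_
      · rw [D.β_add_right, h1, zero_add] at h2
        exact h2
      · rw [D.β_add_right, hv, hv']; decide
  · have step : ∀ w x, D.β w x = 1 → D.s w x = D.Q y → D.β y x = 0 := by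
      intro w x hwx hs
      apply D.β_of_cjb
      have h3 : cj (D.b x) (D.s w x) = D.s w x := by
        conv_lhs => rw [s]
        rw [cj_mul, cj_mul, cj_mul, D.cjb_g1 hwx, D.cjb_g0 (D.alt x), D.cjb_Z,
          D.cjb_g1 (x := x) (by rw [D.β_add_left, D.alt, hwx, add_zero]), add_assoc, aa, add_zero]
        have h1 : D.s (w + x) x = D.s w x := by
          rw [D.s_comm (w + x), add_comm w x, D.s_rot, D.s_comm]
        rw [← h1, s, add_assoc, aa, add_zero]
      rw [hs, D.cjb_Q] at h3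
      exact h3
    have yx := step w x hwx hs
    have yw := step x w (D.symm1 hwx) (by rw [D.s_comm]; exact hs)
    intro v
    have h1 := hy (v + D.β x v • w + D.β w v • x) (by
      rw [D.β_add_left, D.β_add_left, D.β_smul_left, D.β_smul_left, D.alt, D.symm1 hwx, D.symm v w]
      rcases z2 (D.β w v) with h | h <;> rw [h] <;> simp; decide) (by
      rw [D.β_add_left, D.β_add_left, D.β_smul_left, D.β_smul_left, D.alt, hwx, D.symm v x]
      rcases z2 (D.β x v) with h | h <;> rw [h] <;> simp; decide)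
    rw [D.β_add_right, D.β_add_right, map_smul, map_smul, yw, yx, smul_zero, smul_zero, add_zero, add_zero] at h1
    exact h1

/-- The hats. -/
def γ (w : E) : H := D.g w * D.Z

theorem γ_add (w x : E) : D.γ (w + x) = D.γ w * D.γ x := by
  have h := D.s_one w x
  rw [s] at h
  have h1 : D.g (w + x) = D.g w * (D.g x * D.Z) := by
    have h2 : D.g (w + x) * (D.g w * (D.g x * (D.g (w + x) * D.Z))) * D.Z = D.g (w + x) * D.Z := by
      rw [h, mul_one]
    have h3 : D.g (w + x) * (D.g w * (D.g x * (D.g (w + x) * D.Z))) * D.Z = D.g w * D.g x := by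
      calc D.g (w + x) * (D.g w * (D.g x * (D.g (w + x) * D.Z))) * D.Z
          = (D.g (w + x) * D.g w) * (D.g x * D.g (w + x)) * (D.Z * D.Z) := by group
        _ = (D.g w * D.g (w + x)) * (D.g (w + x) * D.g x) := by
          rw [D.gg_comm (w + x) w, D.gg_comm x (w + x), D.ZZ, mul_one]
        _ = D.g w * (D.g (w + x) * D.g (w + x)) * D.g x := by group
        _ = D.g w * D.g x := by rw [D.gg, mul_one]
    rw [h3] at h2
    calc D.g (w + x) = D.g (w + x) * D.Z * D.Z := by rw [mul_assoc, D.ZZ, mul_one]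
      _ = D.g w * D.g x * D.Z := by rw [h2]
      _ = _ := by group
  rw [γ, γ, γ, h1]
  calc D.g w * (D.g x * D.Z) * D.Z = D.g w * D.g x * (D.Z * D.Z) := by group
    _ = D.g w * (D.Z * D.Z) * D.g x := by rw [D.ZZ, mul_one, mul_one]
    _ = D.g w * D.Z * (D.Z * D.g x) := by group
    _ = _ := by rw [D.Z_g]

end HData

end Cfsg.Agent.OddHalf.SpTwoN
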