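import Cfsg.Agent.OddHalf.SpTwoN.COAbs

/-!
# The case (C, O): the element `p`
-/

set_option autoImplicit false

namespace Cfsg.Agent.OddHalf.SpTwoN

open Cfsg.Agent.StandardComponent.SpTwo

namespace HData

variable {H E : Type*} [Group H] [AddCommGroup E] [Module (ZMod 2) E] (D : HData H E)

theorem γγ (w : E) : D.γ w * D.γ w = 1 := by
  rw [γ]
  calc D.g w * D.Z * (D.g w * D.Z) = D.g w * (D.Z * D.g w) * D.Z := by group
    _ = (D.g w * D.g w) * (D.Z * D.Z) := by rw [D.Z_g]; group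
    _ = 1 := by rw [D.gg, D.ZZ, one_mul]

theorem γ_zero : D.γ 0 = 1 := by rw [γ, D.g_zero, D.ZZ]

theorem γ_comm (w x : E) : D.γ w * D.γ x = D.γ x * D.γ w := by
  rw [← D.γ_add, add_comm, D.γ_add]

theorem γ_Q (w x : E) : D.γ w * D.Q x = D.Q x * D.γ w := by
  rw [γ, mul_assoc, D.Z_Q, ← mul_assoc, ← D.Q_g, mul_assoc]

theorem γ_Z (w : E) : D.γ w * D.Z = D.Z * D.γ w := by
  rw [γ, ← mul_assoc, D.Z_g]

theorem γ_g (w x : E) : D.γ w * D.g x = D.g x * D.γ w := by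
  rw [γ, mul_assoc, D.Z_g, ← mul_assoc, D.gg_comm, mul_assoc]

theorem g_eq (w : E) : D.g w = D.γ w * D.Z := by rw [γ, mul_assoc, D.ZZ, mul_one]

theorem cjγ_γ (w x : E) : cj (D.γ w) (D.γ x) = D.γ x := cj_of_comm (D.γ_comm w x)

theorem cjγ_Q (w x : E) : cj (D.γ w) (D.Q x) = D.Q x := cj_of_comm (D.γ_Q w x)

theorem cjγ_Z (w : E) : cj (D.γ w) D.Z = D.Z := cj_of_comm (D.γ_Z w)

theorem cjQ_γ (w x : E) : cj (D.Q w) (D.γ x) = D.γ x := cj_of_comm (D.γ_Q x w).symm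

theorem cjZ_γ (x : E) : cj D.Z (D.γ x) = D.γ x := cj_of_comm (D.γ_Z x).symm

theorem cjγ_T (w : E) : cj (D.γ w) D.T = D.T * D.Q w := by
  rw [γ, cj_cj, cj_of_comm D.Z_T, D.cjg_T]

theorem cjT_γ (w : E) : cj D.T (D.γ w) = D.γ w * D.Q w := by
  rw [γ, cj_mul, D.cjT_g, D.cjT_Z, mul_assoc, mul_assoc, D.Z_Q]

theorem cjb_γ0 {x w : E} (h : D.β w x = 0) : cj (D.b x) (D.γ w) = D.γ w := by
  rw [γ, cj_mul, D.cjb_g0 h, D.cjb_Z]

theorem cjb_γ1 {x w : E} (h : D.β w x = 1) : cj (D.b x) (D.γ w) = D.γ (w + x) := by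
  rw [γ, cj_mul, D.cjb_g1 h, D.cjb_Z]; rfl

theorem cjz_γ {x w : E} (h : D.β w x = 0) : cj (D.z x) (D.γ w) = D.γ w := by
  rw [γ, cj_mul, D.cjz_g h, D.cjz_Z, mul_assoc, D.QQ']

theorem cjz_Q1 {x w : E} (h : D.β x w = 1) : cj (D.z x) (D.Q w) = D.g x * (D.Q x * D.Q w) := by
  have h1 := D.z_Q1 x w (D.symm1 h)
  -- `Q w = z (g x Q w) z⁻¹`
  have h2 : cj (D.z x) (D.g x * D.Q w) = D.Q w := by
    apply cj_eq
    calc D.z x * (D.g x * D.Q w) = D.z x * D.g x * D.Q w := by group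
      _ = D.Q w * D.z x * D.Q w * D.Q w := by rw [h1]
      _ = D.Q w * D.z x := by rw [mul_assoc, D.QQ, mul_one]
  rw [cj_mul, D.cjz_g (D.alt x)] at h2
  calc cj (D.z x) (D.Q w) = (D.g x * D.Q x) * (D.g x * D.Q x * cj (D.z x) (D.Q w)) := by
        have : (D.g x * D.Q x) * (D.g x * D.Q x) = 1 := by
          rw [mul_assoc, D.Q_g', D.QQ, mul_one, D.gg]
        rw [← mul_assoc, this, one_mul]
    _ = D.g x * D.Q x * D.Q w := by rw [h2]
    _ = _ := by group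

/-- The commutator of `z x` and `γ w`. -/
def P (x w : E) : H := cj (D.z x) (D.γ w) * D.γ w

theorem cjz_γ1 (x w : E) : cj (D.z x) (D.γ w) = D.P x w * D.γ w := by
  rw [P, mul_assoc, D.γγ, mul_one]

theorem γ_z {x y : E} (h : D.β y x = 0) : D.γ y * D.z x = D.z x * D.γ y :=
  (comm_of_cj (D.cjz_γ h)).symm

/-- `P` commutes with `γ y`, `y ⊥ x`. -/
theorem cjγ_P {x y : E} (w : E) (h : D.β y x = 0) : cj (D.γ y) (D.P x w) = D.P x w := by
  rw [P, cj_mul, D.cjγ_γ, ← cj_cj, D.γ_z h, cj_cj, D.cjγ_γ]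

theorem P_add {x y : E} (w : E) (h : D.β y x = 0) : D.P x (w + y) = D.P x w := by
  rw [P, D.γ_add, cj_mul, D.cjz_γ h, P]
  calc cj (D.z x) (D.γ w) * D.γ y * (D.γ w * D.γ y) = cj (D.z x) (D.γ w) * (D.γ y * D.γ w) * D.γ y := by group
    _ = cj (D.z x) (D.γ w) * D.γ w * (D.γ y * D.γ y) := by rw [D.γ_comm y w]; group
    _ = _ := by rw [D.γγ, mul_one]

/-- `P x w` depends only on `x`. -/
theorem P_eq {x w w' : E} (h : D.β x w = 1) (h' : D.β x w' = 1) : D.P x w' = D.P x w := by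
  have h1 := D.P_add (x := x) (y := w + w') w (by
    rw [D.β_add_left, D.symm1 h, D.symm1 h']; decide)
  rw [← add_assoc, aa, zero_add] at h1
  exact h1

theorem cjγ_P1 (x w : E) : cj (D.γ w) (D.P x w) = (D.P x w)⁻¹ := by
  have h1 : cj (D.z x) (D.γ w) * cj (D.z x) (D.γ w) = 1 := by
    rw [← cj_mul, D.γγ, cj]; group
  rw [P, mul_inv_rev, inv_eq (D.γγ w), inv_eq h1, cj, inv_eq (D.γγ w)]
  calc D.γ w * (cj (D.z x) (D.γ w) * D.γ w) * D.γ w = D.γ w * cj (D.z x) (D.γ w) * (D.γ w * D.γ w) := by group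
    _ = _ := by rw [D.γγ, mul_one]

/-- `P` commutes with the `Q y`. -/
theorem cjQ_P (x w y : E) : cj (D.Q y) (D.P x w) = D.P x w := by
  rw [P, cj_mul, D.cjQ_γ]
  congr 1
  rcases z2 (D.β x y) with h | h
  · have h1 : D.Q y * D.z x = D.z x * D.Q y := (D.z_Q x y (D.symm0 h)).symm
    rw [← cj_cj, h1, cj_cj, D.cjQ_γ]
  · have h1 : D.Q y * D.z x = D.z x * (D.g x * D.Q y) := by
      have := D.z_Q1 x y (D.symm1 h)
      calc D.Q y * D.z x = D.Q y * D.z x * D.Q y * D.Q y := by rw [mul_assoc (D.Q y * D.z x), D.QQ, mul_one]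
        _ = _ := by rw [this]; group
    rw [← cj_cj, h1, cj_cj, cj_cj, D.cjQ_γ, cj_of_comm (D.γ_g w x).symm]

/-- `P` commutes with `Z`. -/
theorem cjZ_P (x w : E) : cj D.Z (D.P x w) = D.P x w := by
  have h0 : D.Z * D.z x = D.Q x * (D.z x * D.Z) := by
    rw [D.z_Z, ← mul_assoc, ← mul_assoc, D.QQ, one_mul]
  have h1 := D.cjQ_P x w x
  rw [P, cj_mul, D.cjQ_γ] at h1
  have h2 := mul_right_cancel h1
  rw [P, cj_mul, D.cjZ_γ, ← cj_cj, h0, cj_cj, cj_cj, D.cjZ_γ, h2]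

/-- `z x P (z x)⁻¹ = γ x P⁻¹`. -/
theorem cjz_P {x w : E} (h : D.β x w = 1) : cj (D.z x) (D.P x w) = D.γ x * (D.P x w)⁻¹ := by
  have h1 : cj (D.z x) (cj (D.z x) (D.γ w)) = D.γ w * D.γ x := by
    rw [← cj_cj, ← b, D.cjb_γ1 (D.symm1 h), D.γ_add]
  have h2 := D.cjγ_P1 x w
  rw [cj, inv_eq (D.γγ w)] at h2
  nth_rewrite 1 [P]
  rw [cj_mul, h1, D.cjz_γ1, D.γ_comm w x, ← h2]
  group

theorem cjg_P1 (x w : E) : cj (D.g w) (D.P x w) = (D.P x w)⁻¹ := by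
  rw [g_eq, cj_cj, D.cjZ_P, D.cjγ_P1]

/-- `T P T = P Z`. -/
theorem cjT_P {x w : E} (h : D.β x w = 1) : cj D.T (D.P x w) = D.P x w * D.Z := by
  have hTi : D.T⁻¹ = D.T := inv_eq D.TT
  have h0 : D.T * D.z x = (D.z x)⁻¹ * D.T := by
    calc D.T * D.z x = D.T * D.z x * (D.T * D.T) := by rw [D.TT, mul_one]
      _ = (D.T * D.z x * D.T) * D.T := by group
      _ = _ := by rw [D.z_T]
  have h1 : cj (D.z x) (D.γ x * (D.P x w * D.γ w)) = D.γ w := by
    rw [cj_mul, cj_mul, D.cjz_γ (D.alt x), D.cjz_P h, D.cjz_γ1]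
    calc D.γ x * (D.γ x * (D.P x w)⁻¹ * (D.P x w * D.γ w)) = (D.γ x * D.γ x) * D.γ w := by group
      _ = _ := by rw [D.γγ, one_mul]
  have h2 : cj (D.z x)⁻¹ (D.γ w) = D.γ x * (D.P x w * D.γ w) := by
    nth_rewrite 1 [← h1]
    rw [← cj_cj, inv_mul_cancel, cj]; group
  have h3 : cj (D.z x)⁻¹ (D.Q w) = D.g x * D.Q w := by
    have := D.z_Q1 x w (D.symm1 h)
    rw [cj, inv_inv]
    calc (D.z x)⁻¹ * D.Q w * D.z x = (D.z x)⁻¹ * D.Q w * D.z x * (D.Q w * D.Q w) := by rw [D.QQ, mul_one]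
      _ = (D.z x)⁻¹ * (D.Q w * D.z x * D.Q w) * D.Q w := by group
      _ = D.g x * D.Q w := by rw [this]; group
  have h4 : D.γ x * D.P x w = D.P x w * D.γ x := comm_of_cj (D.cjγ_P w (D.alt x))
  nth_rewrite 1 [P]
  rw [cj_mul, ← cj_cj, h0, cj_cj, D.cjT_γ, cj_mul, h2, h3]
  calc D.γ x * (D.P x w * D.γ w) * (D.g x * D.Q w) * (D.γ w * D.Q w)
      = D.γ x * D.P x w * D.γ w * D.g x * (D.Q w * D.γ w) * D.Q w := by group
    _ = D.γ x * D.P x w * (D.γ w * D.g x) * D.γ w * (D.Q w * D.Q w) := by rw [← D.γ_Q]; group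
    _ = D.γ x * D.P x w * D.g x * (D.γ w * D.γ w) := by rw [D.γ_g, D.QQ]; group
    _ = D.P x w * (D.γ x * D.g x) := by rw [D.γγ, h4]; group
    _ = _ := by
      rw [γ]
      congr 1
      calc D.g x * D.Z * D.g x = D.g x * (D.Z * D.g x) := by group
        _ = (D.g x * D.g x) * D.Z := by rw [D.Z_g]; group
        _ = D.Z := by rw [D.gg, one_mul]

theorem Z_P (x w : E) : D.Z * D.P x w = D.P x w * D.Z := comm_of_cj (D.cjZ_P x w)

theorem Q_P (x w y : E) : D.Q y * D.P x w = D.P x w * D.Q y := comm_of_cj (D.cjQ_P x w y)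

theorem TT' (h : H) : D.T * (D.T * h) = h := by rw [← mul_assoc, D.TT, one_mul]

/-- `P² = 1`. -/
theorem PP {x w : E} (h : D.β x w = 1) : D.P x w * D.P x w = 1 := by
  obtain ⟨e, f, hex, hew, hfx, hfw, hef⟩ := D.hyp x w
  set A := D.P e f with hA
  set B := D.P x w with hB
  set R := A * B⁻¹ with hR
  have ZB : D.Z * B = B * D.Z := D.Z_P x w
  have RT : cj D.T R = R := by
    rw [hR, cj_mul, cj_inv, hA, hB, D.cjT_P hef, D.cjT_P h, ← hA, ← hB, ← ZB, mul_inv_rev, inv_eq D.ZZ]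
    calc A * D.Z * (B⁻¹ * D.Z) = A * (D.Z * B⁻¹) * D.Z := by group
      _ = A * (B⁻¹ * D.Z) * D.Z := by
        have : D.Z * B⁻¹ = B⁻¹ * D.Z := by
          have := congrArg (fun g => B⁻¹ * g * B⁻¹) ZB
          simp only [mul_assoc, mul_inv_cancel, mul_one, inv_mul_cancel_left] at this
          exact this.symm
        rw [this]
      _ = A * B⁻¹ * (D.Z * D.Z) := by group
      _ = _ := by rw [D.ZZ, mul_one]
  have RQ : ∀ v, cj (D.Q v) R = R := by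
    intro v
    rw [hR, cj_mul, cj_inv, hA, hB, D.cjQ_P, D.cjQ_P]
  have Rγ : cj (D.γ w) R = A * B := by
    rw [hR, cj_mul, cj_inv, hA, hB, D.cjγ_P f (D.symm0 hew), D.cjγ_P1, inv_inv]
  have BB : B * B = R⁻¹ * cj (D.γ w) R := by
    rw [Rγ, hR]; group
  rw [BB]
  have hgoal : D.Q w ≠ B * B := by
    intro hQ
    have h1 : cj (D.z x) (B * B) = B * B := by
      rw [cj_mul, hB, D.cjz_P h, ← hB]
      have h4 : D.γ x * B = B * D.γ x := comm_of_cj (D.cjγ_P w (D.alt x))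
      have h5 : B⁻¹ * D.γ x = D.γ x * B⁻¹ := by
        rw [inv_mul_eq_iff_eq_mul, ← mul_assoc, ← h4, mul_inv_cancel_right]
      calc D.γ x * B⁻¹ * (D.γ x * B⁻¹) = D.γ x * (B⁻¹ * D.γ x) * B⁻¹ := by group
        _ = (D.γ x * D.γ x) * (B * B)⁻¹ := by rw [h5]; group
        _ = B * B := by rw [D.γγ, one_mul, ← hQ, inv_eq (D.QQ w)]
    rw [← hQ, D.cjz_Q1 h] at h1
    have h2 : D.g x * D.Q x = 1 := by
      have : D.g x * D.Q x * D.Q w = 1 * D.Q w := by rw [mul_assoc, h1, one_mul]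
      exact mul_right_cancel this
    have h3 := congrArg (cj D.T) h2
    rw [cj_mul, D.cjT_g, D.cjT_Q, h2, one_mul] at h3
    apply D.Q_ne h
    rw [h3, cj]; group
  obtain ⟨y, h1 | h1 | h1 | h1⟩ := D.kl R (comm_of_cj RT) (fun v => comm_of_cj (RQ v))
  · rw [h1, D.cjγ_Q, inv_mul_cancel]
  · rw [h1, cj_mul, D.cjγ_Q, D.cjγ_Z, inv_mul_cancel]
  · exfalso
    apply hgoal
    rw [BB, h1, cj_mul, D.cjγ_Q, D.cjγ_T, mul_inv_rev, inv_eq D.TT, inv_eq (D.QQ y)]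
    calc D.Q w = D.Q y * (D.T * D.T) * (D.Q w * D.Q y) := by
          rw [D.TT, mul_one, D.Q_comm w y, ← mul_assoc, D.QQ, one_mul]
      _ = _ := by group
  · exfalso
    apply hgoal
    rw [BB, h1, cj_mul, cj_mul, D.cjγ_Q, D.cjγ_T, D.cjγ_Z, mul_inv_rev, mul_inv_rev, inv_eq D.TT,
      inv_eq (D.QQ y), inv_eq D.ZZ]
    simp only [mul_assoc]
    rw [D.TT', D.Q_comm' w y, D.QQ', D.Z_Q', D.ZZ, mul_one]

theorem P_inv {x w : E} (h : D.β x w = 1) : (D.P x w)⁻¹ = D.P x w := inv_eq (D.PP h)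

/-- `γ v` commutes with `P`. -/
theorem cjγ_P' {x w : E} (v : E) (h : D.β x w = 1) : cj (D.γ v) (D.P x w) = D.P x w := by
  rcases z2 (D.β v x) with hv | hv
  · exact D.cjγ_P w hv
  · rw [D.P_eq (w := v) (w' := w) (D.symm1 hv) h, D.cjγ_P1, D.P_inv (D.symm1 hv)]

theorem cjg_P {x w : E} (v : E) (h : D.β x w = 1) : cj (D.g v) (D.P x w) = D.P x w := by
  rw [g_eq, cj_cj, D.cjZ_P, D.cjγ_P' v h]

theorem cjz_P' {x w : E} (h : D.β x w = 1) : cj (D.z x) (D.P x w) = D.P x w * D.γ x := by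
  rw [D.cjz_P h, D.P_inv h]
  exact comm_of_cj (D.cjγ_P' x h)

theorem b_z_comm {e x : E} (h : D.β x e = 0) : cj (D.b e) (D.z x) = D.z x := by
  rw [D.cjb_z, h, zero_smul, add_zero]

/-- Action of `b e` on `P`. -/
theorem cjb_P (e x w : E) : cj (D.b e) (D.P x w) = D.P (x + D.β x e • e) (w + D.β w e • e) := by
  have h1 : ∀ v, cj (D.b e) (D.γ v) = D.γ (v + D.β v e • e) := by
    intro v
    rcases z2 (D.β v e) with h | h <;> rw [h]
    · rw [zero_smul, add_zero, D.cjb_γ0 h]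
    · rw [one_smul, D.cjb_γ1 h]
  have h3 : D.b e * D.z x = D.z (x + D.β x e • e) * D.b e := D.b_z e x
  rw [P, cj_mul, ← cj_cj, h3, cj_cj, h1]
  rfl

theorem cjb_P0 {e x w : E} (_h : D.β x w = 1) (he : D.β x e = 0) : cj (D.b e) (D.P x w) = D.P x w := by
  rw [D.cjb_P, he, zero_smul, add_zero]
  rcases z2 (D.β w e) with h1 | h1 <;> rw [h1]
  · rw [zero_smul, add_zero]
  · rw [one_smul, D.P_add w (D.symm0 he)]

theorem cjb_P1 {e x w : E} (h : D.β x w = 1) (he : D.β x e = 1) : cj (D.b e) (D.P x w) = D.P (x + e) x := by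
  rw [D.cjb_P, he, one_smul]
  apply D.P_eq
  · rw [D.β_add_left, D.alt, D.symm1 he, zero_add]
  · rw [D.β_add_left, D.β_add_right, D.β_add_right, map_smul, map_smul, h, he, D.alt, smul_zero, D.symm w e]
    rcases z2 (D.β e w) with h1 | h1 <;> rw [h1] <;> simp; decide

/-- `z y P (z y)⁻¹ = P γ y`, `y ⊥ x, w`. -/
theorem cjz_P0 {x w y : E} (h : D.β x w = 1) (hx : D.β y x = 0) (hw : D.β y w = 0) :
    cj (D.z y) (D.P x w) = D.P x w * D.γ y := by
  have h0 : D.z y * D.z x = D.b y * D.b x * D.b (y + x) * (D.z x * D.z y) := D.z_z y x hx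
  have h1 : D.β w x = 1 := D.symm1 h
  have h2 : D.β w (y + x) = 1 := by rw [D.β_add_right, D.symm0 hw, h1, zero_add]
  have hPy : cj (D.γ y) (D.P x w) = D.P x w := D.cjγ_P' y h
  have h3 : cj (D.b y * D.b x * D.b (y + x)) (D.P x w) = D.P x w := by
    rw [cj_cj, cj_cj, D.cjb_P0 h (by rw [D.β_add_right, D.symm0 hx, D.alt, add_zero]), D.cjb_P0 h (D.alt x),
      D.cjb_P0 h (D.symm0 hx)]
  have h4 : cj (D.b y * D.b x * D.b (y + x)) (D.γ w) = D.γ w * D.γ y := by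
    rw [cj_cj, cj_cj, D.cjb_γ1 h2, D.cjb_γ1 (by
        rw [D.β_add_left, D.β_add_left, h1, hx, D.alt, add_zero, add_zero]),
      D.cjb_γ0 (by rw [D.β_add_left, D.β_add_left, D.β_add_left, D.symm0 hw, D.alt, D.symm0 hx, add_zero,
        add_zero, add_zero]), ← D.γ_add]
    congr 1
    rw [show w + (y + x) + x = w + y + (x + x) by abel, aa, add_zero]
  have h5 : cj (D.z y) (cj (D.z x) (D.γ w)) = D.P x w * (D.γ w * D.γ y) := by
    rw [← cj_cj, h0, cj_cj (D.b y * D.b x * D.b (y + x)), cj_cj (D.z x), D.cjz_γ (D.symm0 hw), D.cjz_γ1,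
      cj_mul, h3, h4]
  have h6 : D.γ y * D.γ w = D.γ w * D.γ y := D.γ_comm y w
  nth_rewrite 1 [P]
  rw [cj_mul, h5, D.cjz_γ (D.symm0 hw)]
  calc D.P x w * (D.γ w * D.γ y) * D.γ w = D.P x w * (D.γ w * (D.γ y * D.γ w)) := by group
    _ = D.P x w * ((D.γ w * D.γ w) * D.γ y) := by rw [h6]; group
    _ = _ := by rw [D.γγ, one_mul]

/-- An element commuting with `T`, `Q` and `g v` (`v` not in the radical) has no `T`-part. -/
theorem kl_c {h : H} {v f : E} (hv : D.β v f = 1) (hT : cj D.T h = h) (hQ : ∀ w, cj (D.Q w) h = h)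
    (hg : cj (D.g v) h = h) : ∃ y, h = D.Q y ∨ h = D.Q y * D.Z := by
  obtain ⟨y, h1 | h1 | h1 | h1⟩ := D.kl h (comm_of_cj hT) (fun w => comm_of_cj (hQ w))
  · exact ⟨y, Or.inl h1⟩
  · exact ⟨y, Or.inr h1⟩
  · exfalso
    rw [h1, cj_mul, D.cjg_T, D.cjg_Q, mul_assoc] at hg
    exact D.Q_ne hv (mul_eq_right.1 (mul_left_cancel hg))
  · exfalso
    rw [h1, cj_mul, cj_mul, D.cjg_T, D.cjg_Q, D.cjg_Z, mul_assoc] at hg
    exact D.Q_ne hv (mul_eq_right.1 (mul_left_cancel hg))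

/-- The product of `P x`, `P x'`, `x ⊥ x'`. -/
theorem P_P {x w x' w' : E} (h : D.β x w = 1) (h' : D.β x' w' = 1) (hx : D.β x x' = 0) (hxw : D.β x w' = 0) :
    ∃ y, D.P x w * D.P x' w' = D.Q y ∧ ∀ e, D.β x e = 0 → D.β x' e = 0 → D.β y e = 0 := by
  set A := D.P x w with hA
  set B := D.P x' w' with hB
  obtain ⟨v, f, hvf⟩ := D.exists_nrad
  have hPz : ∀ y, (A * B = D.Q y ∨ A * B = D.Q y * D.Z) → ∀ e, D.β x e = 0 → D.β x' e = 0 → D.β y e = 0 := by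
    intro y hy e h1 h2
    apply D.β_of_cjb
    have h3 : cj (D.b e) (A * B) = A * B := by
      rw [cj_mul, hA, hB, D.cjb_P0 h h1, D.cjb_P0 h' h2]
    rcases hy with h | h
    · rw [h, D.cjb_Q] at h3
      exact h3
    · rw [h, cj_mul, D.cjb_Q, D.cjb_Z] at h3
      exact mul_right_cancel h3
  have ZB : D.Z * B = B * D.Z := D.Z_P x' w'
  obtain ⟨y, hy⟩ := D.kl_c (h := A * B) hvf (by
      rw [cj_mul, hA, hB, D.cjT_P h, D.cjT_P h', ← hA, ← hB]
      calc A * D.Z * (B * D.Z) = A * (D.Z * B) * D.Z := by group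
        _ = A * B * (D.Z * D.Z) := by rw [ZB]; group
        _ = _ := by rw [D.ZZ, mul_one])
    (fun u => by rw [cj_mul, hA, hB, D.cjQ_P, D.cjQ_P])
    (by rw [cj_mul, hA, hB, D.cjg_P v h, D.cjg_P v h'])
  have hye := hPz y hy
  refine ⟨y, D.kl_z h (hye x (D.alt x) (D.symm0 hx)) ?_ hy, hye⟩
  have h4 : D.γ x * B = B * D.γ x := comm_of_cj (D.cjγ_P' x h')
  rw [cj_mul, hA, hB, D.cjz_P' h, D.cjz_P0 h' hx hxw, ← hA, ← hB]
  calc A * D.γ x * (B * D.γ x) = A * (D.γ x * B) * D.γ x := by group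
    _ = A * B * (D.γ x * D.γ x) := by rw [h4]; group
    _ = _ := by rw [D.γγ, mul_one]

/-- Hyperbolic pairs. -/
theorem P_hyp {x x₁ x₂ : E} (h1 : D.β x x₁ = 1) (h2 : D.β x x₂ = 1) : ∃ a : ZMod 2,
    D.P x x₁ * D.P x₁ x = D.Q (a • (x + x₁)) ∧ D.P x x₂ * D.P x₂ x = D.Q (a • (x + x₂)) := by
  obtain ⟨e, hex, he1, he2, hen⟩ := D.three x x₁ x₂
  obtain ⟨f, hf⟩ := D.exists_of_nrad hen
  -- a vector `w'` with `β e w' = 1`, `β x w' = 0`
  set w' := f + D.β x f • x₁ with hw'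
  have hew : D.β e w' = 1 := by
    rw [hw', D.β_add_right, map_smul, he1, smul_zero, add_zero, hf]
  have hxw : D.β x w' = 0 := by
    rw [hw', D.β_add_right, map_smul, h1, smul_eq_mul, mul_one]
    rcases z2 (D.β x f) with h | h <;> rw [h] <;> decide
  obtain ⟨y, hy, hye⟩ := D.P_P h1 hew (D.symm0 hex) hxw
  have hyx : D.β y x = 0 := hye x (D.alt x) hex
  -- `a = β y x₁`
  have key : ∀ x₃, D.β x x₃ = 1 → D.β e x₃ = 0 → D.P x x₃ * D.P x₃ x = D.Q (D.β y x₃ • (x + x₃)) := by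
    intro x₃ h3 he3
    have g1 : D.P x x₃ * D.P e w' = D.Q y := by
      rw [D.P_eq h1 h3, hy]
    have hb : D.β x (x + x₃) = 1 := by rw [D.β_add_right, D.alt, h3, zero_add]
    have hbe : D.β e (x + x₃) = 0 := by rw [D.β_add_right, hex, he3, zero_add]
    have g2 := congrArg (cj (D.b (x + x₃))) g1
    rw [cj_mul, D.cjb_P1 h3 hb, D.cjb_P0 hew hbe, ← add_assoc, aa, zero_add, D.cjb_Q,
      D.β_add_right, hyx, zero_add] at g2
    have g3 : D.P x₃ x * D.P e w' * (D.P x x₃ * D.P e w')⁻¹ = D.P x₃ x * D.P x x₃ := by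
      rw [mul_inv_rev, D.P_inv h3]
      group
    have g4 : D.P x₃ x * D.P x x₃ = D.Q (D.β y x₃ • (x + x₃)) := by
      rw [← g3, g2, g1, D.Q_add, inv_eq (D.QQ y), mul_assoc, D.Q_comm _ y, ← mul_assoc, D.QQ, one_mul]
    have g5 := congrArg (fun g => g⁻¹) g4
    simp only [mul_inv_rev] at g5
    rw [D.P_inv h3, D.P_inv (D.symm1 h3), inv_eq (D.QQ _)] at g5
    exact g5
  refine ⟨D.β y x₁, key x₁ h1 he1, ?_⟩
  have h3 : D.β y x₂ = D.β y x₁ := by
    have h4 := hye (x₁ + x₂) (by rw [D.β_add_right, h1, h2]; decide) (by rw [D.β_add_right, he1, he2, add_zero])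
    rw [D.β_add_right] at h4
    rcases z2 (D.β y x₁) with h5 | h5 <;> rcases z2 (D.β y x₂) with h6 | h6 <;> rw [h5, h6] at h4 <;> rw [h5, h6]
    · simp at h4
    · simp at h4
  rw [← h3]
  exact key x₂ h2 he2

/-- **The invariant element `p`.** -/
theorem exists_p : ∃ (a : ZMod 2) (p : H), ∀ x w, D.β x w = 1 → D.P x w = p * D.Q (a • x) := by
  obtain ⟨x, w, hxw⟩ := D.exists_nrad
  obtain ⟨a, ha, -⟩ := D.P_hyp hxw hxw
  have hall : ∀ x₂, D.β x x₂ = 1 → D.P x x₂ * D.P x₂ x = D.Q (a • (x + x₂)) := by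
    intro x₂ h2
    obtain ⟨a', h3, h4⟩ := D.P_hyp hxw h2
    have h5 : a' = a := by
      rw [ha] at h3
      rcases z2 a with h6 | h6 <;> rcases z2 a' with h7 | h7 <;> rw [h6, h7] at h3 ⊢
      · exfalso
        rw [zero_smul, one_smul, D.Q_zero] at h3
        exact D.Q_ne (y := x + w) (f := w) (by rw [D.β_add_left, hxw, D.alt, add_zero]) h3.symm
      · exfalso
        rw [zero_smul, one_smul, D.Q_zero] at h3
        exact D.Q_ne (y := x + w) (f := w) (by rw [D.β_add_left, hxw, D.alt, add_zero]) h3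
    rw [← h5]
    exact h4
  set p := D.P x w * D.Q (a • x) with hp
  have hpx : D.P x w = p * D.Q (a • x) := by
    rw [hp, mul_assoc, D.QQ, mul_one]
  have hP1 : ∀ v u, D.β x v = 1 → D.β v u = 1 → D.P v u = p * D.Q (a • v) := by
    intro v u hv hu
    have h1 := hall v hv
    rw [D.P_eq hxw hv] at h1
    rw [D.P_eq (w := x) (w' := u) (D.symm1 hv) hu]
    have h2 : D.P v x = D.P x w * D.Q (a • (x + v)) := by
      rw [← h1, ← mul_assoc, D.PP hxw, one_mul]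
    rw [h2, smul_add, D.Q_add, hpx]
    calc p * D.Q (a • x) * (D.Q (a • x) * D.Q (a • v)) = p * (D.Q (a • x) * D.Q (a • x)) * D.Q (a • v) := by group
      _ = _ := by rw [D.QQ, mul_one]
  -- `p` is centralised by `b e`
  have hpb : ∀ e, cj (D.b e) p = p := by
    intro e
    rw [hp, cj_mul]
    rcases z2 (D.β x e) with he | he
    · rw [D.cjb_P0 hxw he, D.cjb_Q, D.β_smul_left, he, mul_zero, zero_smul, add_zero]
    · rw [D.cjb_P1 hxw he, D.cjb_Q, D.β_smul_left, he, mul_one, ← smul_add,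
        hP1 (x + e) x (by rw [D.β_add_right, D.alt, he, zero_add])
          (by rw [D.β_add_left, D.alt, D.symm1 he, zero_add]), mul_assoc, D.QQ, mul_one, hp]
  refine ⟨a, p, ?_⟩
  intro x' u hx'
  rcases z2 (D.β x x') with h | h
  · -- a vector `v` with `β x v = β x' v = 1`
    obtain ⟨v, hv, hv'⟩ : ∃ v, D.β x v = 1 ∧ D.β x' v = 1 := by
      rcases z2 (D.β x u) with h1 | h1
      · rcases z2 (D.β x' w) with h2 | h2
        · exact ⟨w + u, by rw [D.β_add_right, hxw, h1, add_zero], by rw [D.β_add_right, h2, hx', zero_add]⟩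
        · exact ⟨w, hxw, h2⟩
      · exact ⟨u, h1, hx'⟩
    have h1 := hP1 v x' hv (D.symm1 hv')
    have h2 := congrArg (cj (D.b (v + x'))) h1
    rw [D.cjb_P1 (D.symm1 hv') (by rw [D.β_add_right, D.alt, D.symm1 hv', zero_add]), cj_mul, hpb,
      D.cjb_Q, D.β_smul_left, D.β_add_right, D.alt, D.symm1 hv', zero_add, mul_one, ← smul_add,
      ← add_assoc, aa, zero_add] at h2
    rw [D.P_eq hv' hx']
    exact h2
  · exact hP1 x' u h hx'

end HData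

end Cfsg.Agent.OddHalf.SpTwoN
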