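import Cfsg.Agent.OddHalf.SpTwoN.CCRel

/-!
# The case (C, O): interface between the relations and the end

`z u = y u * t` (`z 0 = 1`). For `u ≠ 0`: `gh z u w = (z w)⁻¹ * z (w + u) * z u`, `w ∈ u^⊥`, and `p u` generate together
with `q u w`, `z u` a group `F u` such that `F u / ⟨b u⟩` is elementary abelian. `Eqv C u` is equality modulo `⟨b u⟩`.
-/

set_option autoImplicit false

namespace Cfsg.Agent.OddHalf.SpTwoN

open Subgroup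
open Cfsg.Agent.StandardComponent.SpTwo

variable {G V : Type*} [Group G] [AddCommGroup V] [Module (ZMod 2) V]

/-- Equality modulo `⟨b u⟩`. -/
def Eqv (C : Ctx G V) (u : V) (a b : G) : Prop := a = b ∨ a = b * C.b u

/-- The input: `z u = y u * t` for `u ≠ 0`. -/
structure ZData (C : Ctx G V) (z : V → G) : Prop where
  zero : z 0 = 1
  sq : ∀ u, z u * z u = C.b u
  conj_t : ∀ u, C.t * z u * C.t = (z u)⁻¹
  equiv : ∀ (k : C.L) (u : V), (k : G) * z u * (k : G)⁻¹ = z (C.S.ρ k u)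
  comm : ∀ u v, C.S.B u v = 0 → z u * z v = C.b u * C.b v * C.b (u + v) * (z v * z u)

/-- The hat elements. -/
def gh (z : V → G) (u w : V) : G := (z w)⁻¹ * z (w + u) * z u

/-- The output of the relations. -/
structure COData (C : Ctx G V) (z p : V → G) (α : ZMod 2) : Prop extends ZData C z where
  gh_add : ∀ u w x, u ≠ 0 → C.S.B u w = 0 → C.S.B u x = 0 → Eqv C u (gh z u (w + x)) (gh z u w * gh z u x)
  gh_gh : ∀ u w x, u ≠ 0 → C.S.B u w = 0 → C.S.B u x = 0 → Eqv C u (gh z u w * gh z u x) (gh z u x * gh z u w)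
  gh_sq : ∀ u w, u ≠ 0 → C.S.B u w = 0 → Eqv C u (gh z u w * gh z u w) 1
  gh_b : ∀ u w, C.S.B u w = 0 → Commute (gh z u w) (C.b u)
  q_gh : ∀ u w x, u ≠ 0 → C.S.B u w = 0 → C.S.B u x = 0 → Eqv C u (C.q u x * gh z u w) (gh z u w * C.q u x)
  z_gh : ∀ u w, u ≠ 0 → C.S.B u w = 0 → Eqv C u (z u * gh z u w) (gh z u w * z u)
  t_gh : ∀ u w, u ≠ 0 → C.S.B u w = 0 → Eqv C u (C.t * gh z u w * C.t) (gh z u w * C.q u w)
  p_b : ∀ u e, u ≠ 0 → C.S.B u e = 0 → Commute (p u) (C.b e)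
  p_gh : ∀ u w, u ≠ 0 → C.S.B u w = 0 → Eqv C u (p u * gh z u w) (gh z u w * p u)
  p_z : ∀ u, u ≠ 0 → Eqv C u (p u * z u) (z u * p u)
  p_sq : ∀ u, u ≠ 0 → Eqv C u (p u * p u) 1
  t_p : ∀ u, u ≠ 0 → Eqv C u (C.t * p u * C.t) (p u * z u)
  z_conj_z : ∀ u x, u ≠ 0 → C.S.B u x = 0 → Eqv C u (z x * z u * (z x)⁻¹) (z u * C.q u x)
  z_conj_gh0 : ∀ u x w, u ≠ 0 → C.S.B u x = 0 → C.S.B u w = 0 → C.S.B x w = 0 →
    Eqv C u (z x * gh z u w * (z x)⁻¹) (gh z u w)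
  z_conj_gh1 : ∀ u x w, u ≠ 0 → C.S.B u x = 0 → C.S.B u w = 0 → C.S.B x w = 1 →
    Eqv C u (z x * gh z u w * (z x)⁻¹) (gh z u w * p u * C.q u x ^ α.val)
  z_conj_q0 : ∀ u x w, u ≠ 0 → C.S.B u x = 0 → C.S.B u w = 0 → C.S.B x w = 0 →
    Eqv C u (z x * C.q u w * (z x)⁻¹) (C.q u w)
  z_conj_q1 : ∀ u x w, u ≠ 0 → C.S.B u x = 0 → C.S.B u w = 0 → C.S.B x w = 1 →
    Eqv C u (z x * C.q u w * (z x)⁻¹) (C.q u w * C.q u x * gh z u x * z u)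
  z_conj_p : ∀ u x, u ≠ 0 → C.S.B u x = 0 → Eqv C u (z x * p u * (z x)⁻¹) (p u * gh z u x)
  p_mem : ∀ u x, u ≠ 0 → C.S.B u x = 0 → x ≠ 0 → x ≠ u →
    p x ∈ closure {g | ∃ a, C.S.B u a = 0 ∧ (g = C.b a ∨ g = z a)}

end Cfsg.Agent.OddHalf.SpTwoN
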