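import Cfsg.Agent.OddHalf.SpTwo.Syl
import Cfsg.Agent.OddHalf.SpTwoN.Words

/-!
# An isotropic 4-space with a dual system; elements fixing `⟨u, v, w⟩^⊥`
-/

set_option autoImplicit false

namespace Cfsg.Agent.OddHalf.SpTwoN.DichFrame

open Cfsg.Agent.StandardComponent.SpTwo Cfsg.Agent.OddHalf.SpTwo Cfsg.Agent.OddHalf.SpTwoN.Words

variable {X V : Type*} [Group X] [AddCommGroup V] [Module (ZMod 2) V] (D : SpData X V)

/-- an isotropic 4-space `⟨u, a, b, c⟩` with a dual system `e, f, g, h` -/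
structure Fr (u a b c e f g h : V) : Prop where
  ua : D.B u a = 0
  ub : D.B u b = 0
  uc : D.B u c = 0
  ab : D.B a b = 0
  ac : D.B a c = 0
  bc : D.B b c = 0
  ue : D.B u e = 1
  ae : D.B a e = 0
  be : D.B b e = 0
  ce : D.B c e = 0
  uf : D.B u f = 0
  af : D.B a f = 1
  bf : D.B b f = 0
  cf : D.B c f = 0
  ug : D.B u g = 0
  ag : D.B a g = 0
  bg : D.B b g = 1
  cg : D.B c g = 0
  uh : D.B u h = 0
  ah : D.B a h = 0
  bh : D.B b h = 0
  ch : D.B c h = 1

theorem exists_fr [Finite V] (h256 : 256 ≤ Nat.card V) {u : V} (hu : u ≠ 0) :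
    ∃ a b c e f g h, Fr D u a b c e f g h := by
  obtain ⟨a, ha, ha'⟩ := room D h256 (A := ln u) (A' := ln u) (by
    have := finrank_ln_le u
    omega)
  obtain ⟨b, hb, hb'⟩ := room D h256 (A := pl u a) (A' := pl u a) (by
    have := finrank_pl_le u a
    omega)
  obtain ⟨c, hc, hc'⟩ := room D h256 (A := pl u a ⊔ ln b) (A' := pl u a ⊔ ln b) (by
    have h1 := finrank_pl_le u a
    have h2 := finrank_sup_ln_le (pl u a) b
    omega)
  obtain ⟨h, hh, hh'⟩ := Words.exists_perp D _ hc'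
  obtain ⟨g, hg, hg'⟩ := Words.exists_perp D _ hb'
  obtain ⟨f, hf, hf'⟩ := Words.exists_perp D _ ha'
  obtain ⟨e, -, he'⟩ := Words.exists_perp D (⊥ : Submodule (ZMod 2) V) (x := u) (by simpa using hu)
  have hua : D.B u a = 0 := by
    rw [D.symm]; exact ha u (self_mem_ln u)
  have hub : D.B u b = 0 := by
    rw [D.symm]; exact hb u (left_mem_pl u a)
  have hab : D.B a b = 0 := by
    rw [D.symm]; exact hb a (right_mem_pl u a)
  have huc : D.B u c = 0 := by
    rw [D.symm]; exact hc u (Submodule.mem_sup_left (left_mem_pl u a))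
  have hac : D.B a c = 0 := by
    rw [D.symm]; exact hc a (Submodule.mem_sup_left (right_mem_pl u a))
  have hbc : D.B b c = 0 := by
    rw [D.symm]; exact hc b (Submodule.mem_sup_right (self_mem_ln b))
  have huh : D.B u h = 0 := hh u (Submodule.mem_sup_left (left_mem_pl u a))
  have hah : D.B a h = 0 := hh a (Submodule.mem_sup_left (right_mem_pl u a))
  have hbh : D.B b h = 0 := hh b (Submodule.mem_sup_right (self_mem_ln b))
  have hug : D.B u g = 0 := hg u (left_mem_pl u a)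
  have hag : D.B a g = 0 := hg a (right_mem_pl u a)
  have huf : D.B u f = 0 := hf u (self_mem_ln u)
  -- corrections
  obtain ⟨g1, hg1⟩ : ∃ g1, g1 = g + D.B c g • h := ⟨_, rfl⟩
  have g1u : D.B u g1 = 0 := by rw [hg1]; simp [hug, huh]
  have g1a : D.B a g1 = 0 := by rw [hg1]; simp [hag, hah]
  have g1b : D.B b g1 = 1 := by rw [hg1]; simp [hg', hbh]
  have g1c : D.B c g1 = 0 := by rw [hg1]; simp [hh', z2_add]
  obtain ⟨f1, hf1⟩ : ∃ f1, f1 = f + D.B b f • g1 + D.B c f • h := ⟨_, rfl⟩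
  have f1u : D.B u f1 = 0 := by rw [hf1]; simp [huf, g1u, huh]
  have f1a : D.B a f1 = 1 := by rw [hf1]; simp [hf', g1a, hah]
  have f1b : D.B b f1 = 0 := by rw [hf1]; simp [g1b, hbh, z2_add]
  have f1c : D.B c f1 = 0 := by rw [hf1]; simp [g1c, hh', z2_add]
  obtain ⟨e1, he1⟩ : ∃ e1, e1 = e + D.B a e • f1 + D.B b e • g1 + D.B c e • h := ⟨_, rfl⟩
  have e1u : D.B u e1 = 1 := by rw [he1]; simp [he', f1u, g1u, huh]
  have e1a : D.B a e1 = 0 := by rw [he1]; simp [f1a, g1a, hah, z2_add]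
  have e1b : D.B b e1 = 0 := by rw [he1]; simp [f1b, g1b, hbh, z2_add]
  have e1c : D.B c e1 = 0 := by rw [he1]; simp [f1c, g1c, hh', z2_add]
  exact ⟨a, b, c, e1, f1, g1, h, ⟨hua, hub, huc, hab, hac, hbc, e1u, e1a, e1b, e1c, f1u, f1a, f1b, f1c,
    g1u, g1a, g1b, g1c, huh, hah, hbh, hh'⟩⟩

/-- an element fixing `⟨u, v, w⟩^⊥` pointwise moves vectors by elements of `⟨u, v, w⟩` -/
theorem fix3 [Finite V] {u v w : V} {k : X}
    (hk : ∀ e, D.B u e = 0 → D.B v e = 0 → D.B w e = 0 → D.ρ k e = e) (z : V) :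
    ∃ α β γ : ZMod 2, D.ρ k z = z + (α • u + β • v + γ • w) := by
  have h1 : D.ρ k z + z ∈ Submodule.span (ZMod 2) ({u, v, w} : Set V) := by
    apply mem_of_perp D
    intro y hy
    rw [mem_perp] at hy
    have h2 : D.ρ k y = y := hk y (by rw [D.symm]; exact hy u (Submodule.subset_span (by simp)))
      (by rw [D.symm]; exact hy v (Submodule.subset_span (by simp)))
      (by rw [D.symm]; exact hy w (Submodule.subset_span (by simp)))
    have h3 := D.inv k y z
    rw [h2] at h3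
    rw [map_add, h3, z2_add]
  obtain ⟨α, β, γ, h2⟩ := Submodule.mem_span_triple.1 h1
  refine ⟨α, β, γ, ?_⟩
  rw [h2, add_comm (D.ρ k z) z, aac]

/-- an element fixing `⟨u, v⟩^⊥` pointwise moves vectors by elements of `⟨u, v⟩` -/
theorem fix2 [Finite V] {u v : V} {k : X}
    (hk : ∀ e, D.B u e = 0 → D.B v e = 0 → D.ρ k e = e) (z : V) :
    ∃ α β : ZMod 2, D.ρ k z = z + (α • u + β • v) := by
  have h1 : D.ρ k z + z ∈ pl u v := by
    apply mem_of_perp D
    intro y hy
    rw [mem_perp_pl] at hy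
    have h2 : D.ρ k y = y := hk y (by rw [D.symm]; exact hy.1) (by rw [D.symm]; exact hy.2)
    have h3 := D.inv k y z
    rw [h2] at h3
    rw [map_add, h3, z2_add]
  obtain ⟨α, β, h2⟩ := Submodule.mem_span_pair.1 h1
  refine ⟨α, β, ?_⟩
  rw [h2, add_comm (D.ρ k z) z, aac]

end Cfsg.Agent.OddHalf.SpTwoN.DichFrame
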