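import Cfsg.Agent.OddHalf.SpTwoN.DichFrame
import Cfsg.Agent.OddHalf.SpTwoN.CCRel

/-!
# The homocyclic configuration is impossible

`kill`: there is no `L_u`-equivariant family `m v`, `v ∈ u^⊥`, of commuting elements with `m v ^ 2 = s_{u,v}` and
`m v * m v' * m (v + v')` in `A_⟨u,v,v'⟩`.
-/

set_option autoImplicit false

namespace Cfsg.Agent.OddHalf.SpTwoN.DichKill

open Cfsg.Agent.StandardComponent.SpTwo Cfsg.Agent.OddHalf.SpTwo Cfsg.Agent.OddHalf.SpTwoN.Words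
open Cfsg.Agent.OddHalf.SpTwoN Cfsg.Agent.OddHalf.SpTwoN.DichFrame

theorem six {G : Type*} [Group G] {A B C P Q R : G} (hAB : A * B = B * A) (hAC : A * C = C * A) (hAP : A * P = P * A)
    (hAQ : A * Q = Q * A) (hAR : A * R = R * A) (hBC : B * C = C * B) (hBP : B * P = P * B) (hBQ : B * Q = Q * B)
    (hBR : B * R = R * B) (hCP : C * P = P * C) (hCQ : C * Q = Q * C) (hCR : C * R = R * C) (hPQ : P * Q = Q * P)
    (hPR : P * R = R * P) (hQR : Q * R = R * Q) :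
    A * Q * R * (A * B * P) * (C * C) = A * A * (B * C * Q * (P * C * R)) := by
  obtain ⟨S, hS⟩ : ∃ S : Set G, S = {A, B, C, P, Q, R} := ⟨_, rfl⟩
  have h : ∀ x ∈ S, ∀ y ∈ S, x * y = y * x := by
    rw [hS]
    rintro x (rfl | rfl | rfl | rfl | rfl | rfl) y (rfl | rfl | rfl | rfl | rfl | rfl) <;>
      first | rfl | assumption | (symm; assumption)
  have hc := Subgroup.isMulCommutative_closure h
  let cg : CommGroup (Subgroup.closure S) := { mul_comm := fun a b => hc.is_comm.comm a b }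
  have key : ∀ A B C P Q R : Subgroup.closure S,
      A * Q * R * (A * B * P) * (C * C) = A * A * (B * C * Q * (P * C * R)) := by
    intro A B C P Q R
    ac_rfl
  have hmem : ∀ x ∈ ({A, B, C, P, Q, R} : Set G), x ∈ Subgroup.closure S := fun x hx =>
    Subgroup.subset_closure (by rw [hS]; exact hx)
  exact congrArg Subtype.val (key ⟨A, hmem _ (by simp)⟩ ⟨B, hmem _ (by simp)⟩
    ⟨C, hmem _ (by simp)⟩ ⟨P, hmem _ (by simp)⟩ ⟨Q, hmem _ (by simp)⟩ ⟨R, hmem _ (by simp)⟩)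

variable {G V : Type*} [Group G] [AddCommGroup V] [Module (ZMod 2) V]

theorem kill [Finite V] (C : Ctx G V) {u : V} (hu : u ≠ 0) (m : V → G)
    (hsq : ∀ v, C.S.B u v = 0 → v ≠ 0 → v ≠ u → m v * m v = (sg C.S u v : C.L))
    (hcomm : ∀ v v', C.S.B u v = 0 → C.S.B u v' = 0 → C.S.B v v' = 0 → v ≠ 0 → v ≠ u → v' ≠ 0 → v' ≠ u →
      m v * m v' = m v' * m v)
    (heq : ∀ k : C.L, C.S.ρ k u = u → ∀ v, (k : G) * m v * (k : G)⁻¹ = m (C.S.ρ k v))
    (hT : ∀ v v', C.S.B u v = 0 → C.S.B u v' = 0 → C.S.B v v' = 0 → v ≠ 0 → v ≠ u → v' ≠ 0 → v' ≠ u →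
      v + v' ≠ 0 → v + v' ≠ u → ∃ k : C.L, m v * m v' * m (v + v') = k ∧
        ∀ e, C.S.B u e = 0 → C.S.B v e = 0 → C.S.B v' e = 0 → C.S.ρ k e = e) : False := by
  obtain ⟨a, b, c, e, f, g, h, F⟩ := exists_fr C.S C.cardV hu
  have sy : ∀ {x y : V} {i : ZMod 2}, C.S.B x y = i → C.S.B y x = i := fun {x y i} hxy => by
    rw [C.S.symm]; exact hxy
  have ne : ∀ {x y z : V}, C.S.B x z = 1 → C.S.B y z = 0 → x ≠ y := by
    rintro x y z h1 h2 rfl
    rw [h1] at h2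
    exact one_ne_zero h2
  have z0 : ∀ z, C.S.B 0 z = 0 := fun z => by rw [map_zero]; rfl
  -- nonzero conditions
  have a0 : a ≠ 0 := ne F.af (z0 f)
  have au : a ≠ u := ne F.af F.uf
  have b0 : b ≠ 0 := ne F.bg (z0 g)
  have bu : b ≠ u := ne F.bg F.ug
  have c0 : c ≠ 0 := ne F.ch (z0 h)
  have cu : c ≠ u := ne F.ch F.uh
  have abg : C.S.B (a + b) g = 1 := by rw [B_add, F.ag, F.bg, zero_add]
  have bcg : C.S.B (b + c) g = 1 := by rw [B_add, F.bg, F.cg, add_zero]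
  have abcg : C.S.B (a + b + c) g = 1 := by rw [B_add, abg, F.cg, add_zero]
  have ab0 : a + b ≠ 0 := ne abg (z0 g)
  have abu : a + b ≠ u := ne abg F.ug
  have bc0 : b + c ≠ 0 := ne bcg (z0 g)
  have bcu : b + c ≠ u := ne bcg F.ug
  have abc0 : a + b + c ≠ 0 := ne abcg (z0 g)
  have abcu : a + b + c ≠ u := ne abcg F.ug
  -- the two short root elements
  obtain ⟨x, hx⟩ : ∃ x, x = sg C.S a g := ⟨_, rfl⟩
  obtain ⟨x', hx'⟩ : ∃ x', x' = sg C.S c g := ⟨_, rfl⟩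
  have rx : ∀ z, C.S.ρ x z = z + (C.S.B z g • a + C.S.B z a • g) := fun z => by rw [hx, ρ_sg C.S F.ag]
  have rx' : ∀ z, C.S.ρ x' z = z + (C.S.B z g • c + C.S.B z c • g) := fun z => by rw [hx', ρ_sg C.S F.cg]
  have xi : x⁻¹ = x := by rw [hx, sg_inv C.S F.ag]
  have xi' : x'⁻¹ = x' := by rw [hx', sg_inv C.S F.cg]
  have xu : C.S.ρ x u = u := by rw [rx, F.ug, F.ua, zero_smul, zero_smul, add_zero, add_zero]
  have xa : C.S.ρ x a = a := by rw [rx, F.ag, C.S.alt, zero_smul, zero_smul, add_zero, add_zero]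
  have xb : C.S.ρ x b = b + a := by rw [rx, F.bg, sy F.ab, one_smul, zero_smul, add_zero]
  have xc : C.S.ρ x c = c := by rw [rx, F.cg, sy F.ac, zero_smul, zero_smul, add_zero, add_zero]
  have xu' : C.S.ρ x' u = u := by rw [rx', F.ug, F.uc, zero_smul, zero_smul, add_zero, add_zero]
  have xa' : C.S.ρ x' a = a := by rw [rx', F.ag, F.ac, zero_smul, zero_smul, add_zero, add_zero]
  have xb' : C.S.ρ x' b = b + c := by rw [rx', F.bg, F.bc, one_smul, zero_smul, add_zero]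
  have xc' : C.S.ρ x' c = c := by rw [rx', F.cg, C.S.alt, zero_smul, zero_smul, add_zero, add_zero]
  -- the products
  obtain ⟨k, hk, hkf⟩ := hT a b F.ua F.ub F.ab a0 au b0 bu ab0 abu
  obtain ⟨l, hl, hlf⟩ := hT b c F.ub F.uc F.bc b0 bu c0 cu bc0 bcu
  have hk' : (x' : G) * k * (x' : G)⁻¹ = m a * m (b + c) * m (a + b + c) := by
    rw [← hk, show (x' : G) * (m a * m b * m (a + b)) * (x' : G)⁻¹ = (x' * m a * (x' : G)⁻¹) *
      (x' * m b * (x' : G)⁻¹) * (x' * m (a + b) * (x' : G)⁻¹) by group, heq _ xu', heq _ xu', heq _ xu',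
      xa', xb', map_add, xa', xb', add_assoc]
  have hl' : (x : G) * l * (x : G)⁻¹ = m (a + b) * m c * m (a + b + c) := by
    rw [← hl, show (x : G) * (m b * m c * m (b + c)) * (x : G)⁻¹ = (x * m b * (x : G)⁻¹) *
      (x * m c * (x : G)⁻¹) * (x * m (b + c) * (x : G)⁻¹) by group, heq _ xu, heq _ xu, heq _ xu,
      xc, xb, map_add, xc, xb, add_comm b a]
  have hl2 : (x' : G) * l * (x' : G)⁻¹ = l := by
    rw [← hl, show (x' : G) * (m b * m c * m (b + c)) * (x' : G)⁻¹ = (x' * m b * (x' : G)⁻¹) *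
      (x' * m c * (x' : G)⁻¹) * (x' * m (b + c) * (x' : G)⁻¹) by group, heq _ xu', heq _ xu', heq _ xu',
      xc', xb', map_add, xc', xb', aab]
    have h1 := hcomm b (b + c) F.ub (by rw [map_add, F.ub, F.uc, add_zero]) (by
      rw [map_add, C.S.alt, F.bc, add_zero]) b0 bu bc0 bcu
    have h2 := hcomm c (b + c) F.uc (by rw [map_add, F.ub, F.uc, add_zero]) (by
      rw [map_add, C.S.alt, sy F.bc, add_zero]) c0 cu bc0 bcu
    have h3 := hcomm b c F.ub F.uc F.bc b0 bu c0 cu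
    rw [← h2, mul_assoc, ← h1, ← mul_assoc, ← h3]
  -- the main identity
  have uab : C.S.B u (a + b) = 0 := by rw [map_add, F.ua, F.ub, add_zero]
  have ubc : C.S.B u (b + c) = 0 := by rw [map_add, F.ub, F.uc, add_zero]
  have uabc : C.S.B u (a + b + c) = 0 := by rw [map_add, uab, F.uc, add_zero]
  have hmain : (x' : G) * k * (x' : G)⁻¹ * k * (m c * m c) = m a * m a * (l * ((x : G) * l * (x : G)⁻¹)) := by
    rw [hk', hl', ← hk, ← hl]
    have t0 : ∀ {i j : ZMod 2}, i = 0 → j = 0 → i + j = 0 := by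
      rintro _ _ rfl rfl
      rfl
    apply six
    · exact hcomm _ _ F.ua F.ub F.ab a0 au b0 bu
    · exact hcomm _ _ F.ua F.uc F.ac a0 au c0 cu
    · exact hcomm _ _ F.ua uab (by rw [map_add]; exact t0 (C.S.alt a) F.ab) a0 au ab0 abu
    · exact hcomm _ _ F.ua ubc (by rw [map_add]; exact t0 F.ab F.ac) a0 au bc0 bcu
    · exact hcomm _ _ F.ua uabc (by rw [map_add, map_add]; exact t0 (t0 (C.S.alt a) F.ab) F.ac) a0 au abc0 abcu
    · exact hcomm _ _ F.ub F.uc F.bc b0 bu c0 cu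
    · exact hcomm _ _ F.ub uab (by rw [map_add]; exact t0 (sy F.ab) (C.S.alt b)) b0 bu ab0 abu
    · exact hcomm _ _ F.ub ubc (by rw [map_add]; exact t0 (C.S.alt b) F.bc) b0 bu bc0 bcu
    · exact hcomm _ _ F.ub uabc (by rw [map_add, map_add]; exact t0 (t0 (sy F.ab) (C.S.alt b)) F.bc) b0 bu abc0 abcu
    · exact hcomm _ _ F.uc uab (by rw [map_add]; exact t0 (sy F.ac) (sy F.bc)) c0 cu ab0 abu
    · exact hcomm _ _ F.uc ubc (by rw [map_add]; exact t0 (sy F.bc) (C.S.alt c)) c0 cu bc0 bcu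
    · exact hcomm _ _ F.uc uabc (by rw [map_add, map_add]; exact t0 (t0 (sy F.ac) (sy F.bc)) (C.S.alt c))
        c0 cu abc0 abcu
    · exact hcomm _ _ uab ubc (by
        rw [B_add, map_add, map_add]; exact t0 (t0 F.ab F.ac) (t0 (C.S.alt b) F.bc)) ab0 abu bc0 bcu
    · exact hcomm _ _ uab uabc (by
        rw [map_add, C.S.alt, B_add]; exact t0 rfl (t0 F.ac F.bc)) ab0 abu abc0 abcu
    · exact hcomm _ _ ubc uabc (by
        rw [add_assoc a b c, map_add, C.S.alt, B_add]; exact t0 (t0 (sy F.ab) (sy F.ac)) rfl) bc0 bcu abc0 abcu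
  rw [hsq a F.ua a0 au, hsq c F.uc c0 cu] at hmain
  have hmain' : x' * k * x'⁻¹ * k * sg C.S u c = sg C.S u a * (l * (x * l * x⁻¹)) := Subtype.ext hmain
  have hl2' : x' * l * x'⁻¹ = l := Subtype.ext hl2
  -- the action
  obtain ⟨α, β, γ, h1⟩ := fix3 C.S hkf f
  obtain ⟨α', β', γ', h2⟩ := fix3 C.S hlf g
  obtain ⟨α₂, β₂, γ₂, h3⟩ := fix3 C.S hlf h
  have ku : C.S.ρ k u = u := hkf u (C.S.alt u) (sy F.ua) (sy F.ub)
  have ka : C.S.ρ k a = a := hkf a F.ua (C.S.alt a) (sy F.ab)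
  have kb : C.S.ρ k b = b := hkf b F.ub F.ab (C.S.alt b)
  have kc : C.S.ρ k c = c := hkf c F.uc F.ac F.bc
  have lu : C.S.ρ l u = u := hlf u (C.S.alt u) (sy F.ub) (sy F.uc)
  have la : C.S.ρ l a = a := hlf a F.ua (sy F.ab) (sy F.ac)
  have lb : C.S.ρ l b = b := hlf b F.ub (C.S.alt b) (sy F.bc)
  have lc : C.S.ρ l c = c := hlf c F.uc F.bc (C.S.alt c)
  have lf : C.S.ρ l f = f := hlf f F.uf F.bf F.cf
  -- `α' = 0`
  have hα' : α' = 0 := by
    have h4 : l * x' = x' * l := by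
      calc l * x' = x' * l * x'⁻¹ * x' := by rw [hl2']
        _ = x' * l := by group
    have h5 : C.S.ρ (l * x') h = C.S.ρ (x' * l) h := by rw [h4]
    rw [C.S.ρ_mul, C.S.ρ_mul, rx', h3, sy F.ch, one_smul] at h5
    simp only [map_add, map_smul, lc, h2, h3, xu', xb', xc'] at h5
    rw [rx' h, sy F.ch, one_smul] at h5
    have h6 := congrArg (fun z => C.S.B z e) h5
    simp only [map_add, map_smul, LinearMap.add_apply, LinearMap.smul_apply, smul_eq_mul, F.ue, F.be, F.ce,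
      mul_zero, mul_one, add_zero] at h6
    have h7 : ∀ p q r s : ZMod 2, p + r + (0 + (q + s)) = p + (0 + q) + r → s = 0 := by decide
    exact h7 _ _ _ _ h6
  have h5 : C.S.ρ (x' * k * x'⁻¹ * k * sg C.S u c) f = C.S.ρ (sg C.S u a * (l * (x * l * x⁻¹))) f := by rw [hmain']
  have hs1 : C.S.ρ (sg C.S u c) f = f := by
    rw [ρ_sg C.S F.uc, sy F.cf, sy F.uf, zero_smul, zero_smul, add_zero, add_zero]
  rw [xi, xi'] at h5
  simp only [C.S.ρ_mul] at h5
  rw [hs1, h1] at h5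
  have h7 : C.S.ρ x' f = f + C.S.B f g • c := by rw [rx', sy F.cf, zero_smul, add_zero]
  have h8 : C.S.ρ x f = f + (C.S.B f g • a + g) := by rw [rx, sy F.af, one_smul]
  have h9 : C.S.ρ x g = g := by rw [rx, C.S.alt, sy F.ag, zero_smul, zero_smul, add_zero, add_zero]
  simp only [map_add, map_smul, h7, xu', xa', xb', ku, ka, kb, kc, h1, h8, h9, lf, la, h2, xu, xa, xb, xc, xc',
    lu, lb, lc, ρ_sg C.S F.ua] at h5
  have h6 := congrArg (fun z => C.S.B z e) h5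
  have hgu : C.S.B g u = 0 := sy F.ug
  have hfu : C.S.B f u = 0 := sy F.uf
  have hfa : C.S.B f a = 1 := sy F.af
  have hga : C.S.B g a = 0 := sy F.ag
  simp only [map_add, map_smul, LinearMap.add_apply, LinearMap.smul_apply, smul_eq_mul, F.ue, F.ae, F.be, F.ce,
    mul_zero, mul_one, add_zero, C.S.alt, sy F.ua, sy F.ub, sy F.uc, F.ua, sy F.ab,
    sy F.ac, hgu, hfu, hfa, hga, zero_add] at h6
  subst hα'
  have h10 : ∀ p q r : ZMod 2, p + r + r = p + (q + 0) + (q + 0 + 0) + 1 → False := by decide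
  exact h10 _ _ _ h6

end Cfsg.Agent.OddHalf.SpTwoN.DichKill
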