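import Cfsg.Agent.OddHalf.SpTwoN.Words

/-!
# Maximal isotropic subspaces

`W = W^⊥`; `AW D W` is the pointwise stabiliser of `W` (symmetric forms), `δ : AW → W` the diagonal,
its kernel (alternating forms) is generated by the short root elements of the lines of `W`.
-/

set_option autoImplicit false

namespace Cfsg.Agent.OddHalf.SpTwoN.Iso

open Cfsg.Agent.StandardComponent.SpTwo
open Cfsg.Agent.OddHalf.SpTwoN.Words

variable {X V : Type*} [Group X] [AddCommGroup V] [Module (ZMod 2) V] (D : SpData X V)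

/-- `W = W^⊥` -/
def Max (W : Submodule (ZMod 2) V) : Prop := ∀ x, x ∈ W ↔ ∀ w ∈ W, D.B x w = 0

/-- pointwise stabiliser -/
def AW (W : Submodule (ZMod 2) V) : Subgroup X where
  carrier := {g | ∀ w ∈ W, D.ρ g w = w}
  one_mem' := fun w _ => D.ρ_one w
  mul_mem' {g h} hg hh := fun w hw => by rw [D.ρ_mul, hh w hw, hg w hw]
  inv_mem' {g} hg := fun w hw => by
    apply D.ρ_inj g
    rw [D.ρ_apply_inv, hg w hw]

variable {D} {W : Submodule (ZMod 2) V}

theorem mem_AW {g : X} : g ∈ AW D W ↔ ∀ w ∈ W, D.ρ g w = w := Iff.rfl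

theorem Max.perp (hW : Max D W) {u v : V} (hu : u ∈ W) (hv : v ∈ W) : D.B u v = 0 := (hW u).1 hu v hv

theorem Max.n_mem (hW : Max D W) {g : X} (hg : g ∈ AW D W) (x : V) : D.n g x ∈ W := by
  rw [hW]
  intro w hw
  rw [D.n_apply, map_add, LinearMap.add_apply]
  have h1 : D.B (D.ρ g x) w = D.B x w := by
    have := D.inv g x w
    rwa [hg w hw] at this
  rw [h1]
  have := z2 (D.B x w)
  rcases this with h | h <;> rw [h] <;> decide

theorem Max.ρ_mul (hW : Max D W) {g h : X} (hg : g ∈ AW D W) (hh : h ∈ AW D W) (x : V) :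
    D.ρ (g * h) x = x + D.n g x + D.n h x := by
  rw [D.ρ_mul, D.ρ_eq h x, map_add, hg _ (hW.n_mem hh x), D.ρ_eq g x]

theorem Max.n_mul (hW : Max D W) {g h : X} (hg : g ∈ AW D W) (hh : h ∈ AW D W) (x : V) :
    D.n (g * h) x = D.n g x + D.n h x := by
  rw [D.n_apply, hW.ρ_mul hg hh]
  have h1 : x + D.n g x + D.n h x + x = D.n g x + D.n h x + (x + x) := by abel
  rw [h1, aa, add_zero]

theorem Max.sq (hW : Max D W) {g : X} (hg : g ∈ AW D W) : g * g = 1 := by
  apply D.eq_one_of_n
  intro v
  rw [hW.n_mul hg hg, aa]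

theorem Max.comm (hW : Max D W) {g h : X} (hg : g ∈ AW D W) (hh : h ∈ AW D W) : g * h = h * g := by
  apply D.ext_iff
  intro x
  rw [hW.ρ_mul hg hh, hW.ρ_mul hh hg, add_assoc, add_assoc, add_comm (D.n g x)]

theorem Max.τ_mem (hW : Max D W) {w : V} (hw : w ∈ W) : D.τ w ∈ AW D W := by
  intro x hx
  rw [D.hτ, hW.perp hx hw, zero_smul, add_zero]

theorem Max.sg_mem (hW : Max D W) {u w : V} (hu : u ∈ W) (hw : w ∈ W) : sg D u w ∈ AW D W :=
  mul_mem (mul_mem (hW.τ_mem hu) (hW.τ_mem hw)) (hW.τ_mem (add_mem hu hw))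

/-- elements commuting with the transvections of `W` -/
theorem mem_AW_of_commute {g : X} (h : ∀ w ∈ W, Commute (D.τ w) g) : g ∈ AW D W :=
  fun w hw => D.fix_of_τ_commute (h w hw)

theorem commute_of_mem_AW {g : X} (hg : g ∈ AW D W) {w : V} (hw : w ∈ W) : Commute (D.τ w) g :=
  D.τ_commute_of_fix (hg w hw)

/-- the quadratic form of `g` is additive -/
theorem quad_add {g : X} (hg : g * g = 1) (x y : V) :
    D.B (x + y) (D.ρ g (x + y)) = D.B x (D.ρ g x) + D.B y (D.ρ g y) := by
  have h1 := D.n_adj hg y x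
  rw [D.symm (D.n g y) x] at h1
  rw [D.ρ_eq g (x + y), D.ρ_eq g x, D.ρ_eq g y]
  simp only [map_add, LinearMap.add_apply, D.alt, h1, D.symm y x]
  generalize D.B x y = a
  generalize D.B x (D.n g x) = b
  generalize D.B y (D.n g y) = c
  generalize D.B x (D.n g y) = d
  revert a b c d
  decide

section delta

variable [Finite V]

/-- the linear functional `x ↦ (x, g x)` -/
def quad (g : X) (hg : g * g = 1) : V →ₗ[ZMod 2] ZMod 2 where
  toFun x := D.B x (D.ρ g x)
  map_add' x y := quad_add hg x y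
  map_smul' c x := by
    rcases z2 c with h | h
    · rw [h, zero_smul, map_zero, map_zero, LinearMap.zero_apply, RingHom.id_apply, zero_smul]
    · rw [h, one_smul, RingHom.id_apply, one_smul]

theorem exists_delta {g : X} (hg : g * g = 1) : ∃ d, ∀ x, D.B x (D.ρ g x) = D.B x d := by
  obtain ⟨d, hd⟩ := exists_func D (quad g hg)
  exact ⟨d, fun x => (hd x).symm⟩

end delta

variable (D) in
open Classical in
/-- the diagonal of `g` -/
noncomputable def δ (g : X) : V := if h : ∃ d, ∀ x, D.B x (D.ρ g x) = D.B x d then h.choose else 0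

theorem eq_of_forall {d d' : V} (h : ∀ x, D.B x d = D.B x d') : d = d' := by
  apply eq_of_add
  apply D.nondeg
  intro w
  rw [D.symm, map_add, h]
  rcases z2 (D.B w d') with h | h <;> rw [h] <;> decide

theorem B_δ [Finite V] {g : X} (hg : g * g = 1) (x : V) : D.B x (δ D g) = D.B x (D.ρ g x) := by
  have h := exists_delta (D := D) hg
  unfold δ
  rw [dif_pos h]
  exact (h.choose_spec x).symm

theorem δ_eq [Finite V] {g : X} (hg : g * g = 1) {d : V} (h : ∀ x, D.B x (D.ρ g x) = D.B x d) : δ D g = d := by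
  apply eq_of_forall (D := D)
  intro x
  rw [B_δ hg, h]

theorem δ_τ [Finite V] (w : V) : δ D (D.τ w) = w := by
  apply δ_eq (D.τ_sq w)
  intro x
  rw [D.hτ, map_add, map_smul, D.alt, zero_add, smul_eq_mul]
  rcases z2 (D.B x w) with h | h <;> rw [h] <;> decide

theorem δ_sg [Finite V] {u v : V} (h : D.B u v = 0) : δ D (sg D u v) = 0 := by
  apply δ_eq (sg_sq D h)
  intro x
  rw [ρ_sg D h, map_zero]
  simp only [map_add, map_smul, D.alt, smul_eq_mul]
  generalize D.B x u = a
  generalize D.B x v = b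
  revert a b
  decide

theorem δ_one [Finite V] : δ D (1 : X) = 0 := by
  apply δ_eq (one_mul 1)
  intro x
  rw [D.ρ_one, D.alt, map_zero]

theorem Max.δ_mem [Finite V] (hW : Max D W) {g : X} (hg : g ∈ AW D W) : δ D g ∈ W := by
  rw [hW]
  intro w hw
  rw [D.symm, B_δ (hW.sq hg), hg w hw, D.alt]

theorem Max.δ_mul [Finite V] (hW : Max D W) {g h : X} (hg : g ∈ AW D W) (hh : h ∈ AW D W) :
    δ D (g * h) = δ D g + δ D h := by
  apply δ_eq (hW.sq (mul_mem hg hh))
  intro x
  rw [map_add, B_δ (hW.sq hg), B_δ (hW.sq hh), hW.ρ_mul hg hh, D.ρ_eq g, D.ρ_eq h]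
  simp only [map_add, D.alt, zero_add]

theorem δ_conj [Finite V] {g k : X} (hg : g * g = 1) : δ D (k * g * k⁻¹) = D.ρ k (δ D g) := by
  have h1 : k * g * k⁻¹ * (k * g * k⁻¹) = 1 := by
    calc k * g * k⁻¹ * (k * g * k⁻¹) = k * (g * g) * k⁻¹ := by group
      _ = 1 := by rw [hg]; group
  apply δ_eq h1
  intro x
  have h2 := B_δ (D := D) hg (D.ρ k⁻¹ x)
  have h3 : D.B x (D.ρ k (δ D g)) = D.B (D.ρ k⁻¹ x) (δ D g) := by
    rw [← D.inv k (D.ρ k⁻¹ x), D.ρ_apply_inv]
  rw [h3, h2, D.ρ_mul, D.ρ_mul, ← D.inv k (D.ρ k⁻¹ x), D.ρ_apply_inv]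

/-- conjugation by elements stabilising `W` -/
theorem conj_mem_AW {k : X} (hk : ∀ w, w ∈ W ↔ D.ρ k w ∈ W) {g : X} (hg : g ∈ AW D W) : k * g * k⁻¹ ∈ AW D W := by
  intro w hw
  have h1 : D.ρ k⁻¹ w ∈ W := by rw [hk, D.ρ_apply_inv]; exact hw
  rw [D.ρ_mul, D.ρ_mul, hg _ h1, D.ρ_apply_inv]

variable (D) in
/-- the group generated by the transvections of `W` -/
def GW (W : Submodule (ZMod 2) V) : Subgroup X := Subgroup.closure {x | ∃ w ∈ W, x = D.τ w}

variable (D) in
/-- the group generated by the short root elements of `W` -/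
def LW (W : Submodule (ZMod 2) V) : Subgroup X := Subgroup.closure {x | ∃ u ∈ W, ∃ w ∈ W, x = sg D u w}

theorem τ_mem_GW {w : V} (hw : w ∈ W) : D.τ w ∈ GW D W := Subgroup.subset_closure ⟨w, hw, rfl⟩

theorem sg_mem_LW {u w : V} (hu : u ∈ W) (hw : w ∈ W) : sg D u w ∈ LW D W :=
  Subgroup.subset_closure ⟨u, hu, w, hw, rfl⟩

theorem LW_le_GW : LW D W ≤ GW D W := by
  rw [LW, Subgroup.closure_le]
  rintro _ ⟨u, hu, w, hw, rfl⟩
  exact mul_mem (mul_mem (τ_mem_GW hu) (τ_mem_GW hw)) (τ_mem_GW (add_mem hu hw))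

/-- alternating elements are products of short root elements -/
theorem Max.mem_LW [Finite V] (hW : Max D W) {g : X} (hg : g ∈ AW D W) (h0 : δ D g = 0) : g ∈ LW D W := by
  -- induction on the size of the fixed space
  have key : ∀ m : ℕ, ∀ g ∈ AW D W, δ D g = 0 → Nat.card V - Nat.card (LinearMap.ker (D.n g)) ≤ m →
      g ∈ LW D W := by
    intro m
    induction m using Nat.strong_induction_on with
    | _ m ih =>
      intro g hg h0 hm
      have halt : ∀ x, D.B x (D.n g x) = 0 := by
        intro x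
        have h1 := B_δ (D := D) (hW.sq hg) x
        rw [h0, map_zero, D.ρ_eq g x, map_add, D.alt, zero_add] at h1
        exact h1.symm
      by_cases h1 : ∀ x, D.n g x = 0
      · rw [D.eq_one_of_n h1]
        exact one_mem _
      · push Not at h1
        obtain ⟨x, hx⟩ := h1
        have : ∃ y, D.B y (D.n g x) = 1 := by
          by_contra hn
          push Not at hn
          apply hx
          apply D.nondeg
          intro w
          rw [D.symm]
          rcases z2 (D.B w (D.n g x)) with h | h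
          · exact h
          · exact absurd h (hn w)
        obtain ⟨y, hy⟩ := this
        set u := D.n g x with hu
        set w := D.n g y with hw
        have huW : u ∈ W := hW.n_mem hg x
        have hwW : w ∈ W := hW.n_mem hg y
        have huw : D.B u w = 0 := hW.perp huW hwW
        have hxw : D.B x w = 1 := by
          rw [hw, D.n_adj (hW.sq hg), D.symm]
          exact hy
        have hxu : D.B x u = 0 := halt x
        have hyw : D.B y w = 0 := halt y
        have hs := hW.sg_mem huW hwW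
        set g' := sg D u w * g with hg'
        have hg'W : g' ∈ AW D W := mul_mem hs hg
        have h0' : δ D g' = 0 := by rw [hg', hW.δ_mul hs hg, δ_sg huw, h0, add_zero]
        have hn' : ∀ z, D.n g' z = D.B z w • u + D.B z u • w + D.n g z := by
          intro z
          rw [hg', hW.n_mul hs hg, D.n_apply (sg D u w), ρ_sg D huw]
          congr 1
          rw [add_comm z, add_assoc, aa, add_zero]
        have hle : LinearMap.ker (D.n g) < LinearMap.ker (D.n g') := by
          refine lt_of_le_of_ne (fun z hz => ?_) (fun h => ?_)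
          · rw [LinearMap.mem_ker] at hz ⊢
            have hzw : D.B z w = 0 := by
              rw [hw, D.n_adj (hW.sq hg), hz, map_zero, LinearMap.zero_apply]
            have hzu : D.B z u = 0 := by
              rw [hu, D.n_adj (hW.sq hg), hz, map_zero, LinearMap.zero_apply]
            rw [hn', hzw, hzu, hz, zero_smul, zero_smul, add_zero, add_zero]
          · have hx' : x ∈ LinearMap.ker (D.n g') := by
              rw [LinearMap.mem_ker, hn', hxw, hxu, one_smul, zero_smul, add_zero]
              exact aa u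
            rw [← h, LinearMap.mem_ker] at hx'
            exact hx hx'
        have hcard := SpData.two_mul_card_le hle
        have hpos : 0 < Nat.card (LinearMap.ker (D.n g)) := Nat.card_pos
        have hle' : Nat.card (LinearMap.ker (D.n g')) ≤ Nat.card V :=
          Nat.card_le_card_of_injective _ Subtype.val_injective
        have h2 := ih (Nat.card V - Nat.card (LinearMap.ker (D.n g'))) (by omega) g' hg'W h0' le_rfl
        have h3 : g = (sg D u w)⁻¹ * g' := by rw [hg', inv_mul_cancel_left]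
        rw [h3]
        exact mul_mem (inv_mem (sg_mem_LW huW hwW)) h2
  exact key _ g hg h0 le_rfl

theorem Max.AW_eq_GW [Finite V] (hW : Max D W) : AW D W = GW D W := by
  apply le_antisymm
  · intro g hg
    have h1 : δ D (D.τ (δ D g) * g) = 0 := by
      rw [hW.δ_mul (hW.τ_mem (hW.δ_mem hg)) hg, δ_τ, aa]
    have h2 := hW.mem_LW (mul_mem (hW.τ_mem (hW.δ_mem hg)) hg) h1
    have h3 : g = (D.τ (δ D g))⁻¹ * (D.τ (δ D g) * g) := by rw [inv_mul_cancel_left]
    rw [h3]
    exact mul_mem (inv_mem (τ_mem_GW (hW.δ_mem hg))) (LW_le_GW h2)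
  · rw [GW, Subgroup.closure_le]
    rintro _ ⟨w, hw, rfl⟩
    exact hW.τ_mem hw

end Cfsg.Agent.OddHalf.SpTwoN.Iso
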