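import Cfsg.Agent.OddHalf.SpTwoN.LBEx

/-!
# Pattern `{m}`: only the products of two commuting transvections are moved

There is no `n` normalising `Z = {1, b_p, a_{p,w}, m = b_p a_{p,w}}` with `t ^ n = t m`.
-/

set_option autoImplicit false

namespace Cfsg.Agent.OddHalf.SpTwoN.PatM

open Cfsg.Agent.StandardComponent.SpTwo Cfsg.Agent.OddHalf.SpTwoN.LBAlg Cfsg.Agent.OddHalf.SpTwoN.LBDef
open Cfsg.Agent.OddHalf.SpTwoN.LBEx

section Alg

variable {X V : Type*} [Group X] [AddCommGroup V] [Module (ZMod 2) V] (D : SpData X V)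

/-- stabiliser of `p` and of `w` modulo `p` -/
def St (p w : V) (g : X) : Prop := D.ρ g p = p ∧ ∃ e : ZMod 2, D.ρ g w = w + e • p

theorem St.mul {p w : V} {g h : X} (hg : St D p w g) (hh : St D p w h) : St D p w (g * h) := by
  obtain ⟨h1, e1, h2⟩ := hg
  obtain ⟨h3, e2, h4⟩ := hh
  refine ⟨by rw [D.ρ_mul, h3, h1], e1 + e2, ?_⟩
  rw [D.ρ_mul, h4, map_add, h2, map_smul, h1, add_smul, add_assoc]

theorem St.one {p w : V} : St D p w (1 : X) := ⟨D.ρ_one p, 0, by rw [D.ρ_one, zero_smul, add_zero]⟩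

/-- an involution all of whose conjugates commute centralises `L^⊥ / p` -/
theorem fix_of_comm [Finite V] {p w : V} (hp : p ≠ 0) (hw : w ≠ 0) (hpw : w ≠ p) (hB : D.B p w = 0) {l : X}
    (hl2 : l * l = 1) (hl : St D p w l)
    (hc : ∀ g h : X, St D p w g → St D p w h → Commute (g * l * g⁻¹) (h * l * h⁻¹))
    {y : V} (hy1 : D.B p y = 0) (hy2 : D.B w y = 0) : ∃ c : ZMod 2, D.ρ l y = y + c • p := by
  by_contra hcon
  push Not at hcon
  obtain ⟨hlp, e, hlw⟩ := hl
  have hBw : D.B w p = 0 := (D.symm w p).trans hB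
  have hli : l⁻¹ = l := inv_eq_of_mul_eq_one_right hl2
  -- `y ∉ L`
  have hyL : y ∉ Submodule.span (ZMod 2) ({p, w} : Set V) := by
    rw [mem_pair]
    rintro (rfl | rfl | rfl | rfl)
    · exact hcon 0 (by rw [map_zero, zero_smul, add_zero])
    · exact hcon 0 (by rw [hlp, zero_smul, add_zero])
    · exact hcon e hlw
    · apply hcon e
      rw [map_add, hlp, hlw]; abel
  have hyp : D.B y p = 0 := (D.symm y p).trans hy1
  have hyw : D.B y w = 0 := (D.symm y w).trans hy2
  have hly1 : D.B p (D.ρ l y) = 0 := by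
    nth_rw 1 [← hlp]
    rw [D.inv, hy1]
  have hly2 : D.B w (D.ρ l y) = 0 := by
    have h1 : w = D.ρ l w + e • p := by
      rw [hlw, add_assoc, aa, add_zero]
    nth_rw 1 [h1]
    rw [map_add, LinearMap.add_apply, D.inv, hy2, map_smul, LinearMap.smul_apply, hly1, smul_zero, add_zero]
  have hty : St D p w (D.τ y) := by
    refine ⟨by rw [D.hτ, hy1, zero_smul, add_zero], 0, ?_⟩
    rw [D.hτ, hy2, zero_smul, zero_smul]
  have h4 : D.τ y * l * (D.τ y)⁻¹ = D.τ y * D.τ (D.ρ l y) * l := by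
    rw [D.τ_inv, ← D.conj_τ]; group
  have he : D.τ y * l * (D.τ y)⁻¹ * l = D.τ y * D.τ (D.ρ l y) := by
    rw [h4, mul_assoc, hl2, mul_one]
  -- `y ⊥ l y`
  have h2 : D.B y (D.ρ l y) = 0 := by
    have h3 := hc 1 (D.τ y) (St.one D) hty
    rw [one_mul, inv_one, mul_one, h4] at h3
    have h5 : Commute l (D.τ y * D.τ (D.ρ l y)) := by
      have := h3.mul_right (Commute.refl l).inv_right
      rwa [mul_inv_cancel_right] at this
    have h6 : l * (D.τ y * D.τ (D.ρ l y)) * l⁻¹ = D.τ (D.ρ l y) * D.τ y := by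
      have e : l * (D.τ y * D.τ (D.ρ l y)) * l⁻¹ = (l * D.τ y * l⁻¹) * (l * D.τ (D.ρ l y) * l⁻¹) := by group
      rw [e, D.conj_τ, D.conj_τ, ← D.ρ_mul, hl2, D.ρ_one]
    rw [h5.eq, mul_inv_cancel_right] at h6
    exact (τ_commute_iff D).1 h6
  -- the conjugates of `e_y` commute
  have hee : ∀ g h : X, St D p w g → St D p w h →
      Commute (g * (D.τ y * D.τ (D.ρ l y)) * g⁻¹) (h * (D.τ y * D.τ (D.ρ l y)) * h⁻¹) := by
    intro g h hg hh
    rw [← he]
    have e1 : ∀ g : X, g * (D.τ y * l * (D.τ y)⁻¹ * l) * g⁻¹ =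
      (g * D.τ y) * l * (g * D.τ y)⁻¹ * (g * l * g⁻¹) := by intro g; group
    rw [e1, e1]
    exact ((hc _ _ (hg.mul D hty) (hh.mul D hty)).mul_right (hc _ _ (hg.mul D hty) hh)).mul_left
      ((hc _ _ hg (hh.mul D hty)).mul_right (hc _ _ hg hh))
  have hconj : ∀ g x z : X, g * (x * z) * g⁻¹ = (g * x * g⁻¹) * (g * z * g⁻¹) := by
    intro g x z; group
  by_cases hyl : y + D.ρ l y ∈ Submodule.span (ZMod 2) ({p, w} : Set V)
  · -- case B
    obtain ⟨w1, hw1, hw1p, hw1y⟩ : ∃ w1, (w1 = w ∨ w1 = w + p) ∧ D.ρ l y = y + w1 ∧ w1 ≠ p := by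
      rw [mem_pair] at hyl
      rcases hyl with h | h | h | h
      · exact absurd (by rw [zero_smul, add_zero]; exact (eq_of_add _ _ h).symm) (hcon 0)
      · refine absurd ?_ (hcon 1)
        rw [one_smul, ← h, aac]
      · refine ⟨w, Or.inl rfl, ?_, hpw⟩
        rw [← h, aac]
      · refine ⟨w + p, Or.inr rfl, ?_, ?_⟩
        · rw [add_comm w p, ← h, aac]
        · intro h'
          exact hw (by simpa using h')
    have a1 : D.B w1 p = 0 := by rcases hw1 with rfl | rfl <;> simp [hBw, D.alt]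
    have a1' : D.B p w1 = 0 := (D.symm p w1).trans a1
    have a2 : D.B w1 y = 0 := by
      rcases hw1 with rfl | rfl <;> simp only [map_add, LinearMap.add_apply, hy1, hy2, add_zero]
    have a2' : D.B y w1 = 0 := (D.symm y w1).trans a2
    have hw10 : w1 ≠ 0 := by
      rcases hw1 with rfl | rfl
      · exact hw
      · intro h; exact hpw (eq_of_add _ _ h)
    obtain ⟨z, hz, hzy⟩ := exists_sep_sub D hyL
    have hzp : D.B p z = 0 := hz p (Submodule.subset_span (by simp))
    have hzw : D.B w z = 0 := hz w (Submodule.subset_span (by simp))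
    have hzw1 : D.B w1 z = 0 := by rcases hw1 with rfl | rfl <;> simp [hzp, hzw]
    obtain ⟨f, hf1, hf2⟩ := D.exists_sep hw hpw
    rw [D.symm] at hf1 hf2
    have hfw1 : D.B w1 f = 1 := by rcases hw1 with rfl | rfl <;> simp [hf1, hf2]
    have hsz : St D p w (D.τ z) := by
      refine ⟨by rw [D.hτ, hzp, zero_smul, add_zero], 0, ?_⟩
      rw [D.hτ, hzw, zero_smul, zero_smul]
    have hsf : St D p w (A D p f) := by
      refine ⟨?_, 1, ?_⟩
      · rw [A_apply D hf2, D.alt, hf2, zero_smul, zero_smul, add_zero, add_zero]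
      · rw [A_apply D hf2, hBw, hf1, zero_smul, add_zero]
    have hey : D.τ y * D.τ (D.ρ l y) = D.τ w1 * A D w1 y := by
      rw [hw1p, τ_add D w1 y, ← mul_assoc, ← mul_assoc, D.τ_sq, one_mul]
    have hcm := hee (D.τ z) (A D p f) hsz hsf
    rw [hey, hconj, hconj, D.conj_τ, D.conj_τ, conj_A, conj_A] at hcm
    have r1 : D.ρ (D.τ z) w1 = w1 := by rw [D.hτ, hzw1, zero_smul, add_zero]
    have r2 : D.ρ (D.τ z) y = y + z := by rw [D.hτ, hzy, one_smul]
    have r3 : D.ρ (A D p f) w1 = w1 + p := by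
      rw [A_apply D hf2, a1, hfw1, zero_smul, one_smul, add_zero]
    have r4 : D.ρ (A D p f) y = y + D.B y f • p := by
      rw [A_apply D hf2, hyp, zero_smul, add_zero]
    rw [r1, r2, r3, r4] at hcm
    set c := D.B y f with hcdef
    -- conjugate the first by the second
    have o1 : D.B (w1 + p) (y + c • p) = 0 := by
      simp only [map_add, LinearMap.add_apply, map_smul, a2, hy1, a1, D.alt, smul_zero, add_zero]
    have r5 : D.ρ (D.τ (w1 + p) * A D (w1 + p) (y + c • p)) w1 = w1 := by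
      rw [D.ρ_mul, A_apply D o1, D.hτ]
      simp only [map_add, LinearMap.add_apply, map_smul, LinearMap.smul_apply, D.alt, a1, a1', a2, a2', hy1, hyp,
        smul_zero, add_zero, zero_smul]
    have r6 : D.ρ (D.τ (w1 + p) * A D (w1 + p) (y + c • p)) (y + z) = y + z + (w1 + p) := by
      have b1 : D.B (y + z) (w1 + p) = 0 := by
        simp only [map_add, LinearMap.add_apply, a2', hyp, D.symm z w1, hzw1, D.symm z p, hzp, add_zero]
      have b2 : D.B (y + z) (y + c • p) = 1 := by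
        simp only [map_add, LinearMap.add_apply, map_smul, D.alt, hyp, D.symm z y, hzy, D.symm z p, hzp, smul_zero,
          add_zero, zero_add]
      rw [D.ρ_mul, A_apply D o1, b1, b2, zero_smul, add_zero, one_smul, D.hτ]
      have b3 : D.B (y + z + (w1 + p)) (w1 + p) = 0 := by
        rw [D.B.map_add, LinearMap.add_apply, b1, D.alt, add_zero]
      rw [b3, zero_smul, add_zero]
    set E2 := D.τ (w1 + p) * A D (w1 + p) (y + c • p) with hE2
    have h7 : E2 * (D.τ w1 * A D w1 (y + z)) * E2⁻¹ = D.τ w1 * A D w1 (y + z + (w1 + p)) := by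
      rw [hconj, D.conj_τ, conj_A, r5, r6]
    rw [← hcm.eq, mul_inv_cancel_right] at h7
    obtain ⟨e', he'⟩ := Q_inj D (v := w1) (c := 1) (c' := 1) hw10
      (u := y + z) (u' := y + z + (w1 + p)) (by rw [map_add, a2, hzw1, add_zero])
      (by simp only [map_add, a2, hzw1, D.alt, a1, add_zero]) (by rw [one_smul]; exact h7)
    have h8 := add_left_cancel he'
    rcases z2 e' with h9 | h9 <;> rw [h9] at h8
    · rw [zero_smul] at h8
      exact hw1y (eq_of_add _ _ h8)
    · rw [one_smul] at h8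
      exact hp (by simpa using h8)
  · -- case A
    have hyK : y ∉ Submodule.span (ZMod 2) ({p, w} : Set V) ⊔ Submodule.span (ZMod 2) {D.ρ l y} := by
      rw [Submodule.mem_sup]
      rintro ⟨x, hx, x', hx', h⟩
      rw [Submodule.mem_span_singleton] at hx'
      obtain ⟨c, rfl⟩ := hx'
      rcases z2 c with hc0 | hc0 <;> rw [hc0] at h
      · rw [zero_smul, add_zero] at h
        exact hyL (h ▸ hx)
      · rw [one_smul] at h
        apply hyl
        have h' : y + D.ρ l y = x := by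
          calc y + D.ρ l y = (x + D.ρ l y) + D.ρ l y := by rw [h]
            _ = x := aab _ _
        rw [h']
        exact hx
    obtain ⟨z, hz, hzy⟩ := exists_sep_sub D hyK
    have hzp : D.B p z = 0 := hz p (Submodule.mem_sup_left (Submodule.subset_span (by simp)))
    have hzw : D.B w z = 0 := hz w (Submodule.mem_sup_left (Submodule.subset_span (by simp)))
    have hzl : D.B (D.ρ l y) z = 0 := hz _ (Submodule.mem_sup_right (Submodule.mem_span_singleton_self _))
    have hsz : St D p w (D.τ z) := by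
      refine ⟨by rw [D.hτ, hzp, zero_smul, add_zero], 0, ?_⟩
      rw [D.hτ, hzw, zero_smul, zero_smul]
    have hcm := hee 1 (D.τ z) (St.one D) hsz
    rw [one_mul, inv_one, mul_one, hconj, D.conj_τ, D.conj_τ, D.hτ, D.hτ, hzy, hzl, one_smul, zero_smul,
      add_zero] at hcm
    have hc1 : Commute (D.τ (D.ρ l y)) (D.τ y) := (τ_commute_iff D).2 ((D.symm _ _).trans h2)
    have hc2 : Commute (D.τ (D.ρ l y)) (D.τ (y + z)) := by
      rw [τ_commute_iff, map_add, D.symm _ y, h2, hzl, add_zero]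
    have hc3 : Commute (D.τ y) (D.τ (y + z) * D.τ (D.ρ l y)) := by
      have := hcm.mul_left (hc2.mul_right (Commute.refl _)).inv_left
      rwa [mul_inv_cancel_right] at this
    have hc4 : Commute (D.τ y) (D.τ (y + z)) := by
      have := hc3.mul_right hc1.symm.inv_right
      rwa [mul_inv_cancel_right] at this
    rw [τ_commute_iff, map_add, D.alt, hzy] at hc4
    exact absurd hc4 (by decide)

end Alg

section Main

variable {G V : Type*} [Group G] [AddCommGroup V] [Module (ZMod 2) V]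

/-- `n` normalises `Z = {1, b_p, a_{p,w}, b_p a_{p,w}}` and moves `t` to `t b_p a_{p,w}` -/
structure MvM (C : Ctx G V) (p w : V) (n : G) : Prop where
  hp : p ≠ 0
  hw : w ≠ 0
  hpw : w ≠ p
  hB : C.S.B p w = 0
  ht : n * C.t * n⁻¹ = C.t * (C.b p * a C p w)
  hm : n * (C.b p * a C p w) * n⁻¹ = C.b p * a C p w
  hb : n * C.b p * n⁻¹ = C.b p ∨ n * C.b p * n⁻¹ = a C p w

variable {C : Ctx G V} {p w : V} {n : G}

/-- the centraliser of `t` and `Z` -/
def N1 (C : Ctx G V) (p w : V) (x : G) : Prop := Commute x C.t ∧ Commute x (C.b p) ∧ Commute x (a C p w)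

namespace MvM

theorem N1_cases (M : MvM C p w n) {x : G} (h : N1 C p w x) :
    ∃ l : C.L, St C.S p w l ∧ (x = l ∨ x = C.t * l) := by
  obtain ⟨h1, h2, h3⟩ := h
  obtain ⟨l, hl, hx, ha⟩ := n1_conj_a h1 h2
  refine ⟨l, ⟨hl, ?_⟩, hx⟩
  have h4 := ha w
  rw [h3.eq, mul_inv_cancel_right] at h4
  have hlw : C.S.B p (C.S.ρ l w) = 0 := by
    nth_rw 1 [← hl]
    rw [C.S.inv, M.hB]
  exact LBEx.Q_inj C.S (c := 0) (c' := 0) M.hp M.hB hlw (by
    rw [zero_smul, C.S.τ_zero, one_mul, one_mul]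
    exact Subtype.ext h4)

theorem N1_of_St {l : C.L} (M : MvM C p w n) (h : St C.S p w l) : N1 C p w l := by
  obtain ⟨h1, e, h2⟩ := h
  have h3 := C.b_conj l p
  rw [h1, mul_inv_eq_iff_eq_mul] at h3
  have h4 := l_conj_a C l p w
  have h5 : a C p (w + e • p) = a C p w := by
    rcases z2 e with h | h <;> rw [h]
    · rw [zero_smul, add_zero]
    · rw [one_smul, a_add_self C M.hB]
  rw [h1, h2, h5, mul_inv_eq_iff_eq_mul] at h4
  exact ⟨C.commute_of_mem l.2, h3, h4⟩

theorem hba (M : MvM C p w n) : n * a C p w * n⁻¹ = C.b p ∨ n * a C p w * n⁻¹ = a C p w := by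
  have h1 : n * a C p w * n⁻¹ = (n * C.b p * n⁻¹)⁻¹ * (n * (C.b p * a C p w) * n⁻¹) := by group
  rw [h1, M.hm]
  rcases M.hb with h | h <;> rw [h]
  · right
    rw [inv_mul_cancel_left]
  · left
    rw [a_inv C M.hB, (b_a_comm C M.hB).eq, ← mul_assoc, a_sq C M.hB, one_mul]

theorem htm (M : MvM C p w n) : n * (C.t * (C.b p * a C p w)) * n⁻¹ = C.t := by
  have e : n * (C.t * (C.b p * a C p w)) * n⁻¹ = (n * C.t * n⁻¹) * (n * (C.b p * a C p w) * n⁻¹) := by group
  have h1 : C.b p * a C p w * (C.b p * a C p w) = 1 := by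
    calc C.b p * a C p w * (C.b p * a C p w) = C.b p * (a C p w * C.b p) * a C p w := by group
      _ = C.b p * C.b p * (a C p w * a C p w) := by rw [← (b_a_comm C M.hB).eq]; group
      _ = 1 := by rw [C.b_sq, a_sq C M.hB, one_mul]
  rw [e, M.ht, M.hm, mul_assoc, h1, mul_one]

theorem inv (M : MvM C p w n) : MvM C p w n⁻¹ where
  hp := M.hp
  hw := M.hw
  hpw := M.hpw
  hB := M.hB
  ht := by
    have h := M.htm
    calc n⁻¹ * C.t * n⁻¹⁻¹ = n⁻¹ * (n * (C.t * (C.b p * a C p w)) * n⁻¹) * n⁻¹⁻¹ := by rw [h]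
      _ = _ := by group
  hm := by
    have h := M.hm
    calc n⁻¹ * (C.b p * a C p w) * n⁻¹⁻¹ = n⁻¹ * (n * (C.b p * a C p w) * n⁻¹) * n⁻¹⁻¹ := by rw [h]
      _ = _ := by group
  hb := by
    rcases M.hb with h | h
    · left
      calc n⁻¹ * C.b p * n⁻¹⁻¹ = n⁻¹ * (n * C.b p * n⁻¹) * n⁻¹⁻¹ := by rw [h]
        _ = _ := by group
    · right
      rcases M.hba with h1 | h1
      · calc n⁻¹ * C.b p * n⁻¹⁻¹ = n⁻¹ * (n * a C p w * n⁻¹) * n⁻¹⁻¹ := by rw [h1]
          _ = _ := by group
      · exfalso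
        have h2 : C.b p = a C p w := by
          have := h.trans h1.symm
          exact mul_left_cancel (mul_right_cancel this)
        have h3 : LBAlg.A C.S p w = C.S.τ p := Subtype.ext h2.symm
        obtain ⟨e, he⟩ := LBEx.Q_inj C.S (c := 1) (c' := 0) (u := 0) (u' := w) M.hp (map_zero _) M.hB (by
          rw [one_smul, zero_smul, A_zero, mul_one, C.S.τ_zero, one_mul, h3])
        rcases z2 e with h4 | h4 <;> rw [h4] at he
        · exact M.hw (by simpa using he)
        · exact M.hpw (by simpa using he)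

theorem n1 (M : MvM C p w n) {x : G} (h : N1 C p w x) : N1 C p w (n * x * n⁻¹) := by
  obtain ⟨h1, h2, h3⟩ := h
  have h4 := comm_conj n (h1.mul_right (h2.mul_right h3))
  rw [M.htm] at h4
  have h5 := comm_conj n h2
  have h6 := comm_conj n h3
  refine ⟨h4, ?_, ?_⟩
  · rcases M.hb with h | h
    · rw [h] at h5; exact h5
    · rcases M.hba with h' | h'
      · rw [h'] at h6; exact h6
      · -- `b_p = a`
        rw [← h', ← h] at h6
        have h7 := comm_conj n (h2.mul_right h3)
        rw [M.hm] at h7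
        rw [h] at h5
        have := h7.mul_right h5.inv_right
        rwa [mul_inv_cancel_right] at this
  · rcases M.hba with h | h
    · rcases M.hb with h' | h'
      · have h7 := comm_conj n (h2.mul_right h3)
        rw [M.hm] at h7
        rw [h'] at h5
        have := h5.inv_right.mul_right h7
        rwa [inv_mul_cancel_left] at this
      · rw [h'] at h5; exact h5
    · rw [h] at h6; exact h6

end MvM

/-- involutions of `N1` all of whose conjugates commute -/
structure CC (C : Ctx G V) (p w : V) (x : G) : Prop where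
  n1 : N1 C p w x
  sq : x * x = 1
  comm : ∀ g h, N1 C p w g → N1 C p w h → Commute (g * x * g⁻¹) (h * x * h⁻¹)

theorem N1.mul {x y : G} (hx : N1 C p w x) (hy : N1 C p w y) : N1 C p w (x * y) :=
  ⟨hx.1.mul_left hy.1, hx.2.1.mul_left hy.2.1, hx.2.2.mul_left hy.2.2⟩

theorem MvM.cc (M : MvM C p w n) {x : G} (h : CC C p w x) : CC C p w (n * x * n⁻¹) := by
  refine ⟨M.n1 h.n1, ?_, ?_⟩
  · calc n * x * n⁻¹ * (n * x * n⁻¹) = n * (x * x) * n⁻¹ := by group
      _ = 1 := by rw [h.sq]; group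
  · intro g k hg hk
    have e : ∀ g, g * (n * x * n⁻¹) * g⁻¹ = n * ((n⁻¹ * g * n) * x * (n⁻¹ * g * n)⁻¹) * n⁻¹ := by
      intro g; group
    have hg' := M.inv.n1 hg
    have hk' := M.inv.n1 hk
    rw [inv_inv] at hg' hk'
    rw [e, e]
    exact comm_conj n (h.comm _ _ hg' hk')

/-- elements of `CC` centralise `a_{p,y}`, `y ∈ L^⊥` -/
theorem CC.comm_a [Finite V] (M : MvM C p w n) {x : G} (h : CC C p w x) {y : V} (hy1 : C.S.B p y = 0)
    (hy2 : C.S.B w y = 0) : Commute x (a C p y) := by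
  obtain ⟨l, hl, hx⟩ := M.N1_cases h.n1
  have hlt := (C.commute_of_mem l.2).eq
  have hl2 : l * l = 1 := by
    apply Subtype.ext
    change (l : G) * l = 1
    have hsq := h.sq
    rcases hx with h | h
    · rw [← h]; exact hsq
    · rw [h] at hsq
      calc (l : G) * l = C.t * C.t * ((l : G) * l) := by rw [C.tt, one_mul]
        _ = C.t * (C.t * l) * l := by group
        _ = C.t * ((l : G) * C.t) * l := by rw [hlt]
        _ = C.t * l * (C.t * l) := by group
        _ = 1 := hsq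
  have key : ∀ g : C.L, St C.S p w g →
      (g : G) * l * (g : G)⁻¹ = g * x * (g : G)⁻¹ ∨ (g : G) * l * (g : G)⁻¹ = C.t * (g * x * (g : G)⁻¹) := by
    intro g hg
    rcases hx with h | h
    · left; rw [h]
    · right
      have hgt := (C.commute_of_mem g.2).eq
      rw [h]
      calc (g : G) * l * (g : G)⁻¹ = C.t * C.t * ((g : G) * l * (g : G)⁻¹) := by rw [C.tt, one_mul]
        _ = C.t * (C.t * g) * l * (g : G)⁻¹ := by group
        _ = C.t * ((g : G) * C.t) * l * (g : G)⁻¹ := by rw [hgt]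
        _ = _ := by group
  have hc : ∀ g k : C.L, St C.S p w g → St C.S p w k → Commute (g * l * g⁻¹) (k * l * k⁻¹) := by
    intro g k hg hk
    have h5 := h.comm _ _ (M.N1_of_St hg) (M.N1_of_St hk)
    have h6 : ∀ g : C.L, Commute ((g : G) * x * (g : G)⁻¹) C.t := by
      intro g
      have hgt := C.commute_of_mem g.2
      exact (hgt.mul_left h.n1.1).mul_left hgt.inv_left
    have h8 : Commute ((g * l * g⁻¹ : C.L) : G) ((k * l * k⁻¹ : C.L) : G) := by
      change Commute ((g : G) * l * (g : G)⁻¹) ((k : G) * l * (k : G)⁻¹)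
      rcases key g hg with h3 | h3 <;> rcases key k hk with h4 | h4 <;> rw [h3, h4]
      · exact h5
      · exact (h6 g).mul_right h5
      · exact (h6 k).symm.mul_left h5
      · exact ((Commute.refl _).mul_right (h6 k).symm).mul_left ((h6 g).mul_right h5)
    exact Subtype.ext h8
  obtain ⟨c, hc'⟩ := fix_of_comm C.S M.hp M.hw M.hpw M.hB hl2 hl hc hy1 hy2
  have h7 := l_conj_a C l p y
  have h8 : a C p (y + c • p) = a C p y := by
    rcases z2 c with h | h <;> rw [h]
    · rw [zero_smul, add_zero]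
    · rw [one_smul, a_add_self C hy1]
  rw [hl.1, hc', h8, mul_inv_eq_iff_eq_mul] at h7
  have h9 : Commute (l : G) (a C p y) := h7
  rcases hx with rfl | rfl
  · exact h9
  · exact ((a_comm_t C p y).symm).mul_left h9

theorem cc_a (M : MvM C p w n) {y : V} (hy : C.S.B p y = 0) : CC C p w (a C p y) := by
  refine ⟨⟨a_comm_t C p y, (b_a_comm C hy).symm, a_comm C hy M.hB⟩, a_sq C hy, ?_⟩
  intro g k hg hk
  obtain ⟨l, hl, -, h1⟩ := n1_conj_a hg.1 hg.2.1
  obtain ⟨m, hm, -, h2⟩ := n1_conj_a hk.1 hk.2.1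
  rw [h1, h2]
  apply a_comm C
  · nth_rw 1 [← hl]
    rw [C.S.inv, hy]
  · nth_rw 1 [← hm]
    rw [C.S.inv, hy]

theorem cc_b (M : MvM C p w n) : CC C p w (C.b w) := by
  have hBw : C.S.B w p = 0 := (C.S.symm w p).trans M.hB
  refine ⟨⟨b_comm_t C w, (C.b_commute_iff).2 hBw, ?_⟩, C.b_sq w, ?_⟩
  · rw [a_symm C M.hB]
    exact b_a_comm C hBw
  · intro g k hg hk
    have key : ∀ g, N1 C p w g → ∃ e : ZMod 2, g * C.b w * g⁻¹ = C.b (w + e • p) := by
      intro g hg
      obtain ⟨l, ⟨-, e, he⟩, hx⟩ := M.N1_cases hg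
      refine ⟨e, ?_⟩
      rw [← he, ← C.b_conj]
      rcases hx with rfl | rfl
      · rfl
      · have h3 := (C.commute_of_mem l.2).eq
        have h4 := (b_comm_t C w).eq
        calc C.t * (l : G) * C.b w * (C.t * (l : G))⁻¹ = (C.t * l) * C.b w * (l : G)⁻¹ * C.t⁻¹ := by group
          _ = (l * C.t) * C.b w * (l : G)⁻¹ * C.t⁻¹ := by rw [h3]
          _ = l * (C.t * C.b w) * (l : G)⁻¹ * C.t⁻¹ := by group
          _ = l * (C.b w * C.t) * (l : G)⁻¹ * C.t⁻¹ := by rw [h4]
          _ = l * C.b w * (C.t * (l : G)⁻¹) * C.t⁻¹ := by group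
          _ = l * C.b w * ((l : G)⁻¹ * C.t) * C.t⁻¹ := by rw [((C.commute_of_mem l.2).inv_left).eq]
          _ = _ := by group
    obtain ⟨e, he⟩ := key g hg
    obtain ⟨f, hf⟩ := key k hk
    rw [he, hf, C.b_commute_iff]
    simp only [map_add, LinearMap.add_apply, map_smul, LinearMap.smul_apply, C.S.alt, hBw, M.hB, smul_zero, add_zero]

/-- the elements of `CC` centralising `CC` -/
theorem mem_A (M : MvM C p w n) {x : G} (h : CC C p w x) (hx : ∀ y, CC C p w y → Commute x y) :
    ∃ (u : V) (c : ZMod 2), C.S.B p u = 0 ∧ C.S.B w u = 0 ∧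
      (x = C.b (c • p) * a C p u ∨ x = C.t * (C.b (c • p) * a C p u)) := by
  obtain ⟨l, hl, hxl⟩ := M.N1_cases h.n1
  have h1 : ∀ y, CC C p w y → Commute (l : G) y := by
    intro y hy
    have h2 := hx y hy
    rcases hxl with h3 | h3
    · rwa [h3] at h2
    · rw [h3] at h2
      have := (hy.n1.1.symm.inv_left).mul_left h2
      rwa [inv_mul_cancel_left] at this
  obtain ⟨u, c, hu, hlu⟩ := cent_Q C.S M.hp hl.1 (by
    intro y hy
    have h2 := h1 _ (cc_a M hy)
    have h3 := l_conj_a C l p y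
    rw [h2.eq, mul_inv_cancel_right, hl.1] at h3
    have hly : C.S.B p (C.S.ρ l y) = 0 := by
      nth_rw 1 [← hl.1]
      rw [C.S.inv, hy]
    exact LBEx.Q_inj C.S (c := 0) (c' := 0) M.hp hy hly (by
      rw [zero_smul, C.S.τ_zero, one_mul, one_mul]
      exact Subtype.ext h3))
  refine ⟨u, c, hu, ?_, ?_⟩
  · have h2 := h1 _ (cc_b M)
    have h3 : Commute (C.b w) (C.b (c • p)) := by
      rw [C.b_commute_iff, map_smul, C.S.symm w p, M.hB, smul_zero]
    have h4 : Commute (C.b w) (a C p u) := by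
      rw [hlu] at h2
      have h5 : Commute (C.b w) (C.b (c • p) * a C p u) := h2.symm
      have := h3.inv_right.mul_right h5
      rwa [inv_mul_cancel_left] at this
    have h5 := b_conj_a C (v := p) (u := u) M.hB
    rw [h4.eq, mul_inv_cancel_right] at h5
    rcases z2 (C.S.B w u) with h6 | h6
    · exact h6
    · exfalso
      rw [C.S.symm u w, h6, one_smul] at h5
      obtain ⟨e, he⟩ := LBEx.Q_inj C.S (c := 0) (c' := 0) (u := u) (u' := u + w) M.hp hu
        (by rw [map_add, hu, M.hB, add_zero]) (by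
          rw [zero_smul, C.S.τ_zero, one_mul, one_mul]
          exact Subtype.ext h5)
      have h7 := add_left_cancel he
      rcases z2 e with h8 | h8 <;> rw [h8] at h7
      · exact M.hw (by simpa using h7)
      · exact M.hpw (by simpa using h7)
  · rw [hlu] at hxl
    exact hxl

/-- the image of `a_{p,u}`, `u ∈ L^⊥ - L` -/
theorem exists_image [Finite V] (M : MvM C p w n) {u : V} (hu1 : C.S.B p u = 0) (hu2 : C.S.B w u = 0)
    (huL : u ∉ Submodule.span (ZMod 2) ({p, w} : Set V)) :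
    ∃ (u' : V) (c : ZMod 2), C.S.B p u' = 0 ∧ C.S.B w u' = 0 ∧ n * a C p u * n⁻¹ = C.b (c • p) * a C p u' := by
  have h1 := M.cc (cc_a M hu1)
  obtain ⟨u', c, h2, h3, h4⟩ := mem_A M h1 (by
    intro y hy
    have h5 := M.inv.cc hy
    have h6 := comm_conj n (h5.comm_a M hu1 hu2)
    have e : n * (n⁻¹ * y * n⁻¹⁻¹) * n⁻¹ = y := by group
    rw [e] at h6
    exact h6.symm)
  refine ⟨u', c, h2, h3, ?_⟩
  rcases h4 with h4 | h4
  · exact h4
  exfalso
  obtain ⟨z, hz, hzu⟩ := exists_sep_sub C.S huL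
  have hzp : C.S.B p z = 0 := hz p (Submodule.subset_span (by simp))
  have hzw : C.S.B w z = 0 := hz w (Submodule.subset_span (by simp))
  have h5 := Mv.comm_eq (C := C) (v := p) (w := u) (u := z) hu1 hzp ((C.S.symm z u).trans hzu)
  have hub : N1 C p w (C.b u) := by
    refine ⟨b_comm_t C u, (C.b_commute_iff).2 ((C.S.symm u p).trans hu1), ?_⟩
    have := b_conj_a C (v := p) (u := w) hu1
    rw [hu2, zero_smul, add_zero, mul_inv_eq_iff_eq_mul] at this
    exact this
  have h6 := (M.n1 hub).1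
  have h7 := (M.n1 (cc_a M hzp).n1).1
  have h8 : sg C ((n * C.b p * n⁻¹) * (n * a C p u * n⁻¹)) = 0 := by
    rw [← Mv.sg_comm h6 h7]
    congr 1
    calc (n * C.b p * n⁻¹) * (n * a C p u * n⁻¹) = n * (C.b p * a C p u) * n⁻¹ := by group
      _ = _ := by rw [h5]; group
  have h9 : n * C.b p * n⁻¹ ∈ C.L := by
    rcases M.hb with h | h <;> rw [h]
    · exact C.b_mem p
    · exact a_mem C p w
  rw [sg_mul C (C.commute_of_mem h9) (M.n1 (cc_a M hu1).n1).1, sg_of_mem C h9, h4,
    sg_t_mul C (C.L.mul_mem (C.b_mem _) (a_mem C p u'))] at h8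
  exact absurd h8 (by decide)

theorem card_single_le [Finite V] (x : V) : Nat.card (Submodule.span (ZMod 2) {x}) ≤ 2 := by
  have h := card_span_le (V := V) ({x} : Finset V)
  rw [Finset.coe_singleton, Finset.card_singleton, pow_one] at h
  exact h

theorem card_pair_le [Finite V] (x y : V) : Nat.card (Submodule.span (ZMod 2) ({x, y} : Set V)) ≤ 4 := by
  classical
  have h := card_span_le (V := V) ({x, y} : Finset V)
  rw [Finset.coe_pair] at h
  exact h.trans (Nat.pow_le_pow_right (by norm_num) Finset.card_le_two)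

theorem card_sup_le [Finite V] (S T : Submodule (ZMod 2) V) : Nat.card (S ⊔ T : Submodule (ZMod 2) V) ≤
    Nat.card S * Nat.card T := by
  rw [← Nat.card_prod]
  apply Nat.card_le_card_of_surjective (fun x : S × T => (⟨(x.1 : V) + x.2,
    Submodule.add_mem_sup x.1.2 x.2.2⟩ : (S ⊔ T : Submodule (ZMod 2) V)))
  rintro ⟨x, hx⟩
  obtain ⟨s, hs, t, ht, rfl⟩ := Submodule.mem_sup.1 hx
  exact ⟨(⟨s, hs⟩, ⟨t, ht⟩), rfl⟩

theorem b_smul_cases (c : ZMod 2) (v : V) : C.b (c • v) = 1 ∨ C.b (c • v) = C.b v := by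
  rcases z2 c with h | h <;> rw [h]
  · left; rw [zero_smul, C.b_zero]
  · right; rw [one_smul]

/-- `n` maps `a_{p,u}` to `b_p a_{p,u'}` -/
theorem exists_image' [Finite V] (M : MvM C p w n)
    (hna : ∀ v w, v ≠ 0 → w ≠ 0 → v ≠ w → C.S.B v w = 0 → C.t * a C v w ∉ C.D)
    (hm : ∀ v w, v ≠ 0 → w ≠ 0 → v ≠ w → C.S.B v w = 0 → C.t * (C.b v * C.b w) ∈ C.D)
    {u : V} (hu1 : C.S.B p u = 0) (hu2 : C.S.B w u = 0)
    (huL : u ∉ Submodule.span (ZMod 2) ({p, w} : Set V)) :
    ∃ u' : V, C.S.B p u' = 0 ∧ C.S.B w u' = 0 ∧ n * a C p u * n⁻¹ = C.b p * a C p u' := by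
  obtain ⟨u', c, h1, h2, h3⟩ := exists_image M hu1 hu2 huL
  refine ⟨u', h1, h2, ?_⟩
  rcases z2 c with hc | hc
  swap
  · rw [h3, hc, one_smul]
  exfalso
  rw [hc, zero_smul, C.b_zero, one_mul] at h3
  have hu0 : u ≠ 0 := by rintro rfl; exact huL (zero_mem _)
  have hup : p ≠ u := by rintro rfl; exact huL (Submodule.subset_span (by simp))
  have hna1 := hna p u M.hp hu0 hup hu1
  -- conjugate
  have h4 : n * (C.t * a C p u) * n⁻¹ = C.t * (C.b p * a C p (w + u')) := by
    calc n * (C.t * a C p u) * n⁻¹ = (n * C.t * n⁻¹) * (n * a C p u * n⁻¹) := by group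
      _ = C.t * (C.b p * (a C p w * a C p u')) := by rw [M.ht, h3]; group
      _ = _ := by rw [a_mul C M.hB h1, h2, zero_smul, C.b_zero, one_mul]
  -- `w + u' ∉ ⟨p⟩`
  have h5 : w + u' ≠ 0 ∧ w + u' ≠ p := by
    have key : a C p u' = a C p w → False := by
      intro h
      rw [h] at h3
      have h6 : a C p u = n⁻¹ * a C p w * n⁻¹⁻¹ := by rw [← h3]; group
      rcases M.inv.hba with h7 | h7 <;> rw [h7] at h6
      · obtain ⟨e, he⟩ := LBEx.Q_inj C.S (c := 0) (c' := 1) (u := u) (u' := 0) M.hp hu1 (map_zero _) (by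
          rw [zero_smul, one_smul, C.S.τ_zero, one_mul, A_zero, mul_one]
          exact Subtype.ext h6)
        rcases z2 e with h8 | h8 <;> rw [h8] at he
        · exact hu0 (by simpa using he.symm)
        · rw [one_smul] at he
          exact hup (eq_of_add _ _ he.symm).symm
      · obtain ⟨e, he⟩ := LBEx.Q_inj C.S (c := 0) (c' := 0) (u := u) (u' := w) M.hp hu1 M.hB (by
          rw [zero_smul, C.S.τ_zero, one_mul, one_mul]
          exact Subtype.ext h6)
        apply huL
        rw [mem_pair]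
        rcases z2 e with h8 | h8 <;> rw [h8] at he
        · right; right; left
          rw [he, zero_smul, add_zero]
        · right; right; right
          rw [he, one_smul, add_comm u p, aac]
    constructor
    · intro h
      apply key
      rw [eq_of_add _ _ h]
    · intro h
      apply key
      have : u' = w + p := by rw [← h, aac]
      rw [this, a_add_self C M.hB]
  have h6 : C.S.B p (w + u') = 0 := by rw [map_add, M.hB, h1, add_zero]
  have h7 := hm (w + u') (p + (w + u')) h5.1 (fun h => h5.2 (eq_of_add _ _ h).symm)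
    (fun h => M.hp (by simpa using h.symm)) (by
      rw [map_add, C.S.alt, C.S.symm, h6, add_zero])
  have h8 : C.b (w + u') * C.b (p + (w + u')) = C.b p * a C p (w + u') := by
    rw [a_eq, ← mul_assoc, ← mul_assoc, C.b_sq, one_mul]
  rw [h8, ← h4] at h7
  exact hna1 ((C.D_conj_iff n).1 h7)

/-- **Pattern `{m}` is impossible.** -/
theorem false_of [Finite V] (hV : 256 ≤ Nat.card V) (M : MvM C p w n)
    (hna : ∀ v w, v ≠ 0 → w ≠ 0 → v ≠ w → C.S.B v w = 0 → C.t * a C v w ∉ C.D)
    (hm : ∀ v w, v ≠ 0 → w ≠ 0 → v ≠ w → C.S.B v w = 0 → C.t * (C.b v * C.b w) ∈ C.D) : False := by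
  classical
  set L : Submodule (ZMod 2) V := Submodule.span (ZMod 2) ({p, w} : Set V) with hL
  have hLc : Nat.card L ≤ 4 := card_pair_le p w
  have hpL : p ∈ L := Submodule.subset_span (by simp)
  have hwL : w ∈ L := Submodule.subset_span (by simp)
  obtain ⟨u1, k1, n1⟩ := exists_out C.S (K := L) (M := L) (by
    have := Nat.mul_le_mul hLc hLc
    omega)
  obtain ⟨u2, k2, n2⟩ := exists_out C.S (K := L) (M := L ⊔ Submodule.span (ZMod 2) {u1}) (by
    have h1 := (card_sup_le L (Submodule.span (ZMod 2) {u1})).trans (Nat.mul_le_mul hLc (card_single_le u1))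
    have := Nat.mul_le_mul h1 hLc
    omega)
  obtain ⟨u3, k3, n3⟩ := exists_out C.S (K := L)
    (M := (L ⊔ Submodule.span (ZMod 2) {u1}) ⊔ Submodule.span (ZMod 2) {u2}) (by
    have h1 := (card_sup_le L (Submodule.span (ZMod 2) {u1})).trans (Nat.mul_le_mul hLc (card_single_le u1))
    have h2 := (card_sup_le (L ⊔ Submodule.span (ZMod 2) {u1}) (Submodule.span (ZMod 2) {u2})).trans
      (Nat.mul_le_mul h1 (card_single_le u2))
    have := Nat.mul_le_mul h2 hLc
    omega)
  have m1 : u1 ∈ L ⊔ Submodule.span (ZMod 2) {u1} :=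
    Submodule.mem_sup_right (Submodule.mem_span_singleton_self _)
  have m2 : u2 ∈ (L ⊔ Submodule.span (ZMod 2) {u1}) ⊔ Submodule.span (ZMod 2) {u2} :=
    Submodule.mem_sup_right (Submodule.mem_span_singleton_self _)
  have m1' : u1 ∈ (L ⊔ Submodule.span (ZMod 2) {u1}) ⊔ Submodule.span (ZMod 2) {u2} :=
    Submodule.mem_sup_left m1
  have l1 : ∀ x ∈ L, x ∈ L ⊔ Submodule.span (ZMod 2) {u1} := fun x hx => Submodule.mem_sup_left hx
  have l2 : ∀ x ∈ L, x ∈ (L ⊔ Submodule.span (ZMod 2) {u1}) ⊔ Submodule.span (ZMod 2) {u2} :=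
    fun x hx => Submodule.mem_sup_left (l1 x hx)
  have n2' : u2 ∉ L := fun h => n2 (l1 _ h)
  have n3' : u3 ∉ L := fun h => n3 (l2 _ h)
  have n12 : u1 + u2 ∉ L := fun h => n2 (by
    have := add_mem (l1 _ h) m1
    rwa [add_comm u1 u2, aab] at this)
  have n13 : u1 + u3 ∉ L := fun h => n3 (by
    have := add_mem (l2 _ h) m1'
    rwa [add_comm u1 u3, aab] at this)
  have n23 : u2 + u3 ∉ L := fun h => n3 (by
    have := add_mem (l2 _ h) m2
    rwa [add_comm u2 u3, aab] at this)
  have n123 : u1 + (u2 + u3) ∉ L := fun h => n3 (by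
    have := add_mem (l2 _ h) (add_mem m1' m2)
    rwa [show u1 + (u2 + u3) + (u1 + u2) = u3 + (u1 + u2) + (u1 + u2) by abel, aab] at this)
  -- the map `β`
  have hβ : ∀ u : V, ∃ u' : V, (∀ k ∈ L, C.S.B k u = 0) → u ∉ L →
      (C.S.B p u' = 0 ∧ C.S.B w u' = 0 ∧ n * a C p u * n⁻¹ = C.b p * a C p u') := by
    intro u
    by_cases h1 : ∀ k ∈ L, C.S.B k u = 0
    · by_cases h2 : u ∈ L
      · exact ⟨0, fun _ h => absurd h2 h⟩
      · obtain ⟨u', h⟩ := exists_image' M hna hm (h1 p hpL) (h1 w hwL) h2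
        exact ⟨u', fun _ _ => h⟩
    · exact ⟨0, fun h => absurd h h1⟩
  choose β hβ using hβ
  have hBwp : C.S.B w p = 0 := (C.S.symm w p).trans M.hB
  -- the product relation
  have key : ∀ u u' : V, (∀ k ∈ L, C.S.B k u = 0) → u ∉ L → (∀ k ∈ L, C.S.B k u' = 0) → u' ∉ L → u + u' ∉ L →
      (n * C.b p * n⁻¹ = C.b p → C.S.B (β u) (β u') = C.S.B u u' + 1 ∧
        ∃ e : ZMod 2, β (u + u') = β u + β u' + e • p) ∧
      (n * C.b p * n⁻¹ = a C p w → C.S.B (β u) (β u') = 1 ∧
        ∃ e f : ZMod 2, β (u + u') = β u + β u' + f • w + e • p) := by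
    intro u u' hu huL hu' hu'L huu
    obtain ⟨a1, a2, a3⟩ := hβ u hu huL
    obtain ⟨b1, b2, b3⟩ := hβ u' hu' hu'L
    obtain ⟨c1, c2, c3⟩ := hβ (u + u') (fun k hk => by rw [map_add, hu k hk, hu' k hk, add_zero]) huu
    have e1 : n * (a C p u * a C p u') * n⁻¹ = C.b (C.S.B (β u) (β u') • p) * a C p (β u + β u') := by
      rw [← a_mul C a1 b1]
      calc n * (a C p u * a C p u') * n⁻¹ = (n * a C p u * n⁻¹) * (n * a C p u' * n⁻¹) := by group
        _ = C.b p * (a C p (β u) * C.b p) * a C p (β u') := by rw [a3, b3]; group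
        _ = C.b p * (C.b p * a C p (β u)) * a C p (β u') := by rw [(b_a_comm C a1).eq]
        _ = (C.b p * C.b p) * (a C p (β u) * a C p (β u')) := by group
        _ = _ := by rw [C.b_sq, one_mul]
    have e2 : n * (a C p u * a C p u') * n⁻¹ =
        (n * C.b (C.S.B u u' • p) * n⁻¹) * (C.b p * a C p (β (u + u'))) := by
      rw [a_mul C (hu p hpL) (hu' p hpL), ← c3]
      group
    rw [e1] at e2
    constructor
    · intro hb
      have e3 : n * C.b (C.S.B u u' • p) * n⁻¹ = C.b (C.S.B u u' • p) := by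
        rcases b_smul_cases (C := C) (C.S.B u u') p with h | h <;> rw [h]
        · group
        · exact hb
      have e4 : C.b (C.S.B u u' • p) * C.b p = C.b ((C.S.B u u' + 1) • p) := by
        rcases z2 (C.S.B u u') with h | h <;> rw [h]
        · rw [zero_smul, C.b_zero, one_mul, zero_add, one_smul]
        · rw [one_smul, C.b_sq, show (1 : ZMod 2) + 1 = 0 from by decide, zero_smul, C.b_zero]
      rw [e3, ← mul_assoc, e4] at e2
      have e5 : C.S.τ (C.S.B (β u) (β u') • p) * LBAlg.A C.S p (β u + β u') =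
        C.S.τ ((C.S.B u u' + 1) • p) * LBAlg.A C.S p (β (u + u')) := Subtype.ext e2
      obtain ⟨e, he⟩ := LBEx.Q_inj C.S M.hp (by rw [map_add, a1, b1, add_zero]) c1 e5
      refine ⟨?_, e, he⟩
      have e6 : LBAlg.A C.S p (β (u + u')) = LBAlg.A C.S p (β u + β u') := by
        rw [he]
        rcases z2 e with h | h <;> rw [h]
        · rw [zero_smul, add_zero]
        · rw [one_smul, A_add_self C.S (by rw [map_add, a1, b1, add_zero])]
      rw [e6] at e5
      have e7 := C.S.τ_injective (mul_right_cancel e5)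
      by_contra hne
      have : C.S.B (β u) (β u') + (C.S.B u u' + 1) = 1 := by
        clear * - hne
        generalize C.S.B (β u) (β u') = c at hne ⊢
        generalize C.S.B u u' + 1 = d at hne ⊢
        revert c d
        decide
      apply M.hp
      calc p = (C.S.B (β u) (β u') + (C.S.B u u' + 1)) • p := by rw [this, one_smul]
        _ = 0 := by rw [add_smul, e7, aa]
    · intro hb
      have e3 : n * C.b (C.S.B u u' • p) * n⁻¹ = a C p (C.S.B u u' • w) := by
        rcases z2 (C.S.B u u') with h | h <;> rw [h]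
        · rw [zero_smul, zero_smul, C.b_zero, a_zero]; group
        · rw [one_smul, one_smul]
          exact hb
      have o1 : C.S.B p (C.S.B u u' • w) = 0 := by rw [map_smul, M.hB, smul_zero]
      have e4 : a C p (C.S.B u u' • w) * (C.b p * a C p (β (u + u'))) =
          C.b ((1 : ZMod 2) • p) * a C p (C.S.B u u' • w + β (u + u')) := by
        rw [one_smul]
        calc a C p (C.S.B u u' • w) * (C.b p * a C p (β (u + u'))) =
            (a C p (C.S.B u u' • w) * C.b p) * a C p (β (u + u')) := by group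
          _ = (C.b p * a C p (C.S.B u u' • w)) * a C p (β (u + u')) := by rw [(b_a_comm C o1).eq]
          _ = C.b p * (a C p (C.S.B u u' • w) * a C p (β (u + u'))) := by group
          _ = _ := by
            rw [a_mul C o1 c1, map_smul, LinearMap.smul_apply, c2, smul_zero, zero_smul, C.b_zero, one_mul]
      rw [e3, e4] at e2
      have e5 : C.S.τ (C.S.B (β u) (β u') • p) * LBAlg.A C.S p (β u + β u') =
        C.S.τ ((1 : ZMod 2) • p) * LBAlg.A C.S p (C.S.B u u' • w + β (u + u')) := Subtype.ext e2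
      obtain ⟨e, he⟩ := LBEx.Q_inj C.S M.hp (by rw [map_add, a1, b1, add_zero])
        (by rw [map_add, o1, c1, add_zero]) e5
      refine ⟨?_, e, C.S.B u u', ?_⟩
      · have e6 : LBAlg.A C.S p (C.S.B u u' • w + β (u + u')) = LBAlg.A C.S p (β u + β u') := by
          rw [he]
          rcases z2 e with h | h <;> rw [h]
          · rw [zero_smul, add_zero]
          · rw [one_smul, A_add_self C.S (by rw [map_add, a1, b1, add_zero])]
        rw [e6] at e5
        have e7 := C.S.τ_injective (mul_right_cancel e5)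
        rcases z2 (C.S.B (β u) (β u')) with h | h
        · rw [h, zero_smul, one_smul] at e7
          exact absurd e7.symm M.hp
        · exact h
      · have e8 : β (u + u') = C.S.B u u' • w + (C.S.B u u' • w + β (u + u')) := (aac _ _).symm
        rw [e8, he]
        abel
  have k23 : ∀ k ∈ L, C.S.B k (u2 + u3) = 0 := fun k hk => by rw [map_add, k2 k hk, k3 k hk, add_zero]
  obtain ⟨a1, a2, -⟩ := hβ u1 k1 n1
  have a1' : C.S.B (β u1) p = 0 := (C.S.symm _ _).trans a1
  have a2' : C.S.B (β u1) w = 0 := (C.S.symm _ _).trans a2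
  rcases M.hb with hb | hb
  · have h1 := ((key u1 u2 k1 n1 k2 n2' n12).1 hb).1
    have h2 := ((key u1 u3 k1 n1 k3 n3' n13).1 hb).1
    have h3 := ((key u1 (u2 + u3) k1 n1 k23 n23 n123).1 hb).1
    obtain ⟨e, he⟩ := ((key u2 u3 k2 n2' k3 n3' n23).1 hb).2
    rw [he, map_add, map_add, map_smul, a1', smul_zero, add_zero, h1, h2, map_add] at h3
    generalize C.S.B u1 u2 = c at *
    generalize C.S.B u1 u3 = d at *
    clear * - h3
    revert c d
    decide
  · have h1 := ((key u1 u2 k1 n1 k2 n2' n12).2 hb).1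
    have h2 := ((key u1 u3 k1 n1 k3 n3' n13).2 hb).1
    have h3 := ((key u1 (u2 + u3) k1 n1 k23 n23 n123).2 hb).1
    obtain ⟨e, f, he⟩ := ((key u2 u3 k2 n2' k3 n3' n23).2 hb).2
    rw [he, map_add, map_add, map_add, map_smul, map_smul, a1', a2', smul_zero, smul_zero, add_zero, add_zero, h1,
      h2] at h3
    exact absurd h3 (by decide)

end Main

end Cfsg.Agent.OddHalf.SpTwoN.PatM
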