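import Cfsg.Agent.OddHalf.SpTwo.Fix
import Cfsg.Agent.OddHalf.SpTwoN.PatM

/-!
# The start: exactly one pattern or all of them

`S` a Sylow 2-subgroup of `L`, stabilising the flag `⟨v⟩ < ⟨v, w⟩`; `z f e = q v (f • w) e` are the elements of
`Ω₁ Z(S) = Z`.  `Flag.norm_z`: an element normalising `⟨t⟩ × S` normalises `Z`; `Flag.fix_z`: if it maps `t` to `t z`, it
fixes `z`; `Flag.mem_add`: if `t z`, `t z'` are conjugates of `t`, so is `t z z'`.  `start`: one of the classes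
`L`, `S`, `P` only, or all three; `start_P`: only `P` is impossible.
-/

set_option autoImplicit false
set_option linter.unusedSimpArgs false

open scoped commutatorElement

namespace Cfsg.Agent.OddHalf.SpTwoN.LBStart

open Cfsg.Agent.StandardComponent.SpTwo
open Cfsg.Agent.OddHalf.SpTwo
open Cfsg.Agent.OddHalf.SpTwoN

variable {G V : Type*} [Group G] [AddCommGroup V] [Module (ZMod 2) V] {C : Ctx G V}

/-- the flag stabilised by a Sylow 2-subgroup of `L` -/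
structure Flag (C : Ctx G V) (S : Sylow 2 C.L) (v w : V) : Prop where
  hv : v ≠ 0
  hvw : C.S.B v w = 0
  hw : w ∉ ln v
  hS1 : (S : Subgroup C.L) ≤ PU C.S (ln v)
  hS2 : (S : Subgroup C.L) ≤ PU C.S (pl v w)

namespace Flag

variable {S : Sylow 2 C.L} {v w : V} (F : Flag C S v w)

include F

theorem hwv : C.S.B w v = 0 := by rw [C.S.symm]; exact F.hvw

theorem hfw (f : ZMod 2) : C.S.B (f • w) v = 0 := by
  rw [map_smul, LinearMap.smul_apply, F.hwv, smul_zero]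

theorem z_mul (f e f' e' : ZMod 2) :
    q C.S v (f • w) e * q C.S v (f' • w) e' = q C.S v ((f + f') • w) (e + e') := by
  rw [q_mul C.S (F.hfw f) (F.hfw f'), ← add_smul, map_smul, map_smul, LinearMap.smul_apply, C.S.alt, smul_zero,
    smul_zero, add_zero]

theorem z_inj [Finite V] {f e f' e' : ZMod 2} (h : q C.S v (f • w) e = q C.S v (f' • w) e') : f = f' ∧ e = e' := by
  obtain ⟨h1, h2⟩ := q_inj C.S F.hv (F.hfw f) (F.hfw f') h
  refine ⟨?_, h2⟩
  rw [← add_smul] at h1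
  rcases z2 (f + f') with h3 | h3
  · exact eq_of_add _ _ h3
  · rw [h3, one_smul] at h1
    exact absurd h1 F.hw

theorem z_cen [Finite V] (f e : ZMod 2) {s : C.L} (hs : s ∈ (S : Subgroup C.L)) :
    q C.S v (f • w) e * s = s * q C.S v (f • w) e := by
  have hb := ((commute_b_iff C.S F.hv).2 (F.hS1 hs)).symm
  have hs' := ((commute_s_iff C.S F.hv F.hw F.hvw).2 (F.hS2 hs)).symm
  have h0 : ∀ e' : ZMod 2, q C.S v 0 e' * s = s * q C.S v 0 e' := by
    intro e'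
    rcases z2 e' with rfl | rfl
    · rw [q_zero, one_mul, mul_one]
    · exact hb
  rcases z2 f with rfl | rfl
  · rw [zero_smul]; exact h0 e
  · rw [one_smul]
    have h1 : q C.S v w e = q C.S v w 0 * q C.S v 0 e := by
      rw [q_mul C.S F.hwv (B_zero C.S v)]; simp
    rw [h1, mul_assoc, h0, ← mul_assoc, hs', mul_assoc]

theorem norm_z [Finite G] {n : G}
    (hn : (TX C (S : Subgroup C.L)).map (MulAut.conj n).toMonoidHom = TX C (S : Subgroup C.L)) (f e : ZMod 2) :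
    ∃ f' e' : ZMod 2, n * (q C.S v (f • w) e : C.L) * n⁻¹ = (q C.S v (f' • w) e' : C.L) := by
  have hfinV := C.finV
  have h256 := C.cardV
  have hQ1 := QU_le_of_sylow C.S S (ln_ti C.S v) F.hS1
  have hQ2 := QU_le_of_sylow C.S S (pl_ti C.S F.hvw) F.hS2
  have hzS : q C.S v (f • w) e ∈ ⁅(S : Subgroup C.L), (S : Subgroup C.L)⁆ :=
    mem_commutator C.S h256 F.hv F.hvw F.hw hQ1 hQ2 f e
  have hzT : ((q C.S v (f • w) e : C.L) : G) ∈ ⁅TX C (S : Subgroup C.L), TX C (S : Subgroup C.L)⁆ := by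
    have h1 : (S : Subgroup C.L).map C.L.subtype ≤ TX C (S : Subgroup C.L) := by
      rintro x ⟨y, hy, rfl⟩
      exact (coe_mem_TX C).2 hy
    have h2 : ((q C.S v (f • w) e : C.L) : G) ∈
        (⁅(S : Subgroup C.L), (S : Subgroup C.L)⁆).map C.L.subtype := ⟨_, hzS, rfl⟩
    rw [Subgroup.map_commutator] at h2
    exact Subgroup.commutator_mono h1 h1 h2
  have hzn : n * (q C.S v (f • w) e : C.L) * n⁻¹ ∈ ⁅TX C (S : Subgroup C.L), TX C (S : Subgroup C.L)⁆ := by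
    have h2 : n * (q C.S v (f • w) e : C.L) * n⁻¹ ∈
        (⁅TX C (S : Subgroup C.L), TX C (S : Subgroup C.L)⁆).map (MulAut.conj n).toMonoidHom := ⟨_, hzT, rfl⟩
    rwa [Subgroup.map_commutator, hn] at h2
  obtain ⟨z', hz'S, hz'⟩ := commutator_TX_le C _ hzn
  replace hz' : (z' : G) = n * (q C.S v (f • w) e : C.L) * n⁻¹ := hz'
  have hz'c : ∀ s ∈ (S : Subgroup C.L), z' * s = s * z' := by
    intro s hs
    have h1 : (s : G) ∈ (TX C (S : Subgroup C.L)).map (MulAut.conj n).toMonoidHom := by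
      rw [hn]; exact (coe_mem_TX C).2 hs
    obtain ⟨x, ⟨y, hy, hxy⟩, hx⟩ := h1
    replace hx : n * x * n⁻¹ = s := hx
    have h2 : ((q C.S v (f • w) e : C.L) : G) * x = x * (q C.S v (f • w) e : C.L) := by
      have h3 : ((q C.S v (f • w) e : C.L) : G) * y = y * (q C.S v (f • w) e : C.L) :=
        congrArg Subtype.val (F.z_cen f e hy)
      rcases hxy with rfl | rfl
      · exact h3
      · rw [← mul_assoc, t_comm, mul_assoc, h3, mul_assoc]
    apply Subtype.ext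
    change (z' : G) * s = s * z'
    rw [hz', ← hx]
    calc n * (q C.S v (f • w) e : C.L) * n⁻¹ * (n * x * n⁻¹)
        = n * ((q C.S v (f • w) e : C.L) * x) * n⁻¹ := by group
      _ = n * (x * (q C.S v (f • w) e : C.L)) * n⁻¹ := by rw [h2]
      _ = _ := by group
  obtain ⟨f', e', hfe'⟩ := of_commute_S C.S h256 F.hv F.hvw F.hw hQ1 hQ2 hz'c
  exact ⟨f', e', by rw [← hz', hfe']⟩

/-- the three centralizers have different orders -/
theorem eq_of_card [Finite G] {f e f' e' : ZMod 2} (h0 : f ≠ 0 ∨ e ≠ 0) (h0' : f' ≠ 0 ∨ e' ≠ 0)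
    (h : Nat.card (Subgroup.centralizer {(q C.S v (f • w) e : C.L)}) =
      Nat.card (Subgroup.centralizer {(q C.S v (f' • w) e' : C.L)})) : f = f' ∧ e = e' := by
  have hfinV := C.finV
  have h256 := C.cardV
  have c1 := card_lt_PU_ln C.S h256 F.hv F.hw F.hvw
  have c2 := card_PU_pl_le C.S F.hv F.hw F.hvw
  have c3 := card_lt_PU_pl C.S F.hv F.hw F.hvw
  have hcb : Subgroup.centralizer {q C.S v 0 1} = PU C.S (ln v) := by
    ext x
    rw [Subgroup.mem_centralizer_singleton_iff]; exact commute_b_iff C.S F.hv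
  have hcs : Subgroup.centralizer {q C.S v w 0} = PU C.S (pl v w) := by
    ext x
    rw [Subgroup.mem_centralizer_singleton_iff]; exact commute_s_iff C.S F.hv F.hw F.hvw
  have hcc : Subgroup.centralizer {q C.S v w 1} = PU C.S (ln v) ⊓ PU C.S (pl v w) := by
    ext x
    rw [Subgroup.mem_centralizer_singleton_iff]; exact commute_c_iff C.S F.hv F.hw F.hvw
  have hpos : 0 < Nat.card (PU C.S (ln v) ⊓ PU C.S (pl v w) : Subgroup C.L) := Nat.card_pos
  have hne0 : ¬ ((0 : ZMod 2) ≠ 0 ∨ (0 : ZMod 2) ≠ 0) := by simp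
  rcases z2 f with rfl | rfl <;> rcases z2 e with rfl | rfl <;> rcases z2 f' with rfl | rfl <;>
    rcases z2 e' with rfl | rfl <;> simp only [zero_smul, one_smul] at h <;>
    first
    | exact ⟨rfl, rfl⟩
    | exact absurd h0 hne0
    | exact absurd h0' hne0
    | (exfalso; simp only [hcb, hcs, hcc] at h; omega)

/-- an element normalising `⟨t⟩ × S` and mapping `t` to `t z` fixes `z` -/
theorem fix_z [Finite G] {n : G}
    (hn : (TX C (S : Subgroup C.L)).map (MulAut.conj n).toMonoidHom = TX C (S : Subgroup C.L)) {f e : ZMod 2}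
    (hfe : f ≠ 0 ∨ e ≠ 0) (ht : n * C.t * n⁻¹ = C.t * (q C.S v (f • w) e : C.L)) :
    n * (q C.S v (f • w) e : C.L) * n⁻¹ = (q C.S v (f • w) e : C.L) := by
  have hfinV := C.finV
  have hn' : (TX C (S : Subgroup C.L)).map (MulAut.conj n⁻¹).toMonoidHom = TX C (S : Subgroup C.L) := by
    conv_lhs => rw [← hn]
    rw [Subgroup.map_map]
    have : (MulAut.conj n⁻¹).toMonoidHom.comp (MulAut.conj n).toMonoidHom = MonoidHom.id G := by
      ext x
      change n⁻¹ * (n * x * n⁻¹) * n⁻¹⁻¹ = x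
      group
    rw [this, Subgroup.map_id]
  obtain ⟨f', e', h1⟩ := F.norm_z hn' f e
  have hzz : (q C.S v (f' • w) e' : C.L) * q C.S v (f' • w) e' = 1 := q_sq C.S (F.hfw f') e'
  have hzzG : ((q C.S v (f' • w) e' : C.L) : G) * (q C.S v (f' • w) e' : C.L) = 1 := congrArg Subtype.val hzz
  have hnt : n⁻¹ * C.t * n⁻¹⁻¹ = C.t * (q C.S v (f' • w) e' : C.L) := by
    have h2 : C.t = n⁻¹ * C.t * n⁻¹⁻¹ * (q C.S v (f' • w) e' : C.L) := by
      rw [← h1]
      calc C.t = n⁻¹ * (n * C.t * n⁻¹) * n := by group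
        _ = n⁻¹ * (C.t * (q C.S v (f • w) e : C.L)) * n := by rw [ht]
        _ = _ := by group
    calc n⁻¹ * C.t * n⁻¹⁻¹ = n⁻¹ * C.t * n⁻¹⁻¹ * ((q C.S v (f' • w) e' : C.L) * (q C.S v (f' • w) e' : C.L)) := by
          rw [hzzG, mul_one]
      _ = n⁻¹ * C.t * n⁻¹⁻¹ * (q C.S v (f' • w) e' : C.L) * (q C.S v (f' • w) e' : C.L) := by
          rw [mul_assoc, mul_assoc]; group
      _ = _ := by rw [← h2]
  have hcard := card_cent_eq C hzz h1 hnt
  have h0' : f' ≠ 0 ∨ e' ≠ 0 := by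
    by_contra hc
    push Not at hc
    rw [hc.1, hc.2, zero_smul, q_zero] at h1
    have h3 : ((q C.S v (f • w) e : C.L) : G) = 1 := by
      calc ((q C.S v (f • w) e : C.L) : G) = n * (n⁻¹ * (q C.S v (f • w) e : C.L) * n⁻¹⁻¹) * n⁻¹ := by group
        _ = n * ((1 : C.L) : G) * n⁻¹ := by rw [h1]
        _ = 1 := by rw [Subgroup.coe_one]; group
    have h4 : q C.S v (f • w) e = q C.S v ((0 : ZMod 2) • w) 0 := by
      rw [zero_smul, q_zero]; exact Subtype.ext h3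
    obtain ⟨h5, h6⟩ := F.z_inj h4
    rcases hfe with h | h
    · exact h h5
    · exact h h6
  obtain ⟨rfl, rfl⟩ := F.eq_of_card hfe h0' hcard
  calc n * (q C.S v (f • w) e : C.L) * n⁻¹ = n * (n⁻¹ * (q C.S v (f • w) e : C.L) * n⁻¹⁻¹) * n⁻¹ := by rw [h1]
    _ = _ := by group

/-- from `t z ∈ D` to an element normalising `⟨t⟩ × S` -/
theorem exists_n [Finite G] {f e : ZMod 2} (hfe : f ≠ 0 ∨ e ≠ 0)
    (h : C.t * (q C.S v (f • w) e : C.L) ∈ C.D) :
    ∃ n : G, (TX C (S : Subgroup C.L)).map (MulAut.conj n).toMonoidHom = TX C (S : Subgroup C.L) ∧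
      n * C.t * n⁻¹ = C.t * (q C.S v (f • w) e : C.L) ∧
      n * (q C.S v (f • w) e : C.L) * n⁻¹ = (q C.S v (f • w) e : C.L) := by
  have hfinV := C.finV
  obtain ⟨g, hg⟩ := h
  obtain ⟨n, hn, hnt⟩ := exists_norm C S (fun s hs => F.z_cen f e hs) hg.symm
  exact ⟨n, hn, hnt, F.fix_z hn hfe hnt⟩

/-- an element normalising `⟨t⟩ × S` and fixing `z` either fixes or interchanges the two other elements -/
theorem cases_z [Finite G] {n : G}
    (hn : (TX C (S : Subgroup C.L)).map (MulAut.conj n).toMonoidHom = TX C (S : Subgroup C.L)) {f e : ZMod 2}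
    (hfe : f ≠ 0 ∨ e ≠ 0) (hz : n * (q C.S v (f • w) e : C.L) * n⁻¹ = (q C.S v (f • w) e : C.L)) {f' e' : ZMod 2}
    (hfe' : f' ≠ 0 ∨ e' ≠ 0) (hne : ¬ (f = f' ∧ e = e')) :
    n * (q C.S v (f' • w) e' : C.L) * n⁻¹ = (q C.S v (f' • w) e' : C.L) ∨
      n * (q C.S v (f' • w) e' : C.L) * n⁻¹ = (q C.S v ((f + f') • w) (e + e') : C.L) := by
  have hfinV := C.finV
  obtain ⟨f₁, e₁, h1⟩ := F.norm_z hn f' e'
  have hA : ¬ (f₁ = f ∧ e₁ = e) := by
    rintro ⟨rfl, rfl⟩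
    have h2 := h1.trans hz.symm
    have h3 := mul_left_cancel (mul_right_cancel h2)
    obtain ⟨h4, h5⟩ := F.z_inj (Subtype.ext h3)
    exact hne ⟨h4.symm, h5.symm⟩
  have hB : ¬ (f₁ = 0 ∧ e₁ = 0) := by
    rintro ⟨rfl, rfl⟩
    rw [zero_smul, q_zero, Subgroup.coe_one] at h1
    have h3 : ((q C.S v (f' • w) e' : C.L) : G) = 1 := by
      calc ((q C.S v (f' • w) e' : C.L) : G) = n⁻¹ * (n * (q C.S v (f' • w) e' : C.L) * n⁻¹) * n := by group
        _ = 1 := by rw [h1]; group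
    have h4 : q C.S v (f' • w) e' = q C.S v ((0 : ZMod 2) • w) 0 := by
      rw [zero_smul, q_zero]; exact Subtype.ext h3
    obtain ⟨h5, h6⟩ := F.z_inj h4
    rcases hfe' with h | h
    · exact h h5
    · exact h h6
  have key : ∀ f e f' e' f₁ e₁ : ZMod 2, (f ≠ 0 ∨ e ≠ 0) → (f' ≠ 0 ∨ e' ≠ 0) → ¬ (f = f' ∧ e = e') →
      ¬ (f₁ = f ∧ e₁ = e) → ¬ (f₁ = 0 ∧ e₁ = 0) → (f₁ = f' ∧ e₁ = e') ∨ (f₁ = f + f' ∧ e₁ = e + e') := by
    decide
  rcases key f e f' e' f₁ e₁ hfe hfe' hne hA hB with ⟨rfl, rfl⟩ | ⟨rfl, rfl⟩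
  · exact Or.inl h1
  · exact Or.inr h1

/-- two of the three elements `t z` in `D` imply the third -/
theorem mem_add [Finite G] {f e f' e' : ZMod 2} (hfe : f ≠ 0 ∨ e ≠ 0) (hfe' : f' ≠ 0 ∨ e' ≠ 0)
    (hne : ¬ (f = f' ∧ e = e')) (h : C.t * (q C.S v (f • w) e : C.L) ∈ C.D)
    (h' : C.t * (q C.S v (f' • w) e' : C.L) ∈ C.D) :
    C.t * (q C.S v ((f + f') • w) (e + e') : C.L) ∈ C.D := by
  have hfinV := C.finV
  have hm : ((q C.S v (f • w) e : C.L) : G) * (q C.S v (f' • w) e' : C.L) =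
      (q C.S v ((f + f') • w) (e + e') : C.L) := congrArg Subtype.val (F.z_mul f e f' e')
  have hm' : ((q C.S v (f' • w) e' : C.L) : G) * (q C.S v (f • w) e : C.L) =
      (q C.S v ((f + f') • w) (e + e') : C.L) := by
    rw [add_comm f f', add_comm e e']
    exact congrArg Subtype.val (F.z_mul f' e' f e)
  have hq : ∀ f e : ZMod 2, ((q C.S v (f • w) e : C.L) : G) * (q C.S v (f • w) e : C.L) = 1 := fun f e =>
    congrArg Subtype.val (q_sq C.S (F.hfw f) e)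
  obtain ⟨n, hn, hnt, hnz⟩ := F.exists_n hfe h
  obtain ⟨n', hn', hnt', hnz'⟩ := F.exists_n hfe' h'
  rcases F.cases_z hn hfe hnz hfe' hne with h1 | h1
  · -- `n (t z') n⁻¹ = t z z'`
    have h2 : n * (C.t * (q C.S v (f' • w) e' : C.L)) * n⁻¹ = C.t * (q C.S v ((f + f') • w) (e + e') : C.L) := by
      calc n * (C.t * (q C.S v (f' • w) e' : C.L)) * n⁻¹
          = (n * C.t * n⁻¹) * (n * (q C.S v (f' • w) e' : C.L) * n⁻¹) := by group
        _ = C.t * ((q C.S v (f • w) e : C.L) * (q C.S v (f' • w) e' : C.L)) := by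
          rw [hnt, h1, mul_assoc]
        _ = _ := by rw [hm]
    rw [← h2]
    exact C.D_conj h' n
  rcases F.cases_z hn' hfe' hnz' hfe (fun hc => hne ⟨hc.1.symm, hc.2.symm⟩) with h2 | h2
  · have h3 : n' * (C.t * (q C.S v (f • w) e : C.L)) * n'⁻¹ = C.t * (q C.S v ((f + f') • w) (e + e') : C.L) := by
      calc n' * (C.t * (q C.S v (f • w) e : C.L)) * n'⁻¹
          = (n' * C.t * n'⁻¹) * (n' * (q C.S v (f • w) e : C.L) * n'⁻¹) := by group
        _ = C.t * ((q C.S v (f' • w) e' : C.L) * (q C.S v (f • w) e : C.L)) := by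
          rw [hnt', h2, mul_assoc]
        _ = _ := by rw [hm']
    rw [← h3]
    exact C.D_conj h n'
  exfalso
  rw [add_comm f' f, add_comm e' e] at h2
  -- `n' (z z') n'⁻¹ = z`
  have h3 : n' * (q C.S v ((f + f') • w) (e + e') : C.L) * n'⁻¹ = (q C.S v (f • w) e : C.L) := by
    rw [← hm]
    calc n' * ((q C.S v (f • w) e : C.L) * (q C.S v (f' • w) e' : C.L)) * n'⁻¹
        = (n' * (q C.S v (f • w) e : C.L) * n'⁻¹) * (n' * (q C.S v (f' • w) e' : C.L) * n'⁻¹) := by group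
      _ = (q C.S v (f • w) e : C.L) * (q C.S v (f' • w) e' : C.L) * (q C.S v (f' • w) e' : C.L) := by
        rw [h2, hnz', hm]
      _ = _ := by rw [mul_assoc, hq, mul_one]
  have h4 : (n' * n) * (q C.S v (f' • w) e' : C.L) * (n' * n)⁻¹ = (q C.S v (f • w) e : C.L) := by
    calc (n' * n) * (q C.S v (f' • w) e' : C.L) * (n' * n)⁻¹
        = n' * (n * (q C.S v (f' • w) e' : C.L) * n⁻¹) * n'⁻¹ := by group
      _ = _ := by rw [h1, h3]
  have h5 : (n' * n) * C.t * (n' * n)⁻¹ = C.t * (q C.S v (f • w) e : C.L) := by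
    calc (n' * n) * C.t * (n' * n)⁻¹ = n' * (n * C.t * n⁻¹) * n'⁻¹ := by group
      _ = (n' * C.t * n'⁻¹) * (n' * (q C.S v (f • w) e : C.L) * n'⁻¹) := by rw [hnt]; group
      _ = C.t * ((q C.S v (f' • w) e' : C.L) * (q C.S v ((f + f') • w) (e + e') : C.L)) := by
        rw [hnt', h2, mul_assoc]
      _ = C.t * (q C.S v (f • w) e : C.L) := by
        rw [← hm', ← mul_assoc ((q C.S v (f' • w) e' : C.L) : G), hq, one_mul]
  have h6 := card_cent_eq C (q_sq C.S (F.hfw f) e) h4 h5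
  obtain ⟨h7, h8⟩ := F.eq_of_card hfe' hfe h6
  exact hne ⟨h7.symm, h8.symm⟩

end Flag

/-! ### the classes -/

/-- conjugation inside `L` -/
theorem mem_D_conj (g : C.L) (x : C.L) (h : C.t * (x : G) ∈ C.D) : C.t * ((g * x * g⁻¹ : C.L) : G) ∈ C.D := by
  have h1 := C.D_conj h g
  have h2 : (g : G) * (C.t * x) * (g : G)⁻¹ = C.t * ((g * x * g⁻¹ : C.L) : G) := by
    change _ = C.t * ((g : G) * x * (g : G)⁻¹)
    rw [← mul_assoc, t_comm]; group
  rwa [h2] at h1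

/-- the class `L` of the transvections -/
def PL (C : Ctx G V) : Prop := ∀ v, v ≠ 0 → C.t * C.b v ∈ C.D

/-- the classes `S` (`e = 0`) and `P` (`e = 1`) -/
def PQ (C : Ctx G V) (e : ZMod 2) : Prop :=
  ∀ v w, v ≠ 0 → C.S.B v w = 0 → w ∉ ln v → C.t * (q C.S v w e : C.L) ∈ C.D

/-- no transvection moved -/
def NL (C : Ctx G V) : Prop := ∀ v, v ≠ 0 → C.t * C.b v ∉ C.D

/-- no element of class `S` (`e = 0`), `P` (`e = 1`) moved -/
def NQ (C : Ctx G V) (e : ZMod 2) : Prop :=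
  ∀ v w, v ≠ 0 → C.S.B v w = 0 → w ∉ ln v → C.t * (q C.S v w e : C.L) ∉ C.D

theorem PL_of {v : V} (hv : v ≠ 0) (h : C.t * C.b v ∈ C.D) : PL C := by
  have hfinV := C.finV
  intro v' hv'
  obtain ⟨g, hg⟩ := trans_vec C.S hv hv'
  have := mem_D_conj g (C.S.τ v) h
  rwa [C.S.conj_τ, hg] at this

theorem PQ_of {v w : V} (hv : v ≠ 0) (hvw : C.S.B v w = 0) (hw : w ∉ ln v) {e : ZMod 2}
    (h : C.t * (q C.S v w e : C.L) ∈ C.D) : PQ C e := by
  have hfinV := C.finV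
  intro v' w' hv' hvw' hw'
  obtain ⟨g, hgv, hgw⟩ := trans_pl C.S hv hw hvw hv' hw' hvw'
  have := mem_D_conj g _ h
  rwa [q_conj, hgv, hgw] at this

theorem PL_or_NL (C : Ctx G V) : PL C ∨ NL C := by
  by_cases h : NL C
  · exact Or.inr h
  · left
    rw [NL] at h
    push Not at h
    obtain ⟨v, hv, h⟩ := h
    exact PL_of hv h

theorem PQ_or_NQ (C : Ctx G V) (e : ZMod 2) : PQ C e ∨ NQ C e := by
  by_cases h : NQ C e
  · exact Or.inr h
  · left
    rw [NQ] at h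
    push Not at h
    obtain ⟨v, w, hv, hvw, hw, h⟩ := h
    exact PQ_of hv hvw hw h

namespace Flag

variable {S : Sylow 2 C.L} {v w : V} (F : Flag C S v w)

include F

theorem PL_iff : PL C ↔ C.t * (q C.S v ((0 : ZMod 2) • w) 1 : C.L) ∈ C.D := by
  rw [zero_smul, q_zero_one]
  exact ⟨fun h => h v F.hv, fun h => PL_of F.hv h⟩

theorem PQ_iff (e : ZMod 2) : PQ C e ↔ C.t * (q C.S v ((1 : ZMod 2) • w) e : C.L) ∈ C.D := by
  rw [one_smul]
  exact ⟨fun h => h v w F.hv F.hvw F.hw, fun h => PQ_of F.hv F.hvw F.hw h⟩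

/-- **START**: one of the classes only, or all of them -/
theorem start [Finite G] {f e : ZMod 2} (hfe : f ≠ 0 ∨ e ≠ 0)
    (h : C.t * (q C.S v (f • w) e : C.L) ∈ C.D) :
    (PL C ∧ NQ C 0 ∧ NQ C 1) ∨ (NL C ∧ PQ C 0 ∧ NQ C 1) ∨ (NL C ∧ NQ C 0 ∧ PQ C 1) ∨
      (PL C ∧ PQ C 0 ∧ PQ C 1) := by
  have hLS : PL C → PQ C 0 → PQ C 1 := by
    intro h1 h2
    rw [F.PL_iff] at h1
    rw [F.PQ_iff] at h2 ⊢
    have := F.mem_add (Or.inr one_ne_zero) (Or.inl one_ne_zero) (by decide) h1 h2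
    rwa [zero_add, add_zero] at this
  have hLP : PL C → PQ C 1 → PQ C 0 := by
    intro h1 h2
    rw [F.PL_iff] at h1
    rw [F.PQ_iff] at h2 ⊢
    have := F.mem_add (Or.inr one_ne_zero) (Or.inl one_ne_zero) (by decide) h1 h2
    rwa [zero_add, z2_add] at this
  have hSP : PQ C 0 → PQ C 1 → PL C := by
    intro h1 h2
    rw [F.PL_iff]
    rw [F.PQ_iff] at h1 h2
    have := F.mem_add (Or.inl one_ne_zero) (Or.inl one_ne_zero) (by decide) h1 h2
    rwa [z2_add, zero_add] at this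
  have hor : PL C ∨ PQ C 0 ∨ PQ C 1 := by
    rcases z2 f with rfl | rfl <;> rcases z2 e with rfl | rfl
    · simp at hfe
    · exact Or.inl (F.PL_iff.2 h)
    · exact Or.inr (Or.inl ((F.PQ_iff 0).2 h))
    · exact Or.inr (Or.inr ((F.PQ_iff 1).2 h))
  have nL : PL C → ¬ NL C := fun h1 h2 => h2 v F.hv (h1 v F.hv)
  have nQ : ∀ e, PQ C e → ¬ NQ C e := fun e h1 h2 => h2 v w F.hv F.hvw F.hw (h1 v w F.hv F.hvw F.hw)
  rcases PL_or_NL C with h1 | h1 <;> rcases PQ_or_NQ C 0 with h2 | h2 <;> rcases PQ_or_NQ C 1 with h3 | h3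
  · exact Or.inr (Or.inr (Or.inr ⟨h1, h2, h3⟩))
  · exact absurd h3 (nQ 1 (hLS h1 h2))
  · exact absurd h2 (nQ 0 (hLP h1 h3))
  · exact Or.inl ⟨h1, h2, h3⟩
  · exact absurd h1 (nL (hSP h2 h3))
  · exact Or.inr (Or.inl ⟨h1, h2, h3⟩)
  · exact Or.inr (Or.inr (Or.inl ⟨h1, h2, h3⟩))
  · exfalso
    rcases hor with h | h | h
    · exact nL h h1
    · exact nQ 0 h h2
    · exact nQ 1 h h3

end Flag

/-! ### pattern `{P}` -/

theorem a_eq_q (v w : V) : LBDef.a C v w = (q C.S v w 0 : C.L) := by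
  change ((LBAlg.A C.S v w : C.L) : G) = _
  rw [LBAlg.A, q, zero_smul, C.S.τ_zero, mul_one]

theorem ba_eq_q {v w : V} (h : C.S.B v w = 0) : C.b v * LBDef.a C v w = (q C.S v w 1 : C.L) := by
  have hwv : C.S.B w v = 0 := by rw [C.S.symm]; exact h
  rw [a_eq_q]
  change ((C.S.τ v * q C.S v w 0 : C.L) : G) = _
  rw [← q_zero_one, q_mul C.S (B_zero C.S v) hwv, zero_add, add_zero, B_zero, add_zero]

/-- the pattern `{P}` is impossible -/
theorem Flag.not_P [Finite G] {S : Sylow 2 C.L} {v w : V} (F : Flag C S v w) (h0 : NQ C 0) (h1 : PQ C 1) :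
    False := by
  have hfinV := C.finV
  have hw0 : w ≠ 0 := ne_zero_of_notMem F.hw
  have hwv : w ≠ v := fun h => F.hw (by rw [h]; exact self_mem_ln v)
  obtain ⟨n, hn, hnt, hnz⟩ := F.exists_n (f := 1) (e := 1) (Or.inl one_ne_zero) ((F.PQ_iff 1).1 h1)
  have hb := F.cases_z hn (f := 1) (e := 1) (Or.inl one_ne_zero) hnz (f' := 0) (e' := 1) (Or.inr one_ne_zero)
    (by decide)
  rw [zero_smul, q_zero_one, add_zero, z2_add, one_smul, ← a_eq_q] at hb
  rw [one_smul, ← ba_eq_q F.hvw] at hnt hnz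
  apply PatM.false_of C.cardV (C := C) (p := v) (w := w) (n := n)
    { hp := F.hv, hw := hw0, hpw := hwv, hB := F.hvw, ht := hnt, hm := hnz, hb := hb }
  · intro x y hx hy hxy hB
    rw [a_eq_q]
    exact h0 x y hx hB (notMem_ln hy hxy.symm)
  · intro x y hx hy hxy hB
    have hB' : C.S.B x (x + y) = 0 := by rw [map_add, C.S.alt, hB, add_zero]
    have hyx : C.S.B y x = 0 := by rw [C.S.symm]; exact hB
    have h2 : C.b x * C.b y = (q C.S (x + y) x 1 : C.L) := by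
      have h3 : C.S.B x (x + y) = 0 := hB'
      rw [← τ_mul_τ_add C.S h3, show x + (x + y) = y from aac _ _]
      rfl
    rw [h2]
    refine h1 _ _ ?_ ?_ ?_
    · intro h
      exact hxy (eq_of_add _ _ h)
    · rw [C.S.symm]; exact hB'
    · rw [mem_ln]
      rintro (h | h)
      · exact hx h
      · exact hy (add_eq_left.1 h.symm)

/-- **START** and pattern `{P}`: pattern `{L}`, `{S}`, or all three classes are moved -/
theorem Flag.start' [Finite G] {S : Sylow 2 C.L} {v w : V} (F : Flag C S v w) {f e : ZMod 2} (hfe : f ≠ 0 ∨ e ≠ 0)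
    (h : C.t * (q C.S v (f • w) e : C.L) ∈ C.D) :
    (PL C ∧ NQ C 0 ∧ NQ C 1) ∨ (NL C ∧ PQ C 0 ∧ NQ C 1) ∨ (PL C ∧ PQ C 0 ∧ PQ C 1) := by
  rcases F.start hfe h with h | h | h | h
  · exact Or.inl h
  · exact Or.inr (Or.inl h)
  · exact (F.not_P h.2.1 h.2.2).elim
  · exact Or.inr (Or.inr h)

end Cfsg.Agent.OddHalf.SpTwoN.LBStart
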