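import Cfsg.Agent.OddHalf.SpTwoN.Dich
import Cfsg.Agent.OddHalf.SpTwoN.LBStart
import Cfsg.Agent.OddHalf.SpTwo.LongOut

/-!
# The elements `y` over an isotropic line and their action on `Q_u`

`IsX C u v y`: `y` conjugates `t` to `t s_{u,v}` and commutes with the transvections of `⟨u, v⟩^⊥`.
`IsX.pencil`: `y` acts on `Q_u` by `x ↦ x c^{(x,v)}` with `c ∈ ⟨b_u, s_{u,v}⟩`; so a suitable `y` acts trivially
(`U0`) or like `b_v` (`UC`).
-/

set_option autoImplicit false

namespace Cfsg.Agent.OddHalf.SpTwoN.KappaDef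

open Cfsg.Agent.StandardComponent.SpTwo Cfsg.Agent.OddHalf Cfsg.Agent.OddHalf.SpTwo
open Cfsg.Agent.OddHalf.SpTwoN Cfsg.Agent.OddHalf.SpTwoN.LBStart

variable {G V : Type*} [Group G] [AddCommGroup V] [Module (ZMod 2) V] (C : Ctx G V)

/-- elements of `Q_u`, in `G` -/
def qg (u p : V) (e : ZMod 2) : G := (SpTwo.q C.S u p e : C.L)

/-- an element `y` over the line `⟨u, v⟩` -/
structure IsX (u v : V) (y : G) : Prop where
  sq : y * y = 1
  conj_t : y * C.t * y = C.t * qg C u v 0
  comm : ∀ e, C.S.B e u = 0 → C.S.B e v = 0 → y * C.b e = C.b e * y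

/-- `y` acts trivially on `Q_u` -/
structure U0 (u v : V) (y : G) : Prop extends IsX C u v y where
  act : ∀ p e, C.S.B p u = 0 → y * qg C u p e * y = qg C u p e

/-- `y` acts on `Q_u / ⟨b_u⟩` like `b_v` -/
structure UC (u v : V) (y : G) : Prop extends IsX C u v y where
  act : ∀ p e, C.S.B p u = 0 → y * qg C u p e * y = qg C u (p + C.S.B p v • v) (e + C.S.B p v)

section qg

variable {u p p' : V} {e e' : ZMod 2}

theorem qg_mul (h : C.S.B p u = 0) (h' : C.S.B p' u = 0) :
    qg C u p e * qg C u p' e' = qg C u (p + p') (e + e' + C.S.B p p') :=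
  congrArg Subtype.val (q_mul C.S h h' e e')

theorem qg_zero : qg C u 0 0 = 1 := congrArg Subtype.val (q_zero C.S u)

theorem qg_zero_one : qg C u 0 1 = C.b u := congrArg Subtype.val (q_zero_one C.S u)

theorem qg_sq (h : C.S.B p u = 0) : qg C u p e * qg C u p e = 1 := congrArg Subtype.val (q_sq C.S h e)

theorem qg_comm (h : C.S.B p u = 0) (h' : C.S.B p' u = 0) :
    qg C u p e * qg C u p' e' = qg C u p' e' * qg C u p e :=
  congrArg Subtype.val (q_comm C.S h h' e e')

theorem qg_inj [Finite V] (hu : u ≠ 0) (h : C.S.B p u = 0) (h' : C.S.B p' u = 0)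
    (H : qg C u p e = qg C u p' e') : p + p' ∈ ln u ∧ e = e' :=
  q_inj C.S hu h h' (Subtype.ext H)

theorem qg_t : qg C u p e * C.t = C.t * qg C u p e := t_comm C _

theorem qg_add_self (h : C.S.B p u = 0) : qg C u (p + u) e = qg C u p e :=
  congrArg Subtype.val (q_add_self C.S h e)

theorem qg_conj (m : C.L) : (m : G) * qg C u p e * (m : G)⁻¹ = qg C (C.S.ρ m u) (C.S.ρ m p) e :=
  congrArg Subtype.val (q_conj C.S m (v := u) (u := p) e)

theorem qg_b_conj {x : V} (hx : C.S.B x u = 0) : C.b x * qg C u p e * C.b x = qg C u (p + C.S.B p x • x) e :=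
  congrArg Subtype.val (τ_conj_q C.S hx (u := p) e)

theorem qg_inv (h : C.S.B p u = 0) : (qg C u p e)⁻¹ = qg C u p e := inv_eq_of_mul_eq_one_right (qg_sq C h)

/-- membership of the commuting elements -/
theorem comm_qg {y : G} (h : ∀ e, C.S.B e u = 0 → C.S.B e p = 0 → y * C.b e = C.b e * y)
    (hp : C.S.B p u = 0) {z : V} (hz : C.S.B z u = 0) (hz' : C.S.B z p = 0) :
    y * qg C u z e = qg C u z e * y := by
  have h1 := h u (C.B_self u) (by rw [C.symm]; exact hp)
  have h2 := h z hz hz'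
  have h3 := h (u + z) (by rw [C.B_add_left, C.B_self, hz, add_zero])
    (by rw [C.B_add_left, hz', C.symm, hp, add_zero])
  have h4 : y * C.b (e • u) = C.b (e • u) * y := by
    rcases z2 e with rfl | rfl
    · rw [zero_smul, C.b_zero, mul_one, one_mul]
    · rw [one_smul]; exact h1
  have e1 : qg C u z e = C.b u * C.b z * C.b (u + z) * C.b (e • u) := rfl
  rw [e1]
  exact (((Commute.mul_right h1 h2).mul_right h3).mul_right h4).eq

end qg

variable {C}
variable {u v : V} {y : G}

theorem IsX.inv_eq (h : IsX C u v y) : y⁻¹ = y := inv_eq_of_mul_eq_one_right h.sq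

theorem IsX.comm_q (h : IsX C u v y) (hv : C.S.B v u = 0) {z : V} (hz : C.S.B z u = 0) (hz' : C.S.B z v = 0)
    (e : ZMod 2) : y * qg C u z e = qg C u z e * y :=
  comm_qg C h.comm hv hz hz'

theorem IsX.comm_s (h : IsX C u v y) (hv : C.S.B v u = 0) : y * qg C u v 0 = qg C u v 0 * y :=
  h.comm_q hv hv (C.B_self v) 0

theorem IsX.t_conj (h : IsX C u v y) : C.t * y * C.t = qg C u v 0 * y := by
  have h1 := h.conj_t
  calc C.t * y * C.t = C.t * (y * C.t * y) * y⁻¹ := by group
    _ = (C.t * C.t) * qg C u v 0 * y⁻¹ := by rw [h1]; group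
    _ = _ := by rw [C.tt, one_mul, h.inv_eq]

theorem IsX.yt (h : IsX C u v y) : y * C.t = C.t * qg C u v 0 * y := by
  rw [← h.conj_t, mul_assoc (y * C.t), h.sq, mul_one]

theorem IsX.conj (h : IsX C u v y) (m : C.L) : IsX C (C.S.ρ m u) (C.S.ρ m v) (m * y * (m : G)⁻¹) := by
  have hm := t_comm C m
  have hm' : (m : G)⁻¹ * C.t * m = C.t := by rw [mul_assoc, ← hm]; group
  refine ⟨?_, ?_, ?_⟩
  · calc m * y * (m : G)⁻¹ * (m * y * (m : G)⁻¹) = m * (y * y) * (m : G)⁻¹ := by group
      _ = 1 := by rw [h.sq]; group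
  · calc m * y * (m : G)⁻¹ * C.t * (m * y * (m : G)⁻¹) = m * (y * ((m : G)⁻¹ * C.t * m) * y) * (m : G)⁻¹ := by
          group
      _ = m * (C.t * qg C u v 0) * (m : G)⁻¹ := by rw [hm', h.conj_t]
      _ = (m * C.t) * qg C u v 0 * (m : G)⁻¹ := by group
      _ = C.t * (m * qg C u v 0 * (m : G)⁻¹) := by rw [hm]; group
      _ = _ := by rw [qg_conj]
  · intro e h1 h2
    have h3 : C.S.ρ m (C.S.ρ m⁻¹ e) = e := C.S.ρ_apply_inv m e
    rw [← h3, C.S.inv] at h1 h2
    have h4 := h.comm _ h1 h2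
    rw [← h3, ← C.b_conj]
    calc m * y * (m : G)⁻¹ * (m * C.b (C.S.ρ m⁻¹ e) * (m : G)⁻¹) = m * (y * C.b (C.S.ρ m⁻¹ e)) * (m : G)⁻¹ := by
          group
      _ = _ := by rw [h4]; group

theorem IsX.add_self (h : IsX C u v y) (hv : C.S.B v u = 0) : IsX C u (v + u) y := by
  refine ⟨h.sq, by rw [qg_add_self C hv]; exact h.conj_t, fun e h1 h2 => h.comm e h1 ?_⟩
  rwa [C.B_add_right, h1, add_zero] at h2

theorem IsX.add_self' (h : IsX C u (v + u) y) (hv : C.S.B v u = 0) : IsX C u v y := by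
  have h1 := h.add_self (by rw [C.B_add_left, hv, C.B_self, add_zero])
  rwa [add_assoc, aa, add_zero] at h1

/-- two elements over the same line -/
theorem IsX.same [Finite V] (hu : u ≠ 0) (hv : v ∉ ln u) (hvu : C.S.B v u = 0) (h : IsX C u v y) {y' : G}
    (h' : IsX C u v y') : ∃ a c d : ZMod 2, y' = qg C u (c • v) a * C.b (d • v) * y := by
  have huv : C.S.B u v = 0 := by rw [C.symm]; exact hvu
  have hc1 : y' * y * C.t = C.t * (y' * y) := by
    have h1 := h'.comm_s hvu
    have h2 : qg C u v 0 * qg C u v 0 = 1 := qg_sq C hvu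
    calc y' * y * C.t = y' * (y * C.t) := by group
      _ = (y' * C.t) * qg C u v 0 * y := by rw [h.yt]; group
      _ = C.t * qg C u v 0 * (y' * qg C u v 0) * y := by rw [h'.yt]; group
      _ = C.t * (qg C u v 0 * qg C u v 0) * y' * y := by rw [h1]; group
      _ = _ := by rw [h2]; group
  obtain ⟨k, hk, hkf⟩ := Dich.lift_fix (E := fun e => C.S.B u e = 0 ∧ C.S.B v e = 0) hc1 (by
    rintro e ⟨h1, h2⟩
    rw [C.symm] at h1 h2
    rw [mul_assoc, h.comm e h1 h2, ← mul_assoc, h'.comm e h1 h2, mul_assoc])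
  obtain ⟨-, -, -, -, -, -, a, c, d, hρ⟩ := Dich.shape C.S hu hv huv (fun e h1 h2 => hkf e ⟨h1, h2⟩)
  have hcv : C.S.B (c • v) u = 0 := by rw [C.B_smul_left, hvu, mul_zero]
  have hk2 : k = SpTwo.q C.S u (c • v) a * C.S.τ (d • v) := by
    apply C.S.ext_iff
    intro z
    rw [hρ, C.S.ρ_mul, q_apply C.S hcv, C.S.hτ]
    simp only [C.B_add_left, C.B_smul_left, C.B_smul_right, C.B_self, hvu, mul_zero, add_zero]
    generalize C.S.B z u = i
    generalize C.S.B z v = j
    rcases z2 a with rfl | rfl <;> rcases z2 c with rfl | rfl <;> rcases z2 d with rfl | rfl <;>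
      rcases z2 i with rfl | rfl <;> rcases z2 j with rfl | rfl <;> simp <;> abel
  have hyk : y * k = k * y := by
    rw [hk2]
    have e1 := h.comm_q hvu (z := c • v) hcv (by rw [C.B_smul_left, C.B_self, mul_zero]) a
    have e2 := h.comm (d • v) (by rw [C.B_smul_left, hvu, mul_zero]) (by rw [C.B_smul_left, C.B_self, mul_zero])
    exact (Commute.mul_right e1 e2).eq
  have hkk : (k : G) * k = 1 := by
    rw [hk2]
    have e1 : qg C u (c • v) a * qg C u (c • v) a = 1 := qg_sq C hcv
    have e2 : C.b (d • v) * qg C u (c • v) a = qg C u (c • v) a * C.b (d • v) := by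
      have e3 := qg_b_conj C (u := u) (p := c • v) (e := a) (x := d • v) (by rw [C.B_smul_left, hvu, mul_zero])
      rw [C.B_smul_left, C.B_smul_right, C.B_self, mul_zero, mul_zero, zero_smul, add_zero] at e3
      calc C.b (d • v) * qg C u (c • v) a = C.b (d • v) * qg C u (c • v) a * (C.b (d • v) * C.b (d • v)) := by
            rw [C.b_sq, mul_one]
        _ = (C.b (d • v) * qg C u (c • v) a * C.b (d • v)) * C.b (d • v) := by group
        _ = _ := by rw [e3]
    have e3 : C.b (d • v) * C.b (d • v) = 1 := C.b_sq _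
    change qg C u (c • v) a * C.b (d • v) * (qg C u (c • v) a * C.b (d • v)) = 1
    calc qg C u (c • v) a * C.b (d • v) * (qg C u (c • v) a * C.b (d • v)) =
        qg C u (c • v) a * (C.b (d • v) * qg C u (c • v) a) * C.b (d • v) := by group
      _ = (qg C u (c • v) a * qg C u (c • v) a) * (C.b (d • v) * C.b (d • v)) := by rw [e2]; group
      _ = 1 := by rw [e1, e3, one_mul]
  rcases hk with hk | hk
  · refine ⟨a, c, d, ?_⟩
    calc y' = y' * y * y := by rw [mul_assoc, h.sq, mul_one]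
      _ = k * y := by rw [hk]
      _ = _ := by rw [hk2]; rfl
  · exfalso
    have e1 : y' = C.t * k * y := by
      calc y' = y' * y * y := by rw [mul_assoc, h.sq, mul_one]
        _ = _ := by rw [hk]
    have e2 : y' * y' = qg C u v 0 := by
      calc y' * y' = C.t * k * (y * C.t) * (k * y) := by rw [e1]; group
        _ = C.t * k * (y * C.t) * (y * k) := by rw [hyk]
        _ = C.t * k * (y * C.t * y) * k := by group
        _ = C.t * (k * C.t) * qg C u v 0 * k := by rw [h.conj_t]; group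
        _ = (C.t * C.t) * k * qg C u v 0 * k := by rw [t_comm C k]; group
        _ = k * (qg C u v 0 * k) := by rw [C.tt]; group
        _ = k * (k * qg C u v 0) := by
            congr 1
            rw [hk2]
            change qg C u v 0 * (qg C u (c • v) a * C.b (d • v)) = qg C u (c • v) a * C.b (d • v) * qg C u v 0
            have e3 := qg_b_conj C (u := u) (p := v) (e := 0) (x := d • v) (by rw [C.B_smul_left, hvu, mul_zero])
            rw [C.B_smul_right, C.B_self, mul_zero, zero_smul, add_zero] at e3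
            have e4 : C.b (d • v) * qg C u v 0 = qg C u v 0 * C.b (d • v) := by
              calc C.b (d • v) * qg C u v 0 = C.b (d • v) * qg C u v 0 * (C.b (d • v) * C.b (d • v)) := by
                    rw [C.b_sq, mul_one]
                _ = (C.b (d • v) * qg C u v 0 * C.b (d • v)) * C.b (d • v) := by group
                _ = _ := by rw [e3]
            rw [mul_assoc, e4, ← mul_assoc, ← mul_assoc, qg_comm C hvu hcv]
        _ = _ := by rw [← mul_assoc, hkk, one_mul]
    rw [h'.sq, ← qg_zero C (u := u)] at e2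
    obtain ⟨e3, -⟩ := qg_inj C hu (by rw [C.B_zero_left]) hvu e2
    rw [zero_add] at e3
    exact hv e3

/-- an involution commutes with `b x` if it is conjugate to itself -/
theorem b_swap {g : G} {x : V} (h : C.b x * g * C.b x = g) : C.b x * g = g * C.b x := by
  calc C.b x * g = C.b x * g * (C.b x * C.b x) := by rw [C.b_sq, mul_one]
    _ = (C.b x * g * C.b x) * C.b x := by group
    _ = _ := by rw [h]

theorem qg_b_comm {p x : V} {e : ZMod 2} (hx : C.S.B x u = 0) (hp : C.S.B p x = 0) :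
    C.b x * qg C u p e = qg C u p e * C.b x := by
  apply b_swap
  rw [qg_b_conj C hx, hp, zero_smul, add_zero]

/-- the action on `Q_u` -/
theorem IsX.pencil [Finite V] (hu : u ≠ 0) (hv : v ∉ ln u) (hvu : C.S.B v u = 0) (h : IsX C u v y) :
    ∃ a c : ZMod 2, ∀ p e, C.S.B p u = 0 →
      y * qg C u p e * y = qg C u p e * qg C u ((C.S.B p v * c) • v) (C.S.B p v * a) := by
  obtain ⟨p0, hp0, hp0v⟩ := sep C.S hv
  rw [mem_perp_ln] at hp0
  have huv : C.S.B u v = 0 := by rw [C.symm]; exact hvu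
  have hup0 : C.S.B u p0 = 0 := by rw [C.symm]; exact hp0
  obtain ⟨k, hk⟩ : ∃ k : C.L, k = SpTwo.q C.S u p0 0 := ⟨_, rfl⟩
  have hkq : (k : G) = qg C u p0 0 := by rw [hk]; rfl
  have hkk : (k : G) * k = 1 := by rw [hkq]; exact qg_sq C hp0
  have hki : (k : G)⁻¹ = k := inv_eq_of_mul_eq_one_right hkk
  have hku : C.S.ρ k u = u := by
    rw [hk, q_apply C.S hp0, hup0, C.B_self, zero_smul, zero_smul, mul_zero, zero_smul, add_zero, add_zero, add_zero]
  have hkv : C.S.ρ k v = v + u := by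
    rw [hk, q_apply C.S hp0, C.symm v p0, hp0v, hvu, zero_smul, mul_zero, zero_smul, one_smul, add_zero, add_zero]
  have h' : IsX C u v (k * y * k) := by
    have h1 := h.conj k
    rw [hku, hkv, hki] at h1
    exact h1.add_self' hvu
  obtain ⟨a, c, d, hacd⟩ := h.same hu hv hvu h'
  obtain ⟨g, hg⟩ : ∃ g, g = qg C u (c • v) a * C.b (d • v) := ⟨_, rfl⟩
  rw [← hg] at hacd
  have hcv : C.S.B (c • v) u = 0 := by rw [C.B_smul_left, hvu, mul_zero]
  have hdv : C.S.B (d • v) u = 0 := by rw [C.B_smul_left, hvu, mul_zero]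
  have e1 : qg C u (c • v) a * qg C u (c • v) a = 1 := qg_sq C hcv
  have e2 : C.b (d • v) * qg C u (c • v) a = qg C u (c • v) a * C.b (d • v) :=
    qg_b_comm hdv (by rw [C.B_smul_left, C.B_smul_right, C.B_self, mul_zero, mul_zero])
  have hgg : g * g = 1 := by
    rw [hg]
    calc qg C u (c • v) a * C.b (d • v) * (qg C u (c • v) a * C.b (d • v)) =
        qg C u (c • v) a * (C.b (d • v) * qg C u (c • v) a) * C.b (d • v) := by group
      _ = (qg C u (c • v) a * qg C u (c • v) a) * (C.b (d • v) * C.b (d • v)) := by rw [e2]; group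
      _ = 1 := by rw [e1, C.b_sq, one_mul]
  -- `g` commutes with `k`
  have hgk : (k : G) * g = g * k := by
    have h2 : g = k * y * k * y := by rw [hacd, mul_assoc, h.sq, mul_one]
    have h3 : (k : G) * g * k = g⁻¹ := by
      rw [h2]
      have h4 : (k * y * k * y)⁻¹ = y⁻¹ * (k : G)⁻¹ * y⁻¹ * (k : G)⁻¹ := by group
      rw [h4, h.inv_eq, hki]
      calc (k : G) * (k * y * k * y) * k = (k * k) * y * k * y * k := by group
        _ = _ := by rw [hkk, one_mul]
    rw [inv_eq_of_mul_eq_one_right hgg] at h3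
    calc (k : G) * g = k * g * (k * k) := by rw [hkk, mul_one]
      _ = (k * g * k) * k := by group
      _ = _ := by rw [h3]
  have hd : d = 0 := by
    rcases z2 d with h2 | h2
    · exact h2
    exfalso
    rw [hg, h2, one_smul] at hgk
    have h3 : qg C u p0 0 * qg C u (c • v) a = qg C u (c • v) a * qg C u p0 0 := qg_comm C hp0 hcv
    rw [← hkq] at h3
    have h4 : (k : G) * C.b v = C.b v * k := by
      have h5 : qg C u (c • v) a * ((k : G) * C.b v) = qg C u (c • v) a * (C.b v * k) := by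
        rw [← mul_assoc, ← h3, mul_assoc, hgk, mul_assoc]
      exact mul_left_cancel h5
    have h5 := C.fix_of_comm h4
    rw [hkv] at h5
    exact hu (add_eq_left.1 h5)
  rw [hd, zero_smul, C.b_zero, mul_one] at hg
  have hyk : y * k * y = k * g := by
    calc y * k * y = (k * k) * y * k * y := by rw [hkk, one_mul]
      _ = k * (k * y * k) * y := by group
      _ = k * (g * (y * y)) := by rw [hacd]; group
      _ = _ := by rw [h.sq, mul_one]
  refine ⟨a, c, fun p e hp => ?_⟩
  rcases z2 (C.S.B p v) with hpv | hpv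
  · rw [hpv, zero_mul, zero_mul, zero_smul, qg_zero, mul_one, h.comm_q hvu hp hpv, mul_assoc, h.sq, mul_one]
  · rw [hpv, one_mul, one_mul, ← hg]
    have hpp : C.S.B (p + p0) u = 0 := by rw [C.B_add_left, hp, hp0, add_zero]
    have hpp' : C.S.B (p + p0) v = 0 := by rw [C.B_add_left, hpv, hp0v, z2_add]
    obtain ⟨e', he'⟩ : ∃ e', qg C u p e = k * qg C u (p + p0) e' := by
      refine ⟨e + C.S.B p0 (p + p0), ?_⟩
      rw [hkq, qg_mul C hp0 hpp, add_comm p p0, aac]
      congr 1
      rw [zero_add, add_assoc, z2_add, add_zero]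
    have h2 := h.comm_q hvu hpp hpp' e'
    have h3 : qg C u (p + p0) e' * g = g * qg C u (p + p0) e' := by rw [hg]; exact qg_comm C hpp hcv
    rw [he']
    calc y * (k * qg C u (p + p0) e') * y = y * k * (qg C u (p + p0) e' * y) := by group
      _ = (y * k * y) * qg C u (p + p0) e' := by rw [← h2]; group
      _ = k * (g * qg C u (p + p0) e') := by rw [hyk]; group
      _ = _ := by rw [← h3]; group

theorem IsX.mul_bv (h : IsX C u v y) (hvu : C.S.B v u = 0) : IsX C u v (y * C.b v) := by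
  have h1 := h.comm v hvu (C.B_self v)
  have h2 : C.b v * C.t = C.t * C.b v := t_comm C (C.S.τ v)
  have h3 : C.b v * qg C u v 0 = qg C u v 0 * C.b v := qg_b_comm hvu (C.B_self v)
  refine ⟨?_, ?_, ?_⟩
  · calc y * C.b v * (y * C.b v) = (y * C.b v) * y * C.b v := by group
      _ = C.b v * (y * y) * C.b v := by rw [h1]; group
      _ = 1 := by rw [h.sq, mul_one, C.b_sq]
  · calc y * C.b v * C.t * (y * C.b v) = y * (C.b v * C.t) * y * C.b v := by group
      _ = y * C.t * (C.b v * y) * C.b v := by rw [h2]; group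
      _ = (y * C.t * y) * (C.b v * C.b v) := by rw [← h1]; group
      _ = _ := by rw [h.conj_t, C.b_sq, mul_one]
  · intro e he he'
    have h4 := h.comm e he he'
    have h5 : C.b v * C.b e = C.b e * C.b v := C.b_comm (by rw [C.symm]; exact he')
    rw [mul_assoc, h5, ← mul_assoc, h4, mul_assoc]

/-- the two cases -/
theorem IsX.cases [Finite V] (hu : u ≠ 0) (hv : v ∉ ln u) (hvu : C.S.B v u = 0) (h : IsX C u v y) :
    ∃ y', U0 C u v y' ∨ UC C u v y' := by
  obtain ⟨a, c, hac⟩ := h.pencil hu hv hvu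
  have h1 := h.comm v hvu (C.B_self v)
  have key : ∀ p e, C.S.B p u = 0 → y * C.b v * qg C u p e * (y * C.b v) =
      qg C u (p + (C.S.B p v * (1 + c)) • v) (e + C.S.B p v * (a + c)) := by
    intro p e hp
    have h2 := qg_b_conj C (u := u) (p := p) (e := e) (x := v) hvu
    have h3 : C.S.B (p + C.S.B p v • v) u = 0 := by rw [C.B_add_left, C.B_smul_left, hp, hvu, mul_zero, add_zero]
    have h4 := hac _ e h3
    calc y * C.b v * qg C u p e * (y * C.b v) = y * C.b v * qg C u p e * (C.b v * y) := by rw [h1]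
      _ = y * (C.b v * qg C u p e * C.b v) * y := by group
      _ = _ := by
        rw [h2, h4, qg_mul C h3 (by rw [C.B_smul_left, hvu, mul_zero])]
        simp only [C.B_add_left, C.B_smul_left, C.B_smul_right, C.B_self, mul_zero, add_zero]
        rw [add_assoc, ← add_smul]
        generalize C.S.B p v = i
        have e1 : i + i * c = i * (1 + c) := by ring
        have e2 : ∀ e i a c : ZMod 2, e + i * a + i * c * i = e + i * (a + c) := by decide
        rw [e1, e2]
  rcases z2 a with rfl | rfl <;> rcases z2 c with rfl | rfl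
  · refine ⟨y, Or.inl ⟨h, fun p e hp => ?_⟩⟩
    rw [hac p e hp, mul_zero, zero_smul, qg_zero, mul_one]
  · refine ⟨y, Or.inr ⟨h, fun p e hp => ?_⟩⟩
    rw [hac p e hp, mul_zero, mul_one, qg_mul C hp (by rw [C.B_smul_left, hvu, mul_zero])]
    simp only [C.B_smul_right, add_zero, z2_mul]
  · refine ⟨y * C.b v, Or.inr ⟨h.mul_bv hvu, fun p e hp => ?_⟩⟩
    rw [key p e hp, add_zero, mul_one]
  · refine ⟨y * C.b v, Or.inl ⟨h.mul_bv hvu, fun p e hp => ?_⟩⟩
    rw [key p e hp, z2_add, mul_zero, zero_smul, add_zero, add_zero]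

theorem U0.conj (h : U0 C u v y) (m : C.L) : U0 C (C.S.ρ m u) (C.S.ρ m v) (m * y * (m : G)⁻¹) := by
  refine ⟨h.toIsX.conj m, fun p e hp => ?_⟩
  have h1 : C.S.ρ m (C.S.ρ m⁻¹ p) = p := C.S.ρ_apply_inv m p
  have h2 : C.S.B (C.S.ρ m⁻¹ p) u = 0 := by rw [← C.S.inv m, h1]; exact hp
  have h3 := h.act _ e h2
  have h4 := qg_conj C (u := u) (p := C.S.ρ m⁻¹ p) (e := e) m
  rw [h1] at h4
  rw [← h4]
  calc m * y * (m : G)⁻¹ * (m * qg C u (C.S.ρ m⁻¹ p) e * (m : G)⁻¹) * (m * y * (m : G)⁻¹) =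
      m * (y * qg C u (C.S.ρ m⁻¹ p) e * y) * (m : G)⁻¹ := by group
    _ = _ := by rw [h3]

theorem UC.conj (h : UC C u v y) (m : C.L) : UC C (C.S.ρ m u) (C.S.ρ m v) (m * y * (m : G)⁻¹) := by
  refine ⟨h.toIsX.conj m, fun p e hp => ?_⟩
  have h1 : C.S.ρ m (C.S.ρ m⁻¹ p) = p := C.S.ρ_apply_inv m p
  have h2 : C.S.B (C.S.ρ m⁻¹ p) u = 0 := by rw [← C.S.inv m, h1]; exact hp
  have h3 := h.act _ e h2
  have h4 := qg_conj C (u := u) (p := C.S.ρ m⁻¹ p) (e := e) m
  rw [h1] at h4
  have h5 : C.S.B (C.S.ρ m⁻¹ p) v = C.S.B p (C.S.ρ m v) := by rw [← C.S.inv m, h1]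
  rw [← h4]
  calc m * y * (m : G)⁻¹ * (m * qg C u (C.S.ρ m⁻¹ p) e * (m : G)⁻¹) * (m * y * (m : G)⁻¹) =
      m * (y * qg C u (C.S.ρ m⁻¹ p) e * y) * (m : G)⁻¹ := by group
    _ = _ := by rw [h3, qg_conj, map_add, map_smul, h1, h5]

end Cfsg.Agent.OddHalf.SpTwoN.KappaDef
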