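import Cfsg.Agent.OddHalf.SpTwoN.KappaDef

/-!
# The pencil of lines through `u`

`U0.kappa_zero`: if the elements `y` over the lines through `u` act trivially on `Q_u` then `κ = 0`.
`UC.three`: if `y` acts like `b_v` then `y (b_x y b_x) y ∈ ⟨b_u⟩ b_x`.
-/

set_option autoImplicit false

namespace Cfsg.Agent.OddHalf.SpTwoN.KappaPen

open Cfsg.Agent.StandardComponent.SpTwo Cfsg.Agent.OddHalf Cfsg.Agent.OddHalf.SpTwo
open Cfsg.Agent.OddHalf.SpTwoN Cfsg.Agent.OddHalf.SpTwoN.LBStart Cfsg.Agent.OddHalf.SpTwoN.KappaDef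

variable {G V : Type*} [Group G] [AddCommGroup V] [Module (ZMod 2) V] {C : Ctx G V}
variable {u v : V} {y : G}

theorem notMem_of_B {u v x : V} (hvu : C.S.B v u = 0) (hx : C.S.B x v = 1) : x ∉ ln u := by
  rw [mem_ln]
  rintro (rfl | rfl)
  · rw [C.B_zero_left] at hx
    exact zero_ne_one hx
  · rw [C.symm, hvu] at hx
    exact zero_ne_one hx

/-- elements of `C(t)` centralizing `Q_u` -/
theorem exists_qg [Finite V] (hu : u ≠ 0) {g : G} (hg : g * C.t = C.t * g)
    (hq : ∀ p e, C.S.B p u = 0 → g * qg C u p e = qg C u p e * g) :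
    ∃ p e, C.S.B p u = 0 ∧ (g = qg C u p e ∨ g = C.t * qg C u p e) := by
  obtain ⟨k, hk⟩ := exists_lift C hg
  have h1 : ∀ p e, C.S.B p u = 0 → (k : G) * qg C u p e = qg C u p e * k := by
    intro p e hp
    have h2 := hq p e hp
    rcases hk with rfl | rfl
    · exact h2
    · have h3 : C.t * ((k : G) * qg C u p e) = C.t * (qg C u p e * k) := by
        rw [← mul_assoc, h2, ← mul_assoc, qg_t, mul_assoc]
      exact mul_left_cancel h3
  have h2 : k ∈ QU C.S (ln u) := by
    apply mem_QU_of_commute C.S hu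
    · have h3 := h1 0 1 (C.B_zero_left u)
      rw [qg_zero_one] at h3
      exact Subtype.ext h3
    · intro p hp
      exact Subtype.ext (h1 p 0 hp)
  obtain ⟨p, e, hp, rfl⟩ := mem_QU_ln C.S hu h2
  exact ⟨p, e, hp, hk⟩

/-- the trivial action forces `κ = 0` -/
theorem _root_.Cfsg.Agent.OddHalf.SpTwoN.KappaDef.U0.kappa_zero (hu : u ≠ 0) (hv : v ∉ ln u)
    (hvu : C.S.B v u = 0) (h : U0 C u v y) {n : G} (hn : IsY C u n) {κ : ZMod 2} {Q : V → ZMod 2}
    (ht : HasType C u n κ Q) : κ = 0 := by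
  have hfinV := C.finV
  obtain ⟨v', hv'u, hv'v⟩ := sep C.S hv
  rw [mem_perp_ln] at hv'u
  have hv' : v' ∉ ln u := notMem_of_B hvu hv'v
  have hwu : C.S.B (v + v') u = 0 := by rw [C.B_add_left, hvu, hv'u, add_zero]
  have hw' : v + v' ∉ ln u := notMem_of_B hvu (by rw [C.B_add_left, C.B_self, hv'v, zero_add])
  obtain ⟨m2, h2u, h2v, -⟩ := trans_vec_perp C.S hv hv' hvu hv'u
  obtain ⟨m3, h3u, h3v, -⟩ := trans_vec_perp C.S hv hw' hvu hwu
  have h2 := h.conj m2
  have h3 := h.conj m3
  rw [h2u, h2v] at h2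
  rw [h3u, h3v] at h3
  obtain ⟨y2, hy2⟩ : ∃ y2, y2 = (m2 : G) * y * (m2 : G)⁻¹ := ⟨_, rfl⟩
  obtain ⟨y3, hy3⟩ : ∃ y3, y3 = (m3 : G) * y * (m3 : G)⁻¹ := ⟨_, rfl⟩
  rw [← hy2] at h2
  rw [← hy3] at h3
  have cq : ∀ {z : G} {w : V}, U0 C u w z → ∀ p e, C.S.B p u = 0 → z * qg C u p e = qg C u p e * z := by
    intro z w hz p e hp
    have h4 := hz.act p e hp
    calc z * qg C u p e = z * qg C u p e * (z * z) := by rw [hz.sq, mul_one]
      _ = (z * qg C u p e * z) * z := by group
      _ = _ := by rw [h4]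
  have c1 := cq h
  have c2 := cq h2
  have c3 := cq h3
  have hcn : ∀ p e, C.S.B p u = 0 → n * qg C u p e = qg C u p e * n := fun p e hp => hn.conj_q hp e
  obtain ⟨f, hf⟩ : ∃ f, f = y * y2 * y3 := ⟨_, rfl⟩
  have cf : ∀ p e, C.S.B p u = 0 → f * qg C u p e = qg C u p e * f := by
    intro p e hp
    rw [hf]
    exact ((Commute.mul_left (c1 p e hp) (c2 p e hp)).mul_left (c3 p e hp)).eq
  have hb : qg C u v 0 * qg C u v' 0 * qg C u (v + v') 0 = C.b u := by
    rw [qg_mul C hvu hv'u, qg_mul C hwu hwu, aa, C.B_self, C.symm v v', hv'v, ← qg_zero_one]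
    congr 1
  have hft : f * C.t = C.t * C.b u * f := by
    have e2 := c1 v' 0 hv'u
    have e3 := c1 (v + v') 0 hwu
    have e4 := c2 (v + v') 0 hwu
    calc f * C.t = y * y2 * (y3 * C.t) := by rw [hf]; group
      _ = y * (y2 * C.t) * qg C u (v + v') 0 * y3 := by rw [h3.yt]; group
      _ = (y * C.t) * qg C u v' 0 * (y2 * qg C u (v + v') 0) * y3 := by rw [h2.yt]; group
      _ = (y * C.t) * qg C u v' 0 * (qg C u (v + v') 0 * y2) * y3 := by rw [e4]
      _ = C.t * qg C u v 0 * (y * qg C u v' 0) * qg C u (v + v') 0 * y2 * y3 := by rw [h.yt]; group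
      _ = C.t * qg C u v 0 * qg C u v' 0 * (y * qg C u (v + v') 0) * y2 * y3 := by rw [e2]; group
      _ = C.t * (qg C u v 0 * qg C u v' 0 * qg C u (v + v') 0) * (y * y2 * y3) := by rw [e3]; group
      _ = _ := by rw [hb, hf]
  have hnt : n * C.t = C.t * C.b u * n := by rw [← hn.conj_t, mul_assoc (n * C.t), hn.sq, mul_one]
  have hfb : f * C.b u = C.b u * f := by
    have := cf 0 1 (C.B_zero_left u)
    rwa [qg_zero_one] at this
  have hgt : f * n * C.t = C.t * (f * n) := by
    calc f * n * C.t = (f * C.t) * C.b u * n := by rw [mul_assoc, hnt]; group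
      _ = C.t * C.b u * (f * C.b u) * n := by rw [hft]; group
      _ = C.t * (C.b u * C.b u) * f * n := by rw [hfb]; group
      _ = _ := by rw [C.b_sq]; group
  obtain ⟨p0, e0, hp0, hg⟩ := exists_qg hu hgt (fun p e hp => by
    rw [mul_assoc, hcn p e hp, ← mul_assoc, cf p e hp, mul_assoc])
  -- a vector
  obtain ⟨w, hw, hwl⟩ := room C.S C.cardV (A := pl u v ⊔ ln v') (A' := ln u) (by
    have h4 := finrank_pl_le u v
    have h5 := finrank_sup_ln_le (pl u v) v'
    have h6 := finrank_ln_le u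
    omega)
  rw [mem_perp_sup, mem_perp_pl, mem_perp_ln] at hw
  obtain ⟨⟨hwu', hwv⟩, hwv'⟩ := hw
  obtain ⟨i, hi⟩ : ∃ i, i = C.S.B w p0 := ⟨_, rfl⟩
  refine ht.kappa_zero hu hwu' hwl (z := w + i • u) ?_
  have hgb : f * n * C.b w = C.b (w + i • u) * (f * n) := by
    have h4 : qg C u p0 e0 * C.b w = C.b (w + i • u) * qg C u p0 e0 := by
      have h5 := C.b_conj (SpTwo.q C.S u p0 e0) w
      rw [q_apply C.S hp0, hwu', mul_zero, zero_smul, zero_smul, add_zero, add_zero, ← hi] at h5
      exact mul_inv_eq_iff_eq_mul.1 h5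
    rcases hg with hg | hg
    · rw [hg, h4]
    · rw [hg, mul_assoc, h4, ← mul_assoc, ← mul_assoc]
      congr 1
      exact (t_comm C (C.S.τ (w + i • u))).symm
  have huv : C.S.B u v = 0 := by rw [C.symm]; exact hvu
  have huv' : C.S.B u v' = 0 := by rw [C.symm]; exact hv'u
  have hfw : f * C.b (w + i • u) = C.b (w + i • u) * f := by
    have e1 : C.S.B (w + i • u) u = 0 := by rw [C.B_add_left, C.B_smul_left, C.B_self, hwu', mul_zero, add_zero]
    have e2 : C.S.B (w + i • u) v = 0 := by rw [C.B_add_left, C.B_smul_left, huv, hwv, mul_zero, add_zero]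
    have e3 : C.S.B (w + i • u) v' = 0 := by rw [C.B_add_left, C.B_smul_left, huv', hwv', mul_zero, add_zero]
    rw [hf]
    exact ((Commute.mul_left (h.comm _ e1 e2) (h2.comm _ e1 e3)).mul_left
      (h3.comm _ e1 (by rw [C.B_add_right, e2, e3, add_zero]))).eq
  have h4 : f * (n * C.b w) = f * (C.b (w + i • u) * n) := by
    rw [← mul_assoc, hgb, ← mul_assoc, ← mul_assoc, hfw]
  rw [mul_left_cancel h4, mul_assoc, hn.sq, mul_one]

/-- the first form of the relation -/
theorem _root_.Cfsg.Agent.OddHalf.SpTwoN.KappaDef.UC.three_aux [Finite V] (hu : u ≠ 0) (hv : v ∉ ln u)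
    (hvu : C.S.B v u = 0) (h : UC C u v y) {x : V} (hxu : C.S.B x u = 0) (hxv : C.S.B x v = 1) :
    (∃ e, y * (C.b x * y * C.b x) * y = qg C u 0 e * C.b x) ∨
      ∃ e, y * (C.b x * y * C.b x) * y = C.t * qg C u x e * C.b x := by
  have huv : C.S.B u v = 0 := by rw [C.symm]; exact hvu
  have hux : C.S.B u x = 0 := by rw [C.symm]; exact hxu
  have hvx : C.S.B v x = 1 := by rw [C.symm]; exact hxv
  have hvxu : C.S.B (v + x) u = 0 := by rw [C.B_add_left, hvu, hxu, add_zero]
  have hxl : x ∉ ln u := notMem_of_B hvu hxv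
  obtain ⟨y1, hy1⟩ : ∃ y1, y1 = C.b x * y * C.b x := ⟨_, rfl⟩
  rw [← hy1]
  have h1 : UC C u (v + x) y1 := by
    have h2 := h.conj (C.S.τ x)
    rw [C.S.hτ, C.S.hτ, hux, hvx, zero_smul, add_zero, one_smul] at h2
    have e : ((C.S.τ x : C.L) : G)⁻¹ = C.b x := C.b_inv x
    rw [e] at h2
    rw [hy1]
    exact h2
  obtain ⟨f, hf⟩ : ∃ f, f = y * y1 * y := ⟨_, rfl⟩
  rw [← hf]
  have hff : f * f = 1 := by
    rw [hf]
    calc y * y1 * y * (y * y1 * y) = y * y1 * (y * y) * y1 * y := by group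
      _ = y * (y1 * y1) * y := by rw [h.sq]; group
      _ = 1 := by rw [h1.sq, mul_one, h.sq]
  -- action on `Q_u`
  have hact : ∀ p e, C.S.B p u = 0 → f * qg C u p e * f = qg C u (p + C.S.B p x • x) e := by
    intro p e hp
    have e1 := h.act p e hp
    have hp1 : C.S.B (p + C.S.B p v • v) u = 0 := by rw [C.B_add_left, C.B_smul_left, hp, hvu, mul_zero, add_zero]
    have e2 := h1.act _ (e + C.S.B p v) hp1
    have hb1 : C.S.B (p + C.S.B p v • v) (v + x) = C.S.B p x := by
      rw [C.B_add_left, C.B_smul_left, C.B_add_right, C.B_add_right, C.B_self, hvx, zero_add, mul_one,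
        add_right_comm, z2_add, zero_add]
    rw [hb1] at e2
    have hp2 : C.S.B (p + C.S.B p v • v + C.S.B p x • (v + x)) u = 0 := by
      rw [C.B_add_left, C.B_smul_left, hp1, hvxu, mul_zero, add_zero]
    have e3 := h.act _ (e + C.S.B p v + C.S.B p x) hp2
    have hb2 : C.S.B (p + C.S.B p v • v + C.S.B p x • (v + x)) v = C.S.B p v + C.S.B p x := by
      rw [C.B_add_left, C.B_add_left, C.B_smul_left, C.B_smul_left, C.B_add_left, C.B_self, hxv, mul_zero,
        add_zero, zero_add, mul_one]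
    rw [hb2] at e3
    calc f * qg C u p e * f = y * (y1 * (y * qg C u p e * y) * y1) * y := by rw [hf]; group
      _ = _ := by
        rw [e1, e2, e3]
        generalize C.S.B p v = α
        generalize C.S.B p x = β
        have e4 : p + α • v + β • (v + x) + (α + β) • v = p + β • x := by
          rw [smul_add, add_smul]
          have : p + α • v + (β • v + β • x) + (α • v + β • v) =
            p + β • x + (α • v + α • v) + (β • v + β • v) := by abel
          rw [this, aa, aa, add_zero, add_zero]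
        have e5 : ∀ e α β : ZMod 2, e + α + β + (α + β) = e := by decide
        rw [e4, e5]
  -- `f` commutes with `t`
  have hft : f * C.t = C.t * f := by
    have e1 : y * qg C u (v + x) 0 = qg C u x 1 * y := by
      have e2 := h.act (v + x) 0 hvxu
      have e3 : C.S.B (v + x) v = 1 := by rw [C.B_add_left, C.B_self, hxv, zero_add]
      have e4 : v + x + (1 : ZMod 2) • v = x := by rw [one_smul, add_right_comm, aa, zero_add]
      rw [e3, e4, zero_add] at e2
      rw [← e2, mul_assoc (y * _), h.sq, mul_one]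
    have e2 : y1 * qg C u v 0 = qg C u x 1 * y1 := by
      have e3 := h1.act v 0 hvu
      have e4 : C.S.B v (v + x) = 1 := by rw [C.B_add_right, C.B_self, hvx, zero_add]
      have e5 : v + (1 : ZMod 2) • (v + x) = x := by rw [one_smul, aac]
      rw [e4, e5, zero_add] at e3
      rw [← e3, mul_assoc (y1 * _), h1.sq, mul_one]
    have e3 : y * qg C u x 1 = qg C u (x + v) 0 * y := by
      have e4 := h.act x 1 hxu
      rw [hxv, one_smul, z2_add] at e4
      rw [← e4, mul_assoc (y * _), h.sq, mul_one]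
    have e4 : qg C u v 0 * qg C u x 1 * qg C u (x + v) 0 = 1 := by
      rw [qg_mul C hvu hxu, hvx, add_comm x v, qg_mul C hvxu hvxu, aa, C.B_self, ← qg_zero C (u := u)]
      congr 1
    calc f * C.t = y * y1 * (y * C.t) := by rw [hf]; group
      _ = y * (y1 * C.t) * qg C u v 0 * y := by rw [h.yt]; group
      _ = (y * C.t) * qg C u (v + x) 0 * (y1 * qg C u v 0) * y := by rw [h1.yt]; group
      _ = C.t * qg C u v 0 * (y * qg C u (v + x) 0) * qg C u x 1 * y1 * y := by rw [h.yt, e2]; group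
      _ = C.t * qg C u v 0 * qg C u x 1 * (y * qg C u x 1) * y1 * y := by rw [e1]; group
      _ = C.t * (qg C u v 0 * qg C u x 1 * qg C u (x + v) 0) * (y * y1 * y) := by rw [e3]; group
      _ = _ := by rw [e4, mul_one, hf]
  -- `f b_x` centralizes `Q_u`
  have hbt : C.b x * C.t = C.t * C.b x := t_comm C (C.S.τ x)
  obtain ⟨p0, e0, hp0, hg⟩ := exists_qg hu (g := f * C.b x) (by
      rw [mul_assoc, hbt, ← mul_assoc, hft, mul_assoc]) (by
    intro p e hp
    have e1 := qg_b_conj C (u := u) (p := p) (e := e) (x := x) hxu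
    have hp' : C.S.B (p + C.S.B p x • x) u = 0 := by rw [C.B_add_left, C.B_smul_left, hp, hxu, mul_zero, add_zero]
    have e2 := hact _ e hp'
    have e3 : p + C.S.B p x • x + C.S.B (p + C.S.B p x • x) x • x = p := by
      rw [C.B_add_left, C.B_smul_left, C.B_self, mul_zero, add_zero, add_assoc, aa, add_zero]
    rw [e3] at e2
    calc f * C.b x * qg C u p e = f * (C.b x * qg C u p e * C.b x) * C.b x := by
          rw [← mul_assoc, ← mul_assoc, mul_assoc _ (C.b x) (C.b x), C.b_sq, mul_one]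
      _ = f * qg C u (p + C.S.B p x • x) e * (f * f) * C.b x := by rw [e1, hff, mul_one]
      _ = (f * qg C u (p + C.S.B p x • x) e * f) * (f * C.b x) := by group
      _ = _ := by rw [e2])
  -- `p0 ⊥ x`
  have hpx : C.S.B p0 x = 0 := by
    rcases z2 (C.S.B p0 x) with h2 | h2
    · exact h2
    exfalso
    have e1 : f * f = qg C u p0 e0 * (C.b x * qg C u p0 e0 * C.b x) := by
      have e2 : f = f * C.b x * C.b x := by rw [mul_assoc, C.b_sq, mul_one]
      rcases hg with hg | hg
      · rw [hg] at e2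
        calc f * f = qg C u p0 e0 * C.b x * (qg C u p0 e0 * C.b x) := by rw [← e2]
          _ = _ := by group
      · rw [hg] at e2
        have e3 := qg_t C (u := u) (p := p0) (e := e0)
        calc f * f = C.t * qg C u p0 e0 * C.b x * (C.t * qg C u p0 e0 * C.b x) := by rw [← e2]
          _ = C.t * qg C u p0 e0 * (C.b x * C.t) * qg C u p0 e0 * C.b x := by group
          _ = C.t * (qg C u p0 e0 * C.t) * C.b x * qg C u p0 e0 * C.b x := by rw [hbt]; group
          _ = (C.t * C.t) * qg C u p0 e0 * C.b x * qg C u p0 e0 * C.b x := by rw [e3]; group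
          _ = _ := by rw [C.tt]; group
    have hpx' : C.S.B (p0 + x) u = 0 := by rw [C.B_add_left, hp0, hxu, add_zero]
    rw [qg_b_conj C hxu, h2, one_smul, hff, qg_mul C hp0 hpx', ← qg_zero C (u := u)] at e1
    obtain ⟨e2, -⟩ := qg_inj C hu (C.B_zero_left u) (by rw [C.B_add_left, hp0, hpx', add_zero]) e1
    rw [zero_add, aac] at e2
    exact hxl e2
  -- `p0` and the remaining vectors
  have hp0x : ∀ j : ZMod 2, C.S.B p0 v = j → qg C u p0 e0 = qg C u (j • x) e0 := by
    intro j hj
    have hjx : C.S.B (j • x) u = 0 := by rw [C.B_smul_left, hxu, mul_zero]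
    have h2 : p0 + j • x ∈ ln u := by
      apply mem_of_perp C.S
      intro z hz
      rw [mem_perp_ln] at hz
      obtain ⟨e, he⟩ : ∃ e, e = z + (C.S.B z x • v + C.S.B z v • x) := ⟨_, rfl⟩
      have heu : C.S.B e u = 0 := by
        rw [he]; simp only [C.B_add_left, C.B_smul_left, hz, hvu, hxu, mul_zero, add_zero]
      have hev : C.S.B e v = 0 := by
        rw [he]; simp only [C.B_add_left, C.B_smul_left, C.B_self, hxv, mul_zero, mul_one, zero_add, z2_add]
      have hex : C.S.B e x = 0 := by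
        rw [he]; simp only [C.B_add_left, C.B_smul_left, C.B_self, hvx, mul_zero, mul_one, add_zero, z2_add]
      -- `f b_x` commutes with `b_e`
      have h3 : f * C.b x * C.b e = C.b e * (f * C.b x) := by
        have a1 := h.comm e heu hev
        have a2 := h1.comm e heu (by rw [C.B_add_right, hev, hex, add_zero])
        have a3 : C.b x * C.b e = C.b e * C.b x := C.b_comm (by rw [C.symm]; exact hex)
        rw [hf]
        exact (((Commute.mul_left a1 a2).mul_left a1).mul_left a3).eq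
      have h4 : qg C u p0 e0 * C.b e = C.b e * qg C u p0 e0 := by
        rcases hg with hg | hg
        · rwa [hg] at h3
        · rw [hg] at h3
          have a3 : C.b e * C.t = C.t * C.b e := t_comm C (C.S.τ e)
          have a4 : C.t * (qg C u p0 e0 * C.b e) = C.t * (C.b e * qg C u p0 e0) := by
            rw [← mul_assoc, h3, ← mul_assoc, a3, mul_assoc]
          exact mul_left_cancel a4
      have h5 := C.fix_of_comm (k := SpTwo.q C.S u p0 e0) h4
      rw [q_apply C.S hp0, heu, mul_zero, zero_smul, zero_smul, add_zero, add_zero] at h5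
      have h6 : C.S.B e p0 = 0 := by
        rcases z2 (C.S.B e p0) with h7 | h7
        · exact h7
        · rw [h7, one_smul] at h5
          exact absurd (add_eq_left.1 h5) hu
      have h7 : z = e + (C.S.B z x • v + C.S.B z v • x) := by rw [he, add_assoc, aa, add_zero]
      have h8 : C.S.B v p0 = j := by rw [C.symm]; exact hj
      have h9 : C.S.B x p0 = 0 := by rw [C.symm]; exact hpx
      rw [h7]
      simp only [C.B_add_left, C.B_smul_left, C.B_add_right, C.B_smul_right, C.B_self, h6, hex, h8, h9, hvx,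
        mul_zero, mul_one, add_zero, z2_add]
    rcases mem_ln.1 h2 with h3 | h3
    · rw [eq_of_add _ _ h3]
    · have h4 : p0 = j • x + u := by rw [← h3, add_comm p0, ← add_assoc, aa, zero_add]
      rw [h4, qg_add_self C hjx]
  -- `y` commutes with `f b_x`
  have hfb : C.b x * (f * C.b x) = f * C.b x * C.b x := by
    have a1 : C.b x * qg C u p0 e0 = qg C u p0 e0 * C.b x := qg_b_comm hxu hpx
    rcases hg with hg | hg
    · rw [hg, a1]
    · rw [hg, ← mul_assoc, hbt, mul_assoc, a1, mul_assoc]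
  have hyf : y * (f * C.b x) = f * C.b x * y := by
    have a1 : y * C.b x * (f * C.b x) = f * C.b x * (y * C.b x) := by rw [hf, hy1]; group
    calc y * (f * C.b x) = y * (C.b x * C.b x) * (f * C.b x) := by rw [C.b_sq, mul_one]
      _ = y * C.b x * (C.b x * (f * C.b x)) := by group
      _ = y * C.b x * (f * C.b x) * C.b x := by rw [hfb]; group
      _ = f * C.b x * y * (C.b x * C.b x) := by rw [a1]; group
      _ = _ := by rw [C.b_sq, mul_one]
  have hyf' : y * (f * C.b x) * y = f * C.b x := by rw [hyf, mul_assoc, h.sq, mul_one]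
  obtain ⟨α, hα⟩ : ∃ α, α = C.S.B p0 v := ⟨_, rfl⟩
  have ha := h.act p0 e0 hp0
  rw [← hα] at ha
  have hp0' : C.S.B (p0 + α • v) u = 0 := by rw [C.B_add_left, C.B_smul_left, hp0, hvu, mul_zero, add_zero]
  rcases hg with hg | hg
  · left
    rw [hg, ha] at hyf'
    obtain ⟨-, e1⟩ := qg_inj C hu hp0' hp0 hyf'
    have e2 : α = 0 := by
      have : ∀ a b : ZMod 2, a + b = a → b = 0 := by decide
      exact this _ _ e1
    refine ⟨e0, ?_⟩
    have e3 := hp0x 0 (hα.symm.trans e2)
    rw [zero_smul] at e3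
    rw [← e3, ← hg, mul_assoc, C.b_sq, mul_one]
  · right
    have e1 : y * (C.t * qg C u p0 e0) * y = (y * C.t * y) * (y * qg C u p0 e0 * y) := by
      calc y * (C.t * qg C u p0 e0) * y = y * C.t * 1 * qg C u p0 e0 * y := by group
        _ = y * C.t * (y * y) * qg C u p0 e0 * y := by rw [h.sq]
        _ = _ := by group
    rw [hg, e1, h.conj_t, ha, mul_assoc] at hyf'
    have e2 := mul_left_cancel hyf'
    rw [qg_mul C hvu hp0'] at e2
    obtain ⟨e3, -⟩ := qg_inj C hu (by rw [C.B_add_left, hvu, hp0', add_zero]) hp0 e2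
    have e4 : α = 1 := by
      rcases z2 α with h2 | h2
      · exfalso
        rw [h2, zero_smul, add_zero, add_assoc, aa, add_zero] at e3
        exact hv e3
      · exact h2
    refine ⟨e0, ?_⟩
    have e5 := hp0x 1 (hα.symm.trans e4)
    rw [one_smul] at e5
    rw [← e5, ← hg, mul_assoc, C.b_sq, mul_one]

/-- the relation -/
theorem _root_.Cfsg.Agent.OddHalf.SpTwoN.KappaDef.UC.three [Finite V] (hu : u ≠ 0) (hv : v ∉ ln u)
    (hvu : C.S.B v u = 0) (h : UC C u v y) {x : V} (hxu : C.S.B x u = 0) (hxv : C.S.B x v = 1) :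
    ∃ a : ZMod 2, y * (C.b x * y * C.b x) * y = C.b (a • u) * C.b x := by
  rcases h.three_aux hu hv hvu hxu hxv with ⟨e, he⟩ | ⟨e0, he0⟩
  · refine ⟨e, ?_⟩
    rw [he]
    congr 1
    rcases z2 e with rfl | rfl
    · rw [qg_zero, zero_smul, C.b_zero]
    · rw [qg_zero_one, one_smul]
  exfalso
  have huv : C.S.B u v = 0 := by rw [C.symm]; exact hvu
  have hux : C.S.B u x = 0 := by rw [C.symm]; exact hxu
  have hvx : C.S.B v x = 1 := by rw [C.symm]; exact hxv
  have hvxu : C.S.B (v + x) u = 0 := by rw [C.B_add_left, hvu, hxu, add_zero]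
  have hxl : x ∉ ln u := notMem_of_B hvu hxv
  have hvxv : C.S.B (v + x) v = 1 := by rw [C.B_add_left, C.B_self, hxv, zero_add]
  obtain ⟨y1, hy1⟩ : ∃ y1, y1 = C.b x * y * C.b x := ⟨_, rfl⟩
  have h1 : UC C u (v + x) y1 := by
    have h2 := h.conj (C.S.τ x)
    rw [C.S.hτ, C.S.hτ, hux, hvx, zero_smul, add_zero, one_smul] at h2
    have e : ((C.S.τ x : C.L) : G)⁻¹ = C.b x := C.b_inv x
    rw [e] at h2
    rw [hy1]
    exact h2
  obtain ⟨y2, hy2⟩ : ∃ y2, y2 = C.b (v + x) * y * C.b (v + x) := ⟨_, rfl⟩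
  have h2 : UC C u x y2 := by
    have h2 := h.conj (C.S.τ (v + x))
    have e1 : C.S.B u (v + x) = 0 := by rw [C.B_add_right, huv, hux, add_zero]
    have e2 : C.S.B v (v + x) = 1 := by rw [C.B_add_right, C.B_self, hvx, zero_add]
    rw [C.S.hτ, C.S.hτ, e1, e2, zero_smul, add_zero, one_smul, aac] at h2
    have e : ((C.S.τ (v + x) : C.L) : G)⁻¹ = C.b (v + x) := C.b_inv _
    rw [e] at h2
    rw [hy2]
    exact h2
  have haux := h.three_aux hu hv hvu hvxu hvxv
  rw [← hy1] at he0
  rw [← hy2] at haux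
  obtain ⟨f, hf⟩ : ∃ f, f = y * y1 * y := ⟨_, rfl⟩
  obtain ⟨f', hf'⟩ : ∃ f', f' = y * y2 * y := ⟨_, rfl⟩
  rw [← hf] at he0
  rw [← hf'] at haux
  have hff : f * f = 1 := by
    rw [hf]
    calc y * y1 * y * (y * y1 * y) = y * y1 * (y * y) * y1 * y := by group
      _ = y * (y1 * y1) * y := by rw [h.sq]; group
      _ = 1 := by rw [h1.sq, mul_one, h.sq]
  -- first computation
  have k1 : f * y2 * f = qg C u x 0 * y2 := by
    have a1 := h2.comm_q hxu hxu (C.B_self x) e0
    have a2 := h2.comm x hxu (C.B_self x)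
    have a3 := h2.t_conj
    have a4 : f * y2 = qg C u x 0 * y2 * f := by
      calc f * y2 = C.t * qg C u x e0 * (C.b x * y2) := by rw [he0]; group
        _ = C.t * (qg C u x e0 * y2) * C.b x := by rw [← a2]; group
        _ = C.t * y2 * (C.t * C.t) * qg C u x e0 * C.b x := by rw [← a1, C.tt]; group
        _ = (C.t * y2 * C.t) * (C.t * qg C u x e0 * C.b x) := by group
        _ = _ := by rw [a3, he0]
    rw [a4, mul_assoc, hff, mul_one]
  -- second computation
  have k2 : f * y2 * f = y * (y1 * f' * y1) * y := by rw [hf, hf']; group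
  have k3 : y * f' * y = y2 := by
    rw [hf']
    calc y * (y * y2 * y) * y = (y * y) * y2 * (y * y) := by group
      _ = _ := by rw [h.sq]; group
  have a2 := h1.comm (v + x) hvxu (C.B_self _)
  rcases haux with ⟨e, he⟩ | ⟨e, he⟩
  · have a1 := h1.comm_q hvxu (C.B_zero_left u) (C.B_zero_left (v + x)) e
    have a3 : y1 * f' * y1 = f' := by
      calc y1 * f' * y1 = (y1 * qg C u 0 e) * C.b (v + x) * y1 := by rw [he]; group
        _ = qg C u 0 e * (y1 * C.b (v + x)) * y1 := by rw [a1]; group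
        _ = qg C u 0 e * C.b (v + x) * (y1 * y1) := by rw [a2]; group
        _ = _ := by rw [h1.sq, mul_one, he]
    rw [k1, a3, k3] at k2
    have a4 : qg C u x 0 = 1 := by
      have := mul_right_cancel (k2.trans (one_mul y2).symm)
      exact this
    rw [← qg_zero C (u := u)] at a4
    obtain ⟨a5, -⟩ := qg_inj C hu hxu (C.B_zero_left u) a4
    rw [add_zero] at a5
    exact hxl a5
  · have a1 := h1.comm_q hvxu hvxu (C.B_self (v + x)) e
    have a3 : y1 * f' * y1 = qg C u (v + x) 0 * f' := by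
      have a4 := qg_t C (u := u) (p := v + x) (e := 0)
      calc y1 * f' * y1 = (y1 * C.t) * qg C u (v + x) e * C.b (v + x) * y1 := by rw [he]; group
        _ = C.t * qg C u (v + x) 0 * (y1 * qg C u (v + x) e) * C.b (v + x) * y1 := by rw [h1.yt]; group
        _ = C.t * qg C u (v + x) 0 * qg C u (v + x) e * (y1 * C.b (v + x)) * y1 := by rw [a1]; group
        _ = C.t * qg C u (v + x) 0 * qg C u (v + x) e * C.b (v + x) * (y1 * y1) := by rw [a2]; group
        _ = (C.t * qg C u (v + x) 0) * qg C u (v + x) e * C.b (v + x) := by rw [h1.sq, mul_one]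
        _ = _ := by rw [← a4, he]; group
    have a5 : y * (qg C u (v + x) 0 * f') * y = qg C u x 1 * y2 := by
      have a6 := h.act (v + x) 0 hvxu
      have a7 : v + x + (1 : ZMod 2) • v = x := by rw [one_smul, add_right_comm, aa, zero_add]
      rw [hvxv, a7, zero_add] at a6
      calc y * (qg C u (v + x) 0 * f') * y = y * qg C u (v + x) 0 * 1 * f' * y := by group
        _ = y * qg C u (v + x) 0 * (y * y) * f' * y := by rw [h.sq]
        _ = (y * qg C u (v + x) 0 * y) * (y * f' * y) := by group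
        _ = _ := by rw [a6, k3]
    rw [k1, a3, a5] at k2
    obtain ⟨-, a8⟩ := qg_inj C hu hxu hxu (mul_right_cancel k2)
    exact zero_ne_one a8

end Cfsg.Agent.OddHalf.SpTwoN.KappaPen
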