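import Cfsg.Agent.StandardComponent.SpTwo

/-!
# Pattern `{b}`, part 1: transvections and short root elements of `Sp₂ₙ(2)`

`A D v w = τ v * τ w * τ (v + w)` (`v ⊥ w`), the elements of `O₂(C(τ v))`.
-/

set_option autoImplicit false

namespace Cfsg.Agent.OddHalf.SpTwoN.LBAlg

open Cfsg.Agent.StandardComponent.SpTwo

variable {X V : Type*} [Group X] [AddCommGroup V] [Module (ZMod 2) V] (D : SpData X V)

/-- the short root element -/
def A (v w : V) : X := D.τ v * D.τ w * D.τ (v + w)

theorem A_apply {v w : V} (h : D.B v w = 0) (m : V) :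
    D.ρ (A D v w) m = m + D.B m v • w + D.B m w • v := by
  have h' : D.B w v = 0 := (D.symm w v).trans h
  rw [A, D.ρ_mul, D.ρ_mul, D.hτ, D.hτ, D.hτ]
  simp only [map_add, LinearMap.add_apply, map_smul, LinearMap.smul_apply, D.alt, h, h', add_zero, smul_eq_mul,
    mul_zero, zero_add]
  rcases z2 (D.B m v) with h1 | h1 <;> rcases z2 (D.B m w) with h2 | h2 <;> rw [h1, h2]
  · simp
  · simp only [zero_add, one_smul, zero_smul, add_zero]
    rw [show m + (v + w) + w = m + v + (w + w) by abel, aa, add_zero]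
  · simp only [add_zero, one_smul, zero_smul]
    rw [show m + (v + w) + v = m + w + (v + v) by abel, aa, add_zero]
  · rw [show (1 : ZMod 2) + 1 = 0 from by decide]
    simp only [one_smul, zero_smul, add_zero]

theorem τ_commute_iff {u w : V} : Commute (D.τ u) (D.τ w) ↔ D.B u w = 0 := by
  constructor
  · intro h
    have h1 := D.fix_of_τ_commute h
    rw [D.hτ] at h1
    rcases z2 (D.B u w) with h2 | h2
    · exact h2
    · rw [h2, one_smul] at h1
      have h3 : w = 0 := by simpa using h1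
      rw [h3, map_zero]
  · exact fun h => D.τ_commute h

theorem A_zero (v : V) : A D v 0 = 1 := by
  rw [A, D.τ_zero, mul_one, add_zero, D.τ_sq]

theorem A_self (v : V) : A D v v = 1 := by
  rw [A, D.τ_sq, one_mul, aa, D.τ_zero]

theorem A_symm {v w : V} (h : D.B v w = 0) : A D v w = A D w v := by
  rw [A, A, D.τ_commute h, add_comm v w]

theorem A_add_self {v w : V} (h : D.B v w = 0) : A D v (w + v) = A D v w := by
  apply D.ext_iff
  intro m
  rw [A_apply D h, A_apply D (by rw [map_add, h, D.alt, add_zero])]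
  simp only [map_add, smul_add, add_smul]
  rw [show m + (D.B m v • w + D.B m v • v) + (D.B m w • v + D.B m v • v) =
    m + D.B m v • w + D.B m w • v + (D.B m v • v + D.B m v • v) by abel, aa, add_zero]

theorem conj_A (g : X) (v w : V) : g * A D v w * g⁻¹ = A D (D.ρ g v) (D.ρ g w) := by
  rw [A, A, ← map_add, ← D.conj_τ, ← D.conj_τ, ← D.conj_τ]
  group

theorem A_mul {v u w : V} (hu : D.B v u = 0) (hw : D.B v w = 0) :
    A D v u * A D v w = D.τ (D.B u w • v) * A D v (u + w) := by
  apply D.ext_iff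
  intro m
  have huv : D.B u v = 0 := (D.symm u v).trans hu
  have hwv : D.B w v = 0 := (D.symm w v).trans hw
  have hwu : D.B w u = D.B u w := D.symm w u
  rw [D.ρ_mul, D.ρ_mul, A_apply D hw, A_apply D hu, A_apply D (by rw [map_add, hu, hw, add_zero]), D.hτ]
  simp only [map_add, LinearMap.add_apply, map_smul, LinearMap.smul_apply, D.alt, hu, hw, huv, hwv, hwu, add_zero,
    smul_eq_mul, mul_zero, smul_add, add_smul, mul_smul]
  rcases z2 (D.B m v) with h1 | h1 <;> rcases z2 (D.B m w) with h2 | h2 <;> rcases z2 (D.B m u) with h3 | h3 <;>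
    rcases z2 (D.B u w) with h4 | h4 <;> rw [h1, h2, h3, h4] <;>
    simp only [zero_smul, one_smul, add_zero, zero_add, smul_zero] <;> abel_nf

theorem τ_smul_sq (c : ZMod 2) (v : V) : D.τ (c • v) * D.τ (c • v) = 1 := D.τ_sq _

theorem A_sq {v w : V} (h : D.B v w = 0) : A D v w * A D v w = 1 := by
  rw [A_mul D h h, D.alt, zero_smul, D.τ_zero, aa, A_zero, one_mul]

theorem A_inv {v w : V} (h : D.B v w = 0) : (A D v w)⁻¹ = A D v w :=
  inv_eq_of_mul_eq_one_right (A_sq D h)

theorem A_comm {v u w : V} (hu : D.B v u = 0) (hw : D.B v w = 0) :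
    A D v u * A D v w = A D v w * A D v u := by
  rw [A_mul D hu hw, A_mul D hw hu, D.symm w u, add_comm w u]

theorem τ_A_comm {v w : V} (h : D.B v w = 0) : D.τ v * A D v w = A D v w * D.τ v := by
  have h1 := conj_A D (D.τ v) v w
  simp only [D.hτ, D.alt, D.symm w v, h, zero_smul, add_zero] at h1
  rw [mul_inv_eq_iff_eq_mul] at h1
  exact h1

/-- the conjugate of a short root element under a transvection -/
theorem τ_conj_A {v u w : V} (h : D.B v w = 0) : D.τ w * A D v u * (D.τ w)⁻¹ = A D v (u + D.B u w • w) := by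
  rw [conj_A, D.hτ, D.hτ, h, zero_smul, add_zero]

/-- `b_{w+v} = b_w b_v a_{v,w}` -/
theorem τ_add (v w : V) : D.τ (w + v) = D.τ w * D.τ v * A D v w := by
  rw [A, add_comm w v]
  calc D.τ (v + w) = D.τ w * (D.τ v * D.τ v) * D.τ w * D.τ (v + w) := by
        rw [D.τ_sq, mul_one, D.τ_sq, one_mul]
    _ = _ := by group

theorem A_eq_one {v w : V} (h : D.B v w = 0) (h1 : A D v w = 1) (hv : v ≠ 0) : w = 0 ∨ w = v := by
  by_contra hcon
  push Not at hcon
  obtain ⟨x, hx1, hx2⟩ := D.exists_sep hcon.1 hcon.2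
  have h2 := A_apply D h x
  rw [h1, D.ρ_one, hx1, hx2, zero_smul, one_smul, add_zero] at h2
  have h3 : v = 0 := by
    have := h2.symm
    simpa using this
  exact hv h3

/-- fixing `v^⊥` pointwise -/
theorem cent_perp {v : V} (hv : v ≠ 0) {x : X} (h : ∀ w, D.B v w = 0 → D.ρ x w = w) :
    ∃ c : ZMod 2, x = D.τ (c • v) := by
  obtain ⟨x0, hx0, -⟩ := D.exists_sep hv hv
  have hx0' : D.B v x0 = 1 := (D.symm v x0).trans hx0
  have hvv : D.ρ x v = v := h v (D.alt v)
  set z := D.ρ x x0 + x0 with hz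
  -- `z ∈ (v^⊥)^⊥`
  have h1 : ∀ w, D.B v w = 0 → D.B z w = 0 := by
    intro w hw
    have h2 := D.inv x x0 w
    rw [h w hw] at h2
    rw [hz, map_add, LinearMap.add_apply, h2]
    exact aa (V := ZMod 2) _
  have hz2 : z = 0 ∨ z = v := by
    by_contra hcon
    push Not at hcon
    obtain ⟨y, hy1, hy2⟩ := D.exists_sep hcon.1 hcon.2
    have := h1 y ((D.symm v y).trans hy2)
    rw [D.symm, hy1] at this
    exact absurd this (by decide)
  have h3 : ∃ c : ZMod 2, D.ρ x x0 = x0 + c • v := by
    rcases hz2 with h4 | h4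
    · exact ⟨0, by rw [zero_smul, add_zero]; exact eq_of_add _ _ h4⟩
    · refine ⟨1, ?_⟩
      rw [one_smul, ← h4, hz, add_comm (D.ρ x x0) x0, ← add_assoc, aa, zero_add]
  obtain ⟨c, hc⟩ := h3
  refine ⟨c, D.ext_iff (fun m => ?_)⟩
  rw [D.hτ]
  -- decompose `m`
  have h5 : D.B v (m + D.B v m • x0) = 0 := by
    rw [map_add, map_smul, hx0', smul_eq_mul, mul_one]
    exact aa (V := ZMod 2) _
  have h6 := h _ h5
  rw [map_add, map_smul, hc] at h6
  have h7 : D.ρ x m = m + (D.B v m • x0 + D.B v m • x0) + D.B v m • c • v := by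
    have : D.ρ x m + D.B v m • (x0 + c • v) + D.B v m • (x0 + c • v) =
        m + D.B v m • x0 + D.B v m • (x0 + c • v) := by rw [h6]
    rw [show D.ρ x m + D.B v m • (x0 + c • v) + D.B v m • (x0 + c • v) =
      D.ρ x m + (D.B v m • (x0 + c • v) + D.B v m • (x0 + c • v)) by abel, aa, add_zero] at this
    rw [this, smul_add]
    abel
  rw [h7, aa, add_zero, map_smul, smul_eq_mul, D.symm m v, smul_smul, smul_smul]
  congr 2
  rcases z2 c with h8 | h8 <;> rcases z2 (D.B v m) with h9 | h9 <;> rw [h8, h9] <;> decide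

/-- the centraliser of `O₂` -/
theorem cent_Q {v : V} (hv : v ≠ 0) {x : X} (hx : D.ρ x v = v)
    (h : ∀ w, D.B v w = 0 → ∃ c : ZMod 2, D.ρ x w = w + c • v) :
    ∃ (u : V) (c : ZMod 2), D.B v u = 0 ∧ x = D.τ (c • v) * A D v u := by
  obtain ⟨x0, hx0, -⟩ := D.exists_sep hv hv
  have hx0' : D.B v x0 = 1 := (D.symm v x0).trans hx0
  set u := D.ρ x x0 + x0 with hu
  have hvu : D.B v u = 0 := by
    rw [hu, map_add, ← D.inv x v x0, hx]
    exact aa (V := ZMod 2) _
  have h1 : ∀ w, D.B v w = 0 → D.ρ (x * A D v u) w = w := by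
    intro w hw
    obtain ⟨c, hc⟩ := h w hw
    have e1 : c = D.B w u := by
      have h2 := D.inv x x0 w
      rw [hc, map_add, map_smul, show D.B (D.ρ x x0) v = 1 by
        rw [← hx, D.inv]; exact hx0, smul_eq_mul, mul_one] at h2
      rw [hu, map_add, D.symm w, D.symm w x0, ← h2]
      have : D.B (D.ρ x x0) w + (D.B (D.ρ x x0) w + c) = c := aac _ _
      rw [this]
    rw [D.ρ_mul, A_apply D hvu, D.symm w v, hw, zero_smul, add_zero, map_add, map_smul, hx, hc, e1, add_assoc,
      aa, add_zero]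
  obtain ⟨c, hc⟩ := cent_perp D hv h1
  refine ⟨u, c, hvu, ?_⟩
  rw [← hc, mul_assoc, A_sq D hvu, mul_one]

/-! ### linear algebra -/

section LinAlg

variable [Finite V]

/-- every linear functional is represented -/
theorem exists_rep (f : V →ₗ[ZMod 2] ZMod 2) : ∃ x, ∀ w, D.B w x = f w := by
  have hinj : Function.Injective D.B := by
    rw [injective_iff_map_eq_zero]
    intro a ha
    apply D.nondeg
    intro w
    rw [ha]; rfl
  have hsurj : Function.Surjective D.B :=
    (LinearMap.injective_iff_surjective_of_finrank_eq_finrank (f := D.B)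
      (Subspace.dual_finrank_eq (K := ZMod 2) (V := V)).symm).1 hinj
  obtain ⟨x, hx⟩ := hsurj f
  exact ⟨x, fun w => by rw [D.symm, hx]⟩

theorem exists_sep_sub {K : Submodule (ZMod 2) V} {m : V} (hm : m ∉ K) :
    ∃ x, (∀ k ∈ K, D.B k x = 0) ∧ D.B m x = 1 := by
  obtain ⟨f, h1, h2⟩ := Submodule.exists_le_ker_of_notMem hm
  obtain ⟨x, hx⟩ := exists_rep D f
  refine ⟨x, fun k hk => by rw [hx]; exact h2 hk, ?_⟩
  rw [hx]
  exact (z2 _).resolve_left h1

/-- a functional on a subspace is represented -/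
theorem exists_rep_sub (K : Submodule (ZMod 2) V) (f : K →ₗ[ZMod 2] ZMod 2) :
    ∃ x, ∀ k : K, D.B k x = f k := by
  obtain ⟨g, hg⟩ := f.exists_extend
  obtain ⟨x, hx⟩ := exists_rep D g
  refine ⟨x, fun k => ?_⟩
  rw [hx, ← hg]; rfl

/-- the orthogonal space -/
def perp (K : Submodule (ZMod 2) V) : Submodule (ZMod 2) V where
  carrier := {x | ∀ k ∈ K, D.B k x = 0}
  add_mem' := by
    intro a b ha hb k hk
    rw [map_add, ha k hk, hb k hk, add_zero]
  zero_mem' := fun k _ => map_zero _
  smul_mem' := by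
    intro c x hx k hk
    rw [map_smul, hx k hk, smul_zero]

omit [Finite V] in
theorem mem_perp {K : Submodule (ZMod 2) V} {x : V} : x ∈ perp D K ↔ ∀ k ∈ K, D.B k x = 0 := Iff.rfl

theorem card_le_perp (K : Submodule (ZMod 2) V) :
    Nat.card V ≤ Nat.card (perp D K) * Nat.card K := by
  let f : V →ₗ[ZMod 2] (Module.Dual (ZMod 2) K) :=
    { toFun := fun x => (D.B.flip x).comp K.subtype
      map_add' := by
        intro a b; ext k; simp
      map_smul' := by
        intro c a; ext k; simp }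
  have h1 := SpData.card_ker_mul f
  have h2 : LinearMap.ker f = perp D K := by
    ext x
    rw [LinearMap.mem_ker, mem_perp]
    constructor
    · intro h k hk
      exact congrArg (fun φ => φ ⟨k, hk⟩) h
    · intro h
      ext k
      exact h k k.2
  have hfin : Finite (Module.Dual (ZMod 2) K) := Module.finite_of_finite (ZMod 2)
  have h3 : Nat.card (LinearMap.range f) ≤ Nat.card (Module.Dual (ZMod 2) K) :=
    Nat.card_le_card_of_injective _ Subtype.val_injective
  have h4 : Nat.card (Module.Dual (ZMod 2) K) = Nat.card K := by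
    have := Module.natCard_eq_pow_finrank (K := ZMod 2) (V := Module.Dual (ZMod 2) K)
    rw [this, Subspace.dual_finrank_eq, ← Module.natCard_eq_pow_finrank]
  rw [← h1, h2, ← h4]
  exact Nat.mul_le_mul_left _ h3

/-- a vector orthogonal to `K` and outside `M` -/
theorem exists_out {K M : Submodule (ZMod 2) V} (hK : Nat.card M * Nat.card K < Nat.card V) :
    ∃ x, (∀ k ∈ K, D.B k x = 0) ∧ x ∉ M := by
  by_contra hcon
  push Not at hcon
  have h1 : perp D K ≤ M := fun x hx => hcon x hx
  have h2 : Nat.card (perp D K) ≤ Nat.card M :=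
    Nat.card_le_card_of_injective _ (Submodule.inclusion_injective h1)
  have h3 := card_le_perp D K
  have := Nat.mul_le_mul_right (Nat.card K) h2
  omega

omit [Finite V] in
/-- the span of a list of vectors -/
theorem card_span_le (s : Finset V) :
    Nat.card (Submodule.span (ZMod 2) (s : Set V)) ≤ 2 ^ s.card := by
  rw [Module.natCard_eq_pow_finrank (K := ZMod 2) (V := Submodule.span (ZMod 2) (s : Set V)), Nat.card_zmod]
  exact Nat.pow_le_pow_right (by norm_num) (finrank_span_finset_le_card s)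

end LinAlg

end Cfsg.Agent.OddHalf.SpTwoN.LBAlg
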