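import Cfsg.Agent.OddHalf.SpTwoN.Defs
import Cfsg.Agent.OddHalf.SpTwoN.LBAlg

/-!
# Pattern `{b}`, part 2: definitions

`r C w = t b_w`, `a C v w` the short root elements, `PatB C` the hypothesis of the pattern, `Xel C v y θ` the
involutions `y` centralising `O₂(C_K(b_v))` with `t ^ y = t b_v`.
-/

set_option autoImplicit false

namespace Cfsg.Agent.OddHalf.SpTwoN.LBDef

open Cfsg.Agent.StandardComponent.SpTwo Cfsg.Agent.OddHalf.SpTwoN.LBAlg

variable {G V : Type*} [Group G] [AddCommGroup V] [Module (ZMod 2) V] (C : Ctx G V)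

/-- the short root elements, in `G` -/
def a (v w : V) : G := ((A C.S v w : C.L) : G)

/-- the elements `t b_w` -/
def r (w : V) : G := C.t * C.b w

theorem a_mem (v w : V) : a C v w ∈ C.L := (A C.S v w).2

theorem a_eq (v w : V) : a C v w = C.b v * C.b w * C.b (v + w) := rfl

theorem a_zero (v : V) : a C v 0 = 1 := congrArg Subtype.val (A_zero C.S v)

theorem a_self (v : V) : a C v v = 1 := congrArg Subtype.val (A_self C.S v)

theorem a_symm {v w : V} (h : C.S.B v w = 0) : a C v w = a C w v := congrArg Subtype.val (A_symm C.S h)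

theorem a_add_self {v w : V} (h : C.S.B v w = 0) : a C v (w + v) = a C v w :=
  congrArg Subtype.val (A_add_self C.S h)

theorem a_mul {v u w : V} (hu : C.S.B v u = 0) (hw : C.S.B v w = 0) :
    a C v u * a C v w = C.b (C.S.B u w • v) * a C v (u + w) := congrArg Subtype.val (A_mul C.S hu hw)

theorem a_sq {v w : V} (h : C.S.B v w = 0) : a C v w * a C v w = 1 := congrArg Subtype.val (A_sq C.S h)

theorem a_inv {v w : V} (h : C.S.B v w = 0) : (a C v w)⁻¹ = a C v w := inv_eq_of_mul_eq_one_right (a_sq C h)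

theorem a_comm {v u w : V} (hu : C.S.B v u = 0) (hw : C.S.B v w = 0) : Commute (a C v u) (a C v w) :=
  congrArg Subtype.val (A_comm C.S hu hw)

theorem b_a_comm {v w : V} (h : C.S.B v w = 0) : Commute (C.b v) (a C v w) :=
  congrArg Subtype.val (τ_A_comm C.S h)

theorem b_inv (u : V) : (C.b u)⁻¹ = C.b u := inv_eq_of_mul_eq_one_right (C.b_sq u)

theorem b_add (v w : V) : C.b (w + v) = C.b w * C.b v * a C v w := congrArg Subtype.val (τ_add C.S v w)

theorem b_comm_t (u : V) : Commute (C.b u) C.t := C.commute_of_mem (C.b_mem u)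

theorem a_comm_t (v w : V) : Commute (a C v w) C.t := C.commute_of_mem (a_mem C v w)

theorem b_conj_b (w x : V) : C.b w * C.b x * (C.b w)⁻¹ = C.b (x + C.S.B x w • w) := by
  have := C.b_conj (C.S.τ w) x
  rw [C.S.hτ] at this
  exact this

theorem b_conj_a {v u w : V} (h : C.S.B v w = 0) :
    C.b w * a C v u * (C.b w)⁻¹ = a C v (u + C.S.B u w • w) := congrArg Subtype.val (τ_conj_A C.S h)

/-- conjugation by elements of `L` -/
theorem l_conj_a (l : C.L) (v w : V) : (l : G) * a C v w * (l : G)⁻¹ = a C (C.S.ρ l v) (C.S.ρ l w) :=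
  congrArg Subtype.val (conj_A C.S l v w)

theorem r_zero : r C 0 = C.t := by rw [r, C.b_zero, mul_one]

theorem r_inj {u w : V} (h : r C u = r C w) : u = w := C.b_inj (mul_left_cancel h)

theorem b_eq (w : V) : C.b w = C.t * r C w := by rw [r, ← mul_assoc, C.tt, one_mul]

theorem r_comm_t (w : V) : Commute (r C w) C.t := (Commute.refl C.t).mul_left (b_comm_t C w)

theorem r_sq (w : V) : r C w * r C w = 1 := by
  have h := (b_comm_t C w).eq
  calc C.t * C.b w * (C.t * C.b w) = C.t * (C.b w * C.t) * C.b w := by group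
    _ = C.t * (C.t * C.b w) * C.b w := by rw [h]
    _ = C.t * C.t * (C.b w * C.b w) := by group
    _ = 1 := by rw [C.tt, C.b_sq, one_mul]

theorem r_inv (w : V) : (r C w)⁻¹ = r C w := inv_eq_of_mul_eq_one_right (r_sq C w)

theorem l_conj_r (l : C.L) (w : V) : (l : G) * r C w * (l : G)⁻¹ = r C (C.S.ρ l w) := by
  have h1 := (C.commute_of_mem l.2).eq
  rw [r, r, ← C.b_conj]
  calc (l : G) * (C.t * C.b w) * (l : G)⁻¹ = (l * C.t) * C.b w * (l : G)⁻¹ := by group
    _ = (C.t * l) * C.b w * (l : G)⁻¹ := by rw [h1]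
    _ = _ := by group

theorem b_conj_r (u w : V) : C.b u * r C w * (C.b u)⁻¹ = r C (w + C.S.B w u • u) := by
  have := l_conj_r C (C.S.τ u) w
  rw [C.S.hτ] at this
  exact this

theorem t_conj_r (w : V) : C.t * r C w * C.t⁻¹ = r C w := by
  rw [← (r_comm_t C w).eq]; group

theorem r_conj_r (u w : V) : r C u * r C w * (r C u)⁻¹ = r C (w + C.S.B w u • u) := by
  rw [← b_conj_r]
  have h : C.t * r C w = r C w * C.t := (r_comm_t C w).eq.symm
  have h1 : r C u = C.b u * C.t := (b_comm_t C u).eq.symm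
  calc r C u * r C w * (r C u)⁻¹ = C.b u * (C.t * r C w) * C.t⁻¹ * (C.b u)⁻¹ := by
        rw [h1]; group
    _ = C.b u * r C w * (C.b u)⁻¹ := by rw [h]; group

/-- the centraliser of `t` -/
theorem cent_cases {x : G} (hx : Commute x C.t) : ∃ l : C.L, x = l ∨ x = C.t * l := by
  rcases (C.cent x).1 hx with h | h
  · exact ⟨⟨x, h⟩, Or.inl rfl⟩
  · refine ⟨⟨C.t * x, h⟩, Or.inr ?_⟩
    rw [← mul_assoc, C.tt, one_mul]

/-- Pattern `{b}`: only the transvections are moved. -/
structure PatB (C : Ctx G V) : Prop where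
  mem : ∀ v, v ≠ 0 → ∃ g, g * C.t * g⁻¹ = C.t * C.b v ∧ Commute g (C.b v)
  not_m : ∀ v w, v ≠ 0 → w ≠ 0 → v ≠ w → C.S.B v w = 0 → C.t * (C.b v * C.b w) ∉ C.D
  not_a : ∀ v w, v ≠ 0 → w ≠ 0 → v ≠ w → C.S.B v w = 0 → C.t * a C v w ∉ C.D

/-- the new elements -/
structure Xel (v : V) (y : G) (θ : V → ZMod 2) : Prop where
  sq : y * y = 1
  cb : Commute y (C.b v)
  ca : ∀ w, C.S.B v w = 0 → Commute y (a C v w)
  hr : ∀ w, C.S.B v w = 0 → y * r C w * y⁻¹ = r C (w + (1 + θ w) • v)
  hθ : ∀ w w', C.S.B v w = 0 → C.S.B v w' = 0 → θ (w + w') = θ w + θ w' + C.S.B w w'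
  hv : θ v = 0

/-- the sign of an element of `C(t)` -/
noncomputable def sg (x : G) : ZMod 2 := by
  classical exact if x ∈ C.L then 0 else 1

theorem sg_of_mem {x : G} (h : x ∈ C.L) : sg C x = 0 := by
  rw [sg, if_pos h]

theorem mem_of_sg {x : G} (h : sg C x = 0) : x ∈ C.L := by
  rw [sg] at h
  by_contra hc
  rw [if_neg hc] at h
  exact absurd h (by decide)

theorem sg_t_mul {x : G} (h : x ∈ C.L) : sg C (C.t * x) = 1 := by
  rw [sg, if_neg]
  intro h1
  apply C.tL
  have := C.L.mul_mem h1 (C.L.inv_mem h)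
  rwa [mul_inv_cancel_right] at this

theorem sg_mul {x y : G} (hx : Commute x C.t) (hy : Commute y C.t) : sg C (x * y) = sg C x + sg C y := by
  obtain ⟨l, rfl | rfl⟩ := cent_cases C hx <;> obtain ⟨m, rfl | rfl⟩ := cent_cases C hy
  · rw [sg_of_mem C l.2, sg_of_mem C m.2, sg_of_mem C (C.L.mul_mem l.2 m.2), add_zero]
  · have h1 : (l : G) * (C.t * m) = C.t * (l * m) := by
      rw [← mul_assoc, (C.commute_of_mem l.2).eq, mul_assoc]
    rw [h1, sg_t_mul C (C.L.mul_mem l.2 m.2), sg_of_mem C l.2, sg_t_mul C m.2, zero_add]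
  · rw [mul_assoc, sg_t_mul C (C.L.mul_mem l.2 m.2), sg_of_mem C m.2, sg_t_mul C l.2, add_zero]
  · have h1 : C.t * (l : G) * (C.t * m) = l * m := by
      have := (C.commute_of_mem l.2).eq
      calc C.t * (l : G) * (C.t * m) = C.t * (l * C.t) * m := by group
        _ = C.t * C.t * (l * m) := by rw [this]; group
        _ = _ := by rw [C.tt, one_mul]
    rw [h1, sg_t_mul C l.2, sg_t_mul C m.2, sg_of_mem C (C.L.mul_mem l.2 m.2)]
    decide

theorem sg_inv {x : G} (hx : Commute x C.t) : sg C x⁻¹ = sg C x := by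
  have h := sg_mul C hx hx.inv_left
  rw [mul_inv_cancel, sg_of_mem C (one_mem _)] at h
  rcases z2 (sg C x) with h1 | h1 <;> rcases z2 (sg C x⁻¹) with h2 | h2 <;> rw [h1, h2] at h ⊢ <;>
    exact absurd h (by decide)

end Cfsg.Agent.OddHalf.SpTwoN.LBDef
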