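import Cfsg.Agent.OddHalf.SpTwoN.LBDef

/-!
# Pattern `{b}`, part 3: an element moving `t` to `t b_v` and centralising `O₂(C_K(b_v))`
-/

set_option autoImplicit false

namespace Cfsg.Agent.OddHalf.SpTwoN.LBEx

open Cfsg.Agent.StandardComponent.SpTwo Cfsg.Agent.OddHalf.SpTwoN.LBAlg Cfsg.Agent.OddHalf.SpTwoN.LBDef

section Alg

variable {X V : Type*} [Group X] [AddCommGroup V] [Module (ZMod 2) V] (D : SpData X V)

/-- membership in the span of two vectors -/
theorem mem_pair {a b x : V} : x ∈ Submodule.span (ZMod 2) ({a, b} : Set V) ↔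
    x = 0 ∨ x = a ∨ x = b ∨ x = a + b := by
  rw [Submodule.mem_span_pair]
  constructor
  · rintro ⟨c, d, rfl⟩
    rcases z2 c with h1 | h1 <;> rcases z2 d with h2 | h2 <;> rw [h1, h2] <;> simp
  · rintro (rfl | rfl | rfl | rfl)
    · exact ⟨0, 0, by simp⟩
    · exact ⟨1, 0, by simp⟩
    · exact ⟨0, 1, by simp⟩
    · exact ⟨1, 1, by simp⟩

/-- three vectors: `x` orthogonal to `a`, `b` and not to `w` -/
theorem exists_sep2 [Finite V] {a b w : V} (h0 : w ≠ 0) (ha : w ≠ a) (hb : w ≠ b) (hab : w ≠ a + b) :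
    ∃ x, D.B a x = 0 ∧ D.B b x = 0 ∧ D.B w x = 1 := by
  have : w ∉ Submodule.span (ZMod 2) ({a, b} : Set V) := by
    rw [mem_pair]
    tauto
  obtain ⟨x, h1, h2⟩ := exists_sep_sub D this
  exact ⟨x, h1 a (Submodule.subset_span (by simp)), h1 b (Submodule.subset_span (by simp)), h2⟩

/-- an involution all of whose conjugates under the stabiliser of `v` commute acts trivially on `v^⊥/v` -/
theorem mem_Q_of_comm [Finite V] {v : V} {l : X} (hl2 : l * l = 1) (hlv : D.ρ l v = v)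
    (hc : ∀ p q : X, D.ρ p v = v → D.ρ q v = v → Commute (p * l * p⁻¹) (q * l * q⁻¹)) :
    ∀ w, D.B v w = 0 → ∃ c : ZMod 2, D.ρ l w = w + c • v := by
  intro w hw
  by_contra hcon
  push Not at hcon
  have h0 := hcon 0
  have h1 := hcon 1
  rw [zero_smul, add_zero] at h0
  rw [one_smul] at h1
  have hli : l⁻¹ = l := inv_eq_of_mul_eq_one_right hl2
  have hwv : D.B w v = 0 := (D.symm w v).trans hw
  have htw : D.ρ (D.τ w) v = v := by rw [D.hτ, hw, zero_smul, add_zero]
  have hvl : D.B v (D.ρ l w) = 0 := by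
    rw [← hlv, D.inv]; exact hw
  have h4 : D.τ w * l * (D.τ w)⁻¹ = D.τ w * D.τ (D.ρ l w) * l := by
    rw [D.τ_inv, ← D.conj_τ]; group
  -- `w ⊥ l w`
  have h2 : D.B w (D.ρ l w) = 0 := by
    have h3 := hc 1 (D.τ w) (by rw [D.ρ_one]) htw
    rw [one_mul, inv_one, mul_one, h4] at h3
    have h5 : Commute l (D.τ w * D.τ (D.ρ l w)) := by
      have := h3.mul_right (Commute.refl l).inv_right
      rwa [mul_inv_cancel_right] at this
    have h6 : l * (D.τ w * D.τ (D.ρ l w)) * l⁻¹ = D.τ (D.ρ l w) * D.τ w := by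
      have e : l * (D.τ w * D.τ (D.ρ l w)) * l⁻¹ = (l * D.τ w * l⁻¹) * (l * D.τ (D.ρ l w) * l⁻¹) := by group
      rw [e, D.conj_τ, D.conj_τ, ← D.ρ_mul, hl2, D.ρ_one]
    rw [h5.eq, mul_inv_cancel_right] at h6
    exact (τ_commute_iff D).1 h6
  -- a separating vector
  obtain ⟨x, hx1, hx2, hx3⟩ := exists_sep2 D (a := v) (b := D.ρ l w) (w := w)
    (by rintro rfl; exact h0 (map_zero _)) (by rintro rfl; exact h0 hlv) (fun h => h0 h.symm) (by
      intro h
      apply h1
      have e : w + v = v + D.ρ l w + v := congrArg (· + v) h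
      rw [e, add_comm v (D.ρ l w), aab])
  have hxw : D.ρ (D.τ x) w = w + x := by rw [D.hτ, hx3, one_smul]
  have hxl : D.ρ (D.τ x) (D.ρ l w) = D.ρ l w := by rw [D.hτ, hx2, zero_smul, add_zero]
  have hxv : D.ρ (D.τ x) v = v := by rw [D.hτ, hx1, zero_smul, add_zero]
  -- `e = τ w τ (l w)` and its conjugate by `τ x`
  have he : D.τ w * l * (D.τ w)⁻¹ * l = D.τ w * D.τ (D.ρ l w) := by
    rw [h4, mul_assoc, hl2, mul_one]
  have he' : D.τ x * (D.τ w * D.τ (D.ρ l w)) * (D.τ x)⁻¹ = D.τ (w + x) * D.τ (D.ρ l w) := by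
    have e : D.τ x * (D.τ w * D.τ (D.ρ l w)) * (D.τ x)⁻¹ =
      (D.τ x * D.τ w * (D.τ x)⁻¹) * (D.τ x * D.τ (D.ρ l w) * (D.τ x)⁻¹) := by group
    rw [e, D.conj_τ, D.conj_τ, hxw, hxl]
  have hcomm : Commute (D.τ w * D.τ (D.ρ l w)) (D.τ (w + x) * D.τ (D.ρ l w)) := by
    rw [← he', ← he]
    have e : D.τ x * (D.τ w * l * (D.τ w)⁻¹ * l) * (D.τ x)⁻¹ =
      (D.τ x * D.τ w) * l * (D.τ x * D.τ w)⁻¹ * (D.τ x * l * (D.τ x)⁻¹) := by group
    rw [e]
    have p1 : D.ρ (D.τ x * D.τ w) v = v := by rw [D.ρ_mul, htw, hxv]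
    have c1 := hc (D.τ w) (D.τ x * D.τ w) htw p1
    have c2 := hc (D.τ w) (D.τ x) htw hxv
    have c3 := hc 1 (D.τ x * D.τ w) (by rw [D.ρ_one]) p1
    have c4 := hc 1 (D.τ x) (by rw [D.ρ_one]) hxv
    rw [one_mul, inv_one, mul_one] at c3 c4
    exact (c1.mul_right c2).mul_left (c3.mul_right c4)
  have hc1 : Commute (D.τ (D.ρ l w)) (D.τ w) := (τ_commute_iff D).2 ((D.symm _ _).trans h2)
  have hc2 : Commute (D.τ (D.ρ l w)) (D.τ (w + x)) := by
    rw [τ_commute_iff, map_add, D.symm _ w, h2, hx2, add_zero]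
  have hc3 : Commute (D.τ w) (D.τ (w + x) * D.τ (D.ρ l w)) := by
    have := hcomm.mul_left (hc2.mul_right (Commute.refl _)).inv_left
    rwa [mul_inv_cancel_right] at this
  have hc4 : Commute (D.τ w) (D.τ (w + x)) := by
    have := hc3.mul_right hc1.symm.inv_right
    rwa [mul_inv_cancel_right] at this
  rw [τ_commute_iff, map_add, D.alt, hx3] at hc4
  exact absurd hc4 (by decide)

/-- uniqueness in `Q_v` -/
theorem Q_inj {v u u' : V} {c c' : ZMod 2} (hv : v ≠ 0) (hu : D.B v u = 0) (hu' : D.B v u' = 0)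
    (h : D.τ (c • v) * A D v u = D.τ (c' • v) * A D v u') : ∃ e : ZMod 2, u' = u + e • v := by
  obtain ⟨m, hm, -⟩ := D.exists_sep hv hv
  have h1 := congrArg (fun x => D.ρ x m) h
  simp only [D.ρ_mul, A_apply D hu, A_apply D hu', D.hτ, map_add, LinearMap.add_apply, map_smul,
    LinearMap.smul_apply, D.alt, (D.symm u v).trans hu, (D.symm u' v).trans hu', hm, one_smul, smul_eq_mul, mul_one,
    mul_zero, add_zero] at h1
  refine ⟨D.B m u + D.B m u' + c * c + c' * c', ?_⟩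
  have h2 : u + D.B m u • v + (c * c) • v = u' + D.B m u' • v + (c' * c') • v := by
    have := congrArg (m + ·) h1
    simp only [← add_assoc, aa, zero_add, smul_smul] at this
    exact this
  calc u' = (u' + D.B m u' • v + (c' * c') • v) + D.B m u' • v + (c' * c') • v := by
        rw [show u' + D.B m u' • v + (c' * c') • v + D.B m u' • v + (c' * c') • v =
          u' + (D.B m u' • v + D.B m u' • v) + ((c' * c') • v + (c' * c') • v) by abel, aa, aa, add_zero, add_zero]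
    _ = _ := by
      rw [← h2, add_smul, add_smul, add_smul]
      abel

/-- extension of an isometry of a complement of `v` in `v^⊥` -/
theorem exists_lift (full : ∀ f : V →ₗ[ZMod 2] V, (∀ u v, D.B (f u) (f v) = D.B u v) → ∃ x, D.ρ x = f)
    {v v' : V} (hvv : D.B v v' = 1) (β : V → V)
    (h0 : ∀ w, D.B v w = 0 → D.B v' w = 0 → D.B v (β w) = 0 ∧ D.B v' (β w) = 0)
    (hadd : ∀ u w, D.B v u = 0 → D.B v' u = 0 → D.B v w = 0 → D.B v' w = 0 → β (u + w) = β u + β w)
    (hB : ∀ u w, D.B v u = 0 → D.B v' u = 0 → D.B v w = 0 → D.B v' w = 0 → D.B (β u) (β w) = D.B u w) :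
    ∃ p : X, D.ρ p v = v ∧ ∀ w, D.B v w = 0 → D.B v' w = 0 → D.ρ p w = β w := by
  have hvv' : D.B v' v = 1 := (D.symm v' v).trans hvv
  have hβ0 : β 0 = 0 := by
    have := hadd 0 0 (map_zero _) (map_zero _) (map_zero _) (map_zero _)
    rw [add_zero] at this
    simpa using this
  set w0 : V → V := fun x => x + D.B v' x • v + D.B v x • v' with hw0
  have k1 : ∀ x, D.B v (w0 x) = 0 := by
    intro x
    simp only [hw0, map_add, map_smul, D.alt, hvv, smul_eq_mul, mul_zero, mul_one, add_zero]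
    exact aa (V := ZMod 2) _
  have k2 : ∀ x, D.B v' (w0 x) = 0 := by
    intro x
    simp only [hw0, map_add, map_smul, D.alt, hvv', smul_eq_mul, mul_zero, mul_one, add_zero]
    exact aa (V := ZMod 2) _
  have k3 : ∀ x y, w0 (x + y) = w0 x + w0 y := by
    intro x y
    simp only [hw0, map_add, add_smul]
    abel
  let f : V →ₗ[ZMod 2] V :=
    { toFun := fun x => D.B v' x • v + D.B v x • v' + β (w0 x)
      map_add' := by
        intro x y
        rw [k3, hadd _ _ (k1 x) (k2 x) (k1 y) (k2 y), map_add, map_add, add_smul, add_smul]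
        abel
      map_smul' := by
        intro c x
        rcases z2 c with h | h <;> rw [h]
        · simp [hw0, hβ0]
        · simp }
  have hf : ∀ x, f x = D.B v' x • v + D.B v x • v' + β (w0 x) := fun x => rfl
  obtain ⟨p, hp⟩ := full f (by
    intro x y
    rw [hf, hf]
    have e1 := h0 _ (k1 x) (k2 x)
    have e2 := h0 _ (k1 y) (k2 y)
    have e3 := hB _ _ (k1 x) (k2 x) (k1 y) (k2 y)
    have e4 : D.B (w0 x) (w0 y) = D.B x y + D.B v' x * D.B v y + D.B v x * D.B v' y := by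
      simp only [hw0, map_add, LinearMap.add_apply, map_smul, LinearMap.smul_apply, D.alt, hvv, hvv', smul_eq_mul,
        mul_zero, mul_one, add_zero, zero_add, D.symm x v, D.symm x v']
      generalize D.B v' x = c1
      generalize D.B v x = c2
      generalize D.B v' y = c3
      generalize D.B v y = c4
      generalize D.B x y = c5
      revert c1 c2 c3 c4 c5
      decide
    simp only [map_add, LinearMap.add_apply, map_smul, LinearMap.smul_apply, D.alt, hvv, hvv', smul_eq_mul,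
        mul_zero, mul_one, add_zero, zero_add, e1.1, e1.2, e2.1, e2.2, D.symm (β (w0 x)) v, D.symm (β (w0 x)) v', e3, e4]
    generalize D.B v' x = c1
    generalize D.B v x = c2
    generalize D.B v' y = c3
    generalize D.B v y = c4
    generalize D.B x y = c5
    revert c1 c2 c3 c4 c5
    decide)
  refine ⟨p, ?_, ?_⟩
  · rw [hp, hf]
    have : w0 v = 0 := by
      simp only [hw0, D.alt, hvv', one_smul, zero_smul, add_zero]
      exact aa v
    rw [this, hβ0, D.alt, hvv', one_smul, zero_smul, add_zero, add_zero]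
  · intro w h1 h2
    rw [hp, hf, h1, h2, zero_smul, zero_smul, zero_add, zero_add]
    simp only [hw0, h1, h2, zero_smul, add_zero]

end Alg

section Main

variable {G V : Type*} [Group G] [AddCommGroup V] [Module (ZMod 2) V] {C : Ctx G V}

theorem comm_conj {x y : G} (g : G) (h : Commute x y) : Commute (g * x * g⁻¹) (g * y * g⁻¹) := by
  have h' : x * y = y * x := h
  change g * x * g⁻¹ * (g * y * g⁻¹) = g * y * g⁻¹ * (g * x * g⁻¹)
  calc g * x * g⁻¹ * (g * y * g⁻¹) = g * (x * y) * g⁻¹ := by group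
    _ = _ := by rw [h']; group

/-- elements commuting with `t` and `b_v` -/
theorem n1_cases {v : V} {x : G} (h1 : Commute x C.t) (h2 : Commute x (C.b v)) :
    ∃ l : C.L, C.S.ρ l v = v ∧ (x = l ∨ x = C.t * l) := by
  obtain ⟨l, hl⟩ := cent_cases C h1
  refine ⟨l, ?_, hl⟩
  have h3 : Commute (l : G) (C.b v) := by
    rcases hl with rfl | rfl
    · exact h2
    · have := ((b_comm_t C v).symm.inv_left).mul_left h2
      rwa [inv_mul_cancel_left] at this
  have h4 : Commute (C.S.τ v) l := (Subtype.ext h3.symm)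
  exact C.S.fix_of_τ_commute h4

theorem n1_conj_a {v : V} {x : G} (h1 : Commute x C.t) (h2 : Commute x (C.b v)) :
    ∃ l : C.L, C.S.ρ l v = v ∧ (x = l ∨ x = C.t * l) ∧ (∀ w, x * a C v w * x⁻¹ = a C v (C.S.ρ l w)) := by
  obtain ⟨l, hl, hx⟩ := n1_cases h1 h2
  refine ⟨l, hl, hx, fun w => ?_⟩
  have h3 := l_conj_a C l v w
  rw [hl] at h3
  rcases hx with rfl | rfl
  · exact h3
  · have h4 := (a_comm_t C v (C.S.ρ l w)).eq
    calc C.t * (l : G) * a C v w * (C.t * (l : G))⁻¹ = C.t * ((l : G) * a C v w * (l : G)⁻¹) * C.t⁻¹ := by group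
      _ = C.t * a C v (C.S.ρ l w) * C.t⁻¹ := by rw [h3]
      _ = _ := by rw [← h4]; group

/-- `g` moves `t` to `t b_v` and fixes `b_v` -/
structure Mv (C : Ctx G V) (v : V) (g : G) : Prop where
  ht : g * C.t * g⁻¹ = C.t * C.b v
  hb : g * C.b v * g⁻¹ = C.b v

namespace Mv

variable {v : V} {g : G}

theorem htb (M : Mv C v g) : g * (C.t * C.b v) * g⁻¹ = C.t := by
  have e : g * (C.t * C.b v) * g⁻¹ = (g * C.t * g⁻¹) * (g * C.b v * g⁻¹) := by group
  rw [e, M.ht, M.hb, mul_assoc, C.b_sq, mul_one]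

theorem inv (M : Mv C v g) : Mv C v g⁻¹ := by
  refine ⟨?_, ?_⟩
  · have h := M.htb
    calc g⁻¹ * C.t * g⁻¹⁻¹ = g⁻¹ * (g * (C.t * C.b v) * g⁻¹) * g⁻¹⁻¹ := by rw [h]
      _ = _ := by group
  · have h := M.hb
    calc g⁻¹ * C.b v * g⁻¹⁻¹ = g⁻¹ * (g * C.b v * g⁻¹) * g⁻¹⁻¹ := by rw [h]
      _ = _ := by group

theorem n1 (M : Mv C v g) {x : G} (h1 : Commute x C.t) (h2 : Commute x (C.b v)) :
    Commute (g * x * g⁻¹) C.t ∧ Commute (g * x * g⁻¹) (C.b v) := by
  have h3 := comm_conj g (h1.mul_right h2)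
  rw [M.htb] at h3
  have h4 := comm_conj g h2
  rw [M.hb] at h4
  exact ⟨h3, h4⟩

theorem n1' (M : Mv C v g) {x : G} (h1 : Commute x C.t) (h2 : Commute x (C.b v)) :
    Commute (g⁻¹ * x * g) C.t ∧ Commute (g⁻¹ * x * g) (C.b v) := by
  have := M.inv.n1 h1 h2
  rwa [inv_inv] at this

/-- `g` normalises `⟨t⟩ Q_v` -/
theorem conj_a' [Finite V] (M : Mv C v g) (hv : v ≠ 0) {w : V} (hw : C.S.B v w = 0) :
    ∃ (u : V) (c : ZMod 2), C.S.B v u = 0 ∧ (g * a C v w * g⁻¹ = C.b (c • v) * a C v u ∨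
      g * a C v w * g⁻¹ = C.t * (C.b (c • v) * a C v u)) := by
  obtain ⟨h1, h2⟩ := M.n1 (a_comm_t C v w) (b_a_comm C hw).symm
  obtain ⟨l, hlv, hl⟩ := n1_cases h1 h2
  have hlt := (C.commute_of_mem l.2).eq
  have hsq : (g * a C v w * g⁻¹) * (g * a C v w * g⁻¹) = 1 := by
    calc (g * a C v w * g⁻¹) * (g * a C v w * g⁻¹) = g * (a C v w * a C v w) * g⁻¹ := by group
      _ = 1 := by rw [a_sq C hw]; group
  have hl2 : l * l = 1 := by
    apply Subtype.ext
    change (l : G) * l = 1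
    rcases hl with h | h
    · rw [← h]; exact hsq
    · rw [h] at hsq
      calc (l : G) * l = C.t * C.t * ((l : G) * l) := by rw [C.tt, one_mul]
        _ = C.t * (C.t * l) * l := by group
        _ = C.t * ((l : G) * C.t) * l := by rw [hlt]
        _ = C.t * l * (C.t * l) := by group
        _ = 1 := hsq
  -- conjugates of `l`
  have key : ∀ p : C.L, C.S.ρ p v = v → ∃ w', C.S.B v w' = 0 ∧
      (((p * l * p⁻¹ : C.L) : G) = g * a C v w' * g⁻¹ ∨
        ((p * l * p⁻¹ : C.L) : G) = C.t * (g * a C v w' * g⁻¹)) := by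
    intro p hp
    have hpv : Commute (p : G) (C.b v) := by
      have := C.b_conj p v
      rw [hp, mul_inv_eq_iff_eq_mul] at this
      exact this
    obtain ⟨h3, h4⟩ := M.n1' (C.commute_of_mem p.2) hpv
    obtain ⟨l', hl', -, h5⟩ := n1_conj_a h3 h4
    refine ⟨C.S.ρ l' w, by rw [← hl', C.S.inv]; exact hw, ?_⟩
    have h6 : (p : G) * (g * a C v w * g⁻¹) * (p : G)⁻¹ = g * a C v (C.S.ρ l' w) * g⁻¹ := by
      rw [← h5]; group
    have hpt := (C.commute_of_mem p.2).eq
    rcases hl with h | h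
    · left
      rw [← h6, h]; rfl
    · right
      rw [← h6, h]
      change (p : G) * l * (p : G)⁻¹ = _
      calc (p : G) * l * (p : G)⁻¹ = C.t * C.t * ((p : G) * l * (p : G)⁻¹) := by rw [C.tt, one_mul]
        _ = C.t * (C.t * p) * l * (p : G)⁻¹ := by group
        _ = C.t * ((p : G) * C.t) * l * (p : G)⁻¹ := by rw [hpt]
        _ = _ := by group
  have hc : ∀ p q : C.L, C.S.ρ p v = v → C.S.ρ q v = v → Commute (p * l * p⁻¹) (q * l * q⁻¹) := by
    intro p q hp hq
    obtain ⟨w1, hw1, h3⟩ := key p hp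
    obtain ⟨w2, hw2, h4⟩ := key q hq
    have h5 : Commute (g * a C v w1 * g⁻¹) (g * a C v w2 * g⁻¹) := comm_conj g (a_comm C hw1 hw2)
    have h6 := (M.n1 (a_comm_t C v w1) (b_a_comm C hw1).symm).1
    have h7 := (M.n1 (a_comm_t C v w2) (b_a_comm C hw2).symm).1
    have h8 : Commute ((p * l * p⁻¹ : C.L) : G) ((q * l * q⁻¹ : C.L) : G) := by
      rcases h3 with h3 | h3 <;> rcases h4 with h4 | h4 <;> rw [h3, h4]
      · exact h5
      · exact h6.mul_right h5
      · exact h7.symm.mul_left h5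
      · exact ((Commute.refl _).mul_right h7.symm).mul_left (h6.mul_right h5)
    exact Subtype.ext h8
  obtain ⟨u, c, hu, hlu⟩ := cent_Q C.S hv hlv (mem_Q_of_comm C.S hl2 hlv hc)
  refine ⟨u, c, hu, ?_⟩
  rw [hlu] at hl
  exact hl

/-- `b_v a_{v,w}` is a commutator -/
theorem comm_eq {w u : V} (hw : C.S.B v w = 0) (hu : C.S.B v u = 0) (huw : C.S.B u w = 1) :
    C.b v * a C v w = C.b w * a C v u * (C.b w)⁻¹ * (a C v u)⁻¹ := by
  rw [b_conj_a C hw, huw, one_smul, a_inv C hu, a_mul C (by rw [map_add, hu, hw, add_zero]) hu, map_add,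
    LinearMap.add_apply, C.S.alt, zero_add, C.S.symm w u, huw, one_smul,
    show u + w + u = w + (u + u) by abel, aa, add_zero]

theorem sg_comm {x y : G} (hx : Commute x C.t) (hy : Commute y C.t) : sg C (x * y * x⁻¹ * y⁻¹) = 0 := by
  rw [sg_mul C ((hx.mul_left hy).mul_left hx.inv_left) hy.inv_left, sg_mul C (hx.mul_left hy) hx.inv_left,
    sg_mul C hx hy, sg_inv C hx, sg_inv C hy]
  generalize sg C x = c
  generalize sg C y = d
  revert c d
  decide

/-- `g` normalises `Q_v` -/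
theorem conj_a [Finite V] (M : Mv C v g) (hv : v ≠ 0) {w : V} (hw : C.S.B v w = 0) :
    ∃ (u : V) (c : ZMod 2), C.S.B v u = 0 ∧ g * a C v w * g⁻¹ = C.b (c • v) * a C v u := by
  by_cases h0 : w = 0
  · refine ⟨0, 0, map_zero _, ?_⟩
    rw [h0, a_zero, zero_smul, C.b_zero]; group
  by_cases h1 : w = v
  · refine ⟨0, 0, map_zero _, ?_⟩
    rw [h1, a_self, a_zero, zero_smul, C.b_zero]; group
  obtain ⟨x, hx1, hx2⟩ := C.S.exists_sep h0 h1
  rw [C.S.symm] at hx2
  have h2 := comm_eq hw hx2 hx1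
  have hwb : Commute (C.b w) (C.b v) := (C.b_commute_iff).2 ((C.S.symm w v).trans hw)
  have h3 := (M.n1 (b_comm_t C w) hwb).1
  have h4 := (M.n1 (a_comm_t C v x) (b_a_comm C hx2).symm).1
  have h5 : sg C (C.b v * (g * a C v w * g⁻¹)) = 0 := by
    rw [← sg_comm h3 h4]
    congr 1
    calc C.b v * (g * a C v w * g⁻¹) = (g * C.b v * g⁻¹) * (g * a C v w * g⁻¹) := by rw [M.hb]
      _ = g * (C.b v * a C v w) * g⁻¹ := by group
      _ = _ := by rw [h2]; group
  obtain ⟨u, c, hu, h6 | h6⟩ := M.conj_a' hv hw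
  · exact ⟨u, c, hu, h6⟩
  · exfalso
    rw [sg_mul C (b_comm_t C v) (M.n1 (a_comm_t C v w) (b_a_comm C hw).symm).1, sg_of_mem C (C.b_mem v), h6,
      sg_t_mul C (C.L.mul_mem (C.b_mem _) (a_mem C v u))] at h5
    exact absurd h5 (by decide)

end Mv

end Main

end Cfsg.Agent.OddHalf.SpTwoN.LBEx
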