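import Cfsg.Agent.OddHalf.SpTwoN.LBEx

/-!
# Pattern `{b}`, part 4: the induced isometry, an element centralising `O₂(C_K(b_v))`
-/

set_option autoImplicit false

namespace Cfsg.Agent.OddHalf.SpTwoN.LBIso

open Cfsg.Agent.StandardComponent.SpTwo Cfsg.Agent.OddHalf.SpTwoN.LBAlg Cfsg.Agent.OddHalf.SpTwoN.LBDef
open Cfsg.Agent.OddHalf.SpTwoN.LBEx

variable {G V : Type*} [Group G] [AddCommGroup V] [Module (ZMod 2) V] {C : Ctx G V} {v : V} {g : G}

theorem Q_inj {u u' : V} {c c' : ZMod 2} (hv : v ≠ 0) (hu : C.S.B v u = 0) (hu' : C.S.B v u' = 0)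
    (h : C.b (c • v) * a C v u = C.b (c' • v) * a C v u') : ∃ e : ZMod 2, u' = u + e • v :=
  LBEx.Q_inj C.S hv hu hu' (Subtype.ext h)

theorem c_inj {c c' : ZMod 2} (hv : v ≠ 0) {x : G} (h : C.b (c • v) * x = C.b (c' • v) * x) : c = c' := by
  have h1 := C.b_inj (mul_right_cancel h)
  rcases z2 c with h2 | h2 <;> rcases z2 c' with h3 | h3 <;> rw [h2, h3] at h1 ⊢
  · exact absurd (by simpa using h1.symm) hv
  · exact absurd (by simpa using h1) hv

theorem b_smul_add (c d : ZMod 2) (v : V) : C.b ((c + d) • v) = C.b (c • v) * C.b (d • v) := by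
  rcases z2 c with h2 | h2 <;> rcases z2 d with h3 | h3 <;> rw [h2, h3]
  · rw [add_zero, zero_smul, C.b_zero, mul_one]
  · rw [zero_add, zero_smul, C.b_zero, one_mul]
  · rw [add_zero, zero_smul, C.b_zero, mul_one]
  · rw [show (1 : ZMod 2) + 1 = 0 from by decide, zero_smul, C.b_zero, one_smul, C.b_sq]

theorem b_smul_cases (c : ZMod 2) (v : V) : C.b (c • v) = 1 ∨ C.b (c • v) = C.b v := by
  rcases z2 c with h | h <;> rw [h]
  · left; rw [zero_smul, C.b_zero]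
  · right; rw [one_smul]

/-- the part of `β` modulo `v` does not matter -/
theorem B_mod {x u : V} (e : ZMod 2) (h : C.S.B v x = 0) : C.S.B x (u + e • v) = C.S.B x u := by
  rw [map_add, map_smul, C.S.symm x v, h, smul_zero, add_zero]

theorem B_mod' {x u : V} (e : ZMod 2) (h : C.S.B v x = 0) : C.S.B (u + e • v) x = C.S.B u x := by
  rw [map_add, LinearMap.add_apply, map_smul, LinearMap.smul_apply, h, smul_zero, add_zero]

/-- `β` describes the action of `g` on `Q_v` -/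
def Bet (C : Ctx G V) (v : V) (g : G) (β : V → V) (c : V → ZMod 2) : Prop :=
  ∀ w, C.S.B v w = 0 → C.S.B v (β w) = 0 ∧ g * a C v w * g⁻¹ = C.b (c w • v) * a C v (β w)

theorem exists_bet [Finite V] (M : Mv C v g) (hv : v ≠ 0) : ∃ β c, Bet C v g β c := by
  have h : ∀ w, ∃ (u : V) (c : ZMod 2), C.S.B v w = 0 →
      C.S.B v u = 0 ∧ g * a C v w * g⁻¹ = C.b (c • v) * a C v u := by
    intro w
    by_cases hw : C.S.B v w = 0
    · obtain ⟨u, c, h⟩ := M.conj_a hv hw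
      exact ⟨u, c, fun _ => h⟩
    · exact ⟨0, 0, fun h => absurd h hw⟩
  choose β c h using h
  exact ⟨β, c, h⟩

variable {β : V → V} {c : V → ZMod 2}

theorem Bet.uniq (H : Bet C v g β c) (hv : v ≠ 0) {w u : V} {d : ZMod 2} (hw : C.S.B v w = 0)
    (hu : C.S.B v u = 0) (h : g * a C v w * g⁻¹ = C.b (d • v) * a C v u) : ∃ e : ZMod 2, β w = u + e • v := by
  obtain ⟨h1, h2⟩ := H w hw
  rw [h2] at h
  exact Q_inj hv hu h1 h.symm

theorem b_smul_comm (c : ZMod 2) {v w : V} (h : C.S.B v w = 0) : Commute (C.b (c • v)) (a C v w) := by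
  rcases b_smul_cases (C := C) c v with h1 | h1 <;> rw [h1]
  · exact Commute.one_left _
  · exact b_a_comm C h

theorem Bet.add (H : Bet C v g β c) (M : Mv C v g) (hv : v ≠ 0) {x y : V} (hx : C.S.B v x = 0)
    (hy : C.S.B v y = 0) : ∃ e : ZMod 2, β (x + y) = β x + β y + e • v := by
  obtain ⟨h1, h2⟩ := H x hx
  obtain ⟨h3, h4⟩ := H y hy
  have hb : ∀ d : ZMod 2, g * C.b (d • v) * g⁻¹ = C.b (d • v) := by
    intro d
    rcases b_smul_cases (C := C) d v with h | h <;> rw [h]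
    · group
    · exact M.hb
  apply H.uniq hv (by rw [map_add, hx, hy, add_zero]) (by rw [map_add, h1, h3, add_zero])
    (d := C.S.B x y + (c x + c y + C.S.B (β x) (β y)))
  have e1 := a_mul C hx hy
  have e2 : g * (a C v x * a C v y) * g⁻¹ = g * (C.b (C.S.B x y • v) * a C v (x + y)) * g⁻¹ := by rw [e1]
  have e3 : g * (a C v x * a C v y) * g⁻¹ = (g * a C v x * g⁻¹) * (g * a C v y * g⁻¹) := by group
  have e4 : g * (C.b (C.S.B x y • v) * a C v (x + y)) * g⁻¹ =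
    (g * C.b (C.S.B x y • v) * g⁻¹) * (g * a C v (x + y) * g⁻¹) := by group
  rw [e3, e4, hb, h2, h4] at e2
  have e5 : C.b (c x • v) * a C v (β x) * (C.b (c y • v) * a C v (β y)) =
      C.b ((c x + c y + C.S.B (β x) (β y)) • v) * a C v (β x + β y) := by
    calc C.b (c x • v) * a C v (β x) * (C.b (c y • v) * a C v (β y)) =
        C.b (c x • v) * (a C v (β x) * C.b (c y • v)) * a C v (β y) := by group
      _ = C.b (c x • v) * (C.b (c y • v) * a C v (β x)) * a C v (β y) := by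
          rw [(b_smul_comm (c y) h1).eq]
      _ = C.b (c x • v) * C.b (c y • v) * (a C v (β x) * a C v (β y)) := by group
      _ = _ := by rw [a_mul C h1 h3, b_smul_add, b_smul_add]; group
  rw [e5] at e2
  have e6 : C.b (C.S.B x y • v) * C.b (C.S.B x y • v) = 1 := C.b_sq _
  calc g * a C v (x + y) * g⁻¹ =
      (C.b (C.S.B x y • v) * C.b (C.S.B x y • v)) * (g * a C v (x + y) * g⁻¹) := by rw [e6, one_mul]
    _ = C.b (C.S.B x y • v) * (C.b (C.S.B x y • v) * (g * a C v (x + y) * g⁻¹)) := mul_assoc _ _ _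
    _ = _ := by
      rw [← e2, ← mul_assoc]
      congr 1
      exact (b_smul_add _ _ v).symm

theorem Bet.zero (H : Bet C v g β c) (hv : v ≠ 0) {w : V} (hw : C.S.B v w = 0) (h1 : a C v w = 1) :
    ∃ e : ZMod 2, β w = e • v := by
  obtain ⟨e, he⟩ := H.uniq hv (u := 0) (d := 0) hw (map_zero _) (by
    rw [h1, a_zero, zero_smul, C.b_zero]; group)
  exact ⟨e, by rw [he, zero_add]⟩

theorem Bet.equiv (H : Bet C v g β c) (M : Mv C v g) (hv : v ≠ 0) {w : V} (hw : C.S.B v w = 0) :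
    ∃ l : C.L, C.S.ρ l v = v ∧ ∀ x, C.S.B v x = 0 →
      ∃ e : ZMod 2, β (x + C.S.B x w • w) = C.S.ρ l (β x) + e • v := by
  have hwb : Commute (C.b w) (C.b v) := (C.b_commute_iff).2 ((C.S.symm w v).trans hw)
  obtain ⟨h1, h2⟩ := M.n1 (b_comm_t C w) hwb
  obtain ⟨l, hl, hlx, hla⟩ := n1_conj_a h1 h2
  refine ⟨l, hl, fun x hx => ?_⟩
  obtain ⟨h3, h4⟩ := H x hx
  have hvw : C.S.B v (x + C.S.B x w • w) = 0 := by rw [map_add, map_smul, hx, hw, smul_zero, add_zero]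
  have hb : (g * C.b w * g⁻¹) * C.b (c x • v) * (g * C.b w * g⁻¹)⁻¹ = C.b (c x • v) := by
    rcases b_smul_cases (C := C) (c x) v with h | h <;> rw [h]
    · group
    · rw [h2.eq, mul_inv_cancel_right]
  apply H.uniq hv hvw (by rw [← hl, C.S.inv]; exact h3) (d := c x)
  rw [← b_conj_a C hw, ← hla]
  calc g * (C.b w * a C v x * (C.b w)⁻¹) * g⁻¹ =
      (g * C.b w * g⁻¹) * (g * a C v x * g⁻¹) * (g * C.b w * g⁻¹)⁻¹ := by group
    _ = (g * C.b w * g⁻¹) * (C.b (c x • v) * a C v (β x)) * (g * C.b w * g⁻¹)⁻¹ := by rw [h4]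
    _ = ((g * C.b w * g⁻¹) * C.b (c x • v) * (g * C.b w * g⁻¹)⁻¹) *
        ((g * C.b w * g⁻¹) * a C v (β x) * (g * C.b w * g⁻¹)⁻¹) := by group
    _ = _ := by rw [hb]

theorem Bet.iso0 (H : Bet C v g β c) (M : Mv C v g) (hv : v ≠ 0) {w y : V} (hw : C.S.B v w = 0)
    (hy : C.S.B v y = 0) (hwy : C.S.B w y = 0) : C.S.B (β w) (β y) = 0 := by
  by_cases h0 : w = 0
  · obtain ⟨e, he⟩ := H.zero hv hw (by rw [h0, a_zero])
    rw [he, map_smul, LinearMap.smul_apply, (H y hy).1, smul_zero]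
  by_cases h1 : w = v
  · obtain ⟨e, he⟩ := H.zero hv hw (by rw [h1, a_self])
    rw [he, map_smul, LinearMap.smul_apply, (H y hy).1, smul_zero]
  obtain ⟨x, hx1, hx2⟩ := C.S.exists_sep h0 h1
  rw [C.S.symm] at hx2
  obtain ⟨l, hl, hle⟩ := H.equiv M hv hw
  obtain ⟨e1, he1⟩ := hle x hx2
  obtain ⟨e2, he2⟩ := hle y hy
  rw [hx1, one_smul] at he1
  rw [C.S.symm y w, hwy, zero_smul, add_zero] at he2
  obtain ⟨e3, he3⟩ := H.add M hv hx2 hw
  have h2 := (H x hx2).1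
  have h3 := (H y hy).1
  have h4 := (H w hw).1
  have h5 : C.S.B (β (x + w)) (β y) = C.S.B (β x) (β y) := by
    rw [he1, B_mod' _ h3]
    nth_rw 1 [he2]
    rw [B_mod _ (by rw [← hl, C.S.inv]; exact h2), C.S.inv]
  rw [he3, B_mod' _ h3, map_add, LinearMap.add_apply] at h5
  have : C.S.B (β x) (β y) + (C.S.B (β x) (β y) + C.S.B (β w) (β y)) = C.S.B (β w) (β y) :=
    aac (V := ZMod 2) _ _
  rw [← this, h5]
  exact aa (V := ZMod 2) _

theorem Bet.surj [Finite V] (H : Bet C v g β c) (M : Mv C v g) (hv : v ≠ 0) {u : V} (hu : C.S.B v u = 0) :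
    ∃ z, C.S.B v z = 0 ∧ ∃ e : ZMod 2, β z = u + e • v := by
  obtain ⟨z, d, hz, h⟩ := M.inv.conj_a hv hu
  refine ⟨z, hz, ?_⟩
  apply H.uniq hv hz hu (d := d)
  have hb : g * C.b (d • v) * g⁻¹ = C.b (d • v) := by
    rcases b_smul_cases (C := C) d v with h | h <;> rw [h]
    · group
    · exact M.hb
  have h1 : a C v z = C.b (d • v) * (g⁻¹ * a C v u * g⁻¹⁻¹) := by
    rw [h, ← mul_assoc, C.b_sq, one_mul]
  calc g * a C v z * g⁻¹ = (g * C.b (d • v) * g⁻¹) * a C v u := by rw [h1]; group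
    _ = _ := by rw [hb]

theorem Bet.iso1 [Finite V] (H : Bet C v g β c) (M : Mv C v g) (hv : v ≠ 0) {w y : V} (hw : C.S.B v w = 0)
    (hy : C.S.B v y = 0) (hwy : C.S.B w y = 1) : C.S.B (β w) (β y) = 1 := by
  rcases z2 (C.S.B (β w) (β y)) with h | h
  swap
  · exact h
  exfalso
  have h1 : ∀ z, C.S.B v z = 0 → C.S.B (β z) (β y) = 0 := by
    intro z hz
    rcases z2 (C.S.B z y) with h2 | h2
    · exact H.iso0 M hv hz hy h2
    · have h3 := H.iso0 M hv (w := z + w) (by rw [map_add, hz, hw, add_zero]) hy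
        (by rw [map_add, LinearMap.add_apply, h2, hwy]; decide)
      obtain ⟨e, he⟩ := H.add M hv hz hw
      rw [he, B_mod' _ (H y hy).1, map_add, LinearMap.add_apply, h, add_zero] at h3
      exact h3
  have h2 : ∀ u, C.S.B v u = 0 → C.S.B u (β y) = 0 := by
    intro u hu
    obtain ⟨z, hz, e, he⟩ := H.surj M hv hu
    have := h1 z hz
    rwa [he, B_mod' _ (H y hy).1] at this
  -- `β y ∈ ⟨v⟩`
  have h3 : β y = 0 ∨ β y = v := by
    by_contra hcon
    push Not at hcon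
    obtain ⟨x, hx1, hx2⟩ := C.S.exists_sep hcon.1 hcon.2
    rw [C.S.symm] at hx2
    rw [h2 x hx2] at hx1
    exact absurd hx1 (by decide)
  have h4 : a C v (β y) = 1 := by
    rcases h3 with h3 | h3 <;> rw [h3]
    · exact a_zero C v
    · exact a_self C v
  have h5 := (H y hy).2
  rw [h4, mul_one] at h5
  have h6 : a C v y = C.b (c y • v) := by
    have hb : g * C.b (c y • v) * g⁻¹ = C.b (c y • v) := by
      rcases b_smul_cases (C := C) (c y) v with h | h <;> rw [h]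
      · group
      · exact M.hb
    rw [← hb] at h5
    exact mul_left_cancel (mul_right_cancel h5)
  have h7 : C.b ((0 : ZMod 2) • v) * a C v y = C.b (c y • v) * a C v 0 := by
    rw [h6, zero_smul, C.b_zero, one_mul, a_zero, mul_one]
  obtain ⟨e, he⟩ := Q_inj hv hy (map_zero _) h7
  have h8 : y = e • v := eq_of_add _ _ he.symm
  rw [h8, map_smul, C.S.symm, hw, smul_zero] at hwy
  exact absurd hwy (by decide)

theorem Bet.iso [Finite V] (H : Bet C v g β c) (M : Mv C v g) (hv : v ≠ 0) {w y : V} (hw : C.S.B v w = 0)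
    (hy : C.S.B v y = 0) : C.S.B (β w) (β y) = C.S.B w y := by
  rcases z2 (C.S.B w y) with h | h <;> rw [h]
  · exact H.iso0 M hv hw hy h
  · exact H.iso1 M hv hw hy h

/-- an element which acts trivially on `Q_v / b_v` -/
theorem exists_triv [Finite V] (M : Mv C v g) (hv : v ≠ 0) :
    ∃ y : G, Mv C v y ∧ ∀ w, C.S.B v w = 0 → ∃ d : ZMod 2, y * a C v w * y⁻¹ = C.b (d • v) * a C v w := by
  obtain ⟨β, c, H⟩ := exists_bet M hv
  obtain ⟨v', hv', -⟩ := C.S.exists_sep hv hv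
  have hvv : C.S.B v v' = 1 := (C.S.symm v v').trans hv'
  -- normalise
  have hn : ∀ w, ∃ u : V, C.S.B v w = 0 →
      (C.S.B v u = 0 ∧ C.S.B v' u = 0) ∧ (∃ d : ZMod 2, g * a C v w * g⁻¹ = C.b (d • v) * a C v u) ∧
        ∃ e : ZMod 2, u = β w + e • v := by
    intro w
    by_cases hw : C.S.B v w = 0
    swap
    · exact ⟨0, fun h => absurd h hw⟩
    obtain ⟨h1, h2⟩ := H w hw
    refine ⟨β w + C.S.B v' (β w) • v, fun _ => ⟨⟨?_, ?_⟩, ⟨c w, ?_⟩, _, rfl⟩⟩
    · rw [map_add, map_smul, h1, C.S.alt, smul_zero, add_zero]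
    · rw [map_add, map_smul, hv', smul_eq_mul, mul_one]
      exact aa (V := ZMod 2) _
    · rw [h2]
      congr 1
      rcases z2 (C.S.B v' (β w)) with h3 | h3 <;> rw [h3]
      · rw [zero_smul, add_zero]
      · rw [one_smul, a_add_self C h1]
  choose γ hγ using hn
  have hu : ∀ {u u' : V} {e : ZMod 2}, C.S.B v' u = 0 → C.S.B v' u' = 0 → u' = u + e • v → u' = u := by
    intro u u' e h1 h2 h3
    rw [h3, map_add, h1, map_smul, hv', zero_add, smul_eq_mul, mul_one] at h2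
    rw [h3, h2, zero_smul, add_zero]
  obtain ⟨p, hpv, hp⟩ := exists_lift C.S C.full hvv γ (fun w h1 _ => (hγ w h1).1) (by
    intro x y hx _ hy _
    obtain ⟨⟨h1, h2⟩, -, e1, he1⟩ := hγ x hx
    obtain ⟨⟨h3, h4⟩, -, e2, he2⟩ := hγ y hy
    obtain ⟨⟨h5, h6⟩, -, e3, he3⟩ := hγ (x + y) (by rw [map_add, hx, hy, add_zero])
    obtain ⟨e4, he4⟩ := H.add M hv hx hy
    apply hu (e := e1 + e2 + e3 + e4) (by rw [map_add, h2, h4, add_zero]) h6
    rw [he3, he4, he1, he2]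
    simp only [add_smul]
    rw [show β x + e1 • v + (β y + e2 • v) + (e1 • v + e2 • v + e3 • v + e4 • v) =
      β x + β y + (e1 • v + e1 • v) + (e2 • v + e2 • v) + e3 • v + e4 • v by abel, aa, aa, add_zero, add_zero]
    abel) (by
    intro x y hx _ hy _
    obtain ⟨⟨h1, h2⟩, -, e1, he1⟩ := hγ x hx
    obtain ⟨⟨h3, h4⟩, -, e2, he2⟩ := hγ y hy
    rw [he1, B_mod' _ h3, he2, B_mod _ (H x hx).1, H.iso M hv hx hy])
  have hpi : C.S.ρ p⁻¹ v = v := by
    have := C.S.ρ_inv_apply p v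
    rwa [hpv] at this
  have hpb : ∀ d : ZMod 2, (p : G)⁻¹ * C.b (d • v) * (p : G) = C.b (d • v) := by
    intro d
    have := C.b_conj p⁻¹ (d • v)
    rw [map_smul, hpi] at this
    simpa using this
  have hpt : (p : G)⁻¹ * C.t * (p : G) = C.t := by
    rw [mul_assoc, ← (C.commute_of_mem p.2).eq, inv_mul_cancel_left]
  refine ⟨(p : G)⁻¹ * g, ⟨?_, ?_⟩, ?_⟩
  · have hb1 := hpb 1
    rw [one_smul] at hb1
    calc (p : G)⁻¹ * g * C.t * ((p : G)⁻¹ * g)⁻¹ = (p : G)⁻¹ * (g * C.t * g⁻¹) * p := by group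
      _ = ((p : G)⁻¹ * C.t * (p : G)) * ((p : G)⁻¹ * C.b v * (p : G)) := by rw [M.ht]; group
      _ = _ := by rw [hpt, hb1]
  · have hb1 := hpb 1
    rw [one_smul] at hb1
    calc (p : G)⁻¹ * g * C.b v * ((p : G)⁻¹ * g)⁻¹ = (p : G)⁻¹ * (g * C.b v * g⁻¹) * p := by group
      _ = _ := by rw [M.hb, hb1]
  · intro w hw
    -- reduce to `w ⊥ v'`
    set w0 := w + C.S.B v' w • v with hw0
    have h1 : C.S.B v w0 = 0 := by rw [hw0, map_add, map_smul, hw, C.S.alt, smul_zero, add_zero]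
    have h2 : C.S.B v' w0 = 0 := by
      rw [hw0, map_add, map_smul, hv', smul_eq_mul, mul_one]
      exact aa (V := ZMod 2) _
    have h3 : a C v w = a C v w0 := by
      rw [hw0]
      rcases z2 (C.S.B v' w) with h | h <;> rw [h]
      · rw [zero_smul, add_zero]
      · rw [one_smul, a_add_self C hw]
    rw [h3]
    obtain ⟨-, ⟨d, hd⟩, -⟩ := hγ w0 h1
    refine ⟨d, ?_⟩
    have h4 := l_conj_a C p⁻¹ v (γ w0)
    rw [hpi, ← hp w0 h1 h2, C.S.ρ_inv_apply] at h4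
    have h5 : (p : G)⁻¹ * a C v (γ w0) * (p : G) = a C v w0 := by
      rw [← hp w0 h1 h2]
      simpa using h4
    calc (p : G)⁻¹ * g * a C v w0 * ((p : G)⁻¹ * g)⁻¹ = (p : G)⁻¹ * (g * a C v w0 * g⁻¹) * p := by group
      _ = ((p : G)⁻¹ * C.b (d • v) * (p : G)) * ((p : G)⁻¹ * a C v (γ w0) * (p : G)) := by rw [hd]; group
      _ = _ := by rw [hpb, h5]

end Cfsg.Agent.OddHalf.SpTwoN.LBIso
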