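import Cfsg.Agent.OddHalf.SpTwoN.LongH

/-!
# Pattern "long only": the counting argument

A 2-subgroup of `H` which is as large as a Sylow 2-subgroup of `C_H(t)` and centralises an element `d` moving `F`
meets the translations in at least `2 |A|` elements; if `d` is not a translation it meets them in at most `|A|`.
-/

set_option autoImplicit false

namespace Cfsg.Agent.OddHalf.SpTwoN.LongCount

open Subgroup
open Cfsg.Agent.StandardComponent.SpTwo
open Cfsg.Agent.OddHalf.SpTwoN.Words Cfsg.Agent.OddHalf.SpTwoN.Iso Cfsg.Agent.OddHalf.SpTwoN.Transl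
open Cfsg.Agent.OddHalf.SpTwoN.Section Cfsg.Agent.OddHalf.SpTwoN.LongH

section general

variable {P Q : Type*} [Group P] [Group Q]

theorem card_map_mul [Finite P] (K : Subgroup P) (ψ : P →* Q) :
    Nat.card K = Nat.card (K ⊓ ψ.ker : Subgroup P) * Nat.card (K.map ψ) := by
  have h1 : Nat.card (ψ.comp K.subtype).ker * Nat.card (ψ.comp K.subtype).range = Nat.card K := by
    rw [← index_ker, card_mul_index]
  have h2 : (ψ.comp K.subtype).range = K.map ψ := by
    rw [MonoidHom.range_comp, K.range_subtype]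
  have h3 : Nat.card (ψ.comp K.subtype).ker = Nat.card (K ⊓ ψ.ker : Subgroup P) := by
    refine Nat.card_congr ⟨fun x => ⟨x.1.1, x.1.2, x.2⟩, fun x => ⟨⟨x.1, x.2.1⟩, x.2.2⟩, fun x => rfl, fun x => rfl⟩
  rw [← h1, h2, h3]

theorem card_le_sylow {p : ℕ} [Fact p.Prime] [Finite Q] (S : Sylow p Q) {K : Subgroup Q} (hK : IsPGroup p K) :
    Nat.card K ≤ Nat.card S := by
  obtain ⟨T, hT⟩ := hK.exists_le_sylow
  have h1 : Nat.card K ≤ Nat.card T := Subgroup.card_le_of_le hT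
  rwa [T.card_eq_multiplicity, ← S.card_eq_multiplicity] at h1

/-- `T` is a Sylow 2-subgroup of the subgroup `P0` of `G` -/
structure IsSyl {G : Type*} [Group G] (P0 T : Subgroup G) : Prop where
  le : T ≤ P0
  two : IsPGroup 2 T
  max : ∀ S : Subgroup G, S ≤ P0 → IsPGroup 2 S → Nat.card S ≤ Nat.card T

theorem exists_isSyl {G : Type*} [Group G] [Finite G] (P0 : Subgroup G) : ∃ T, IsSyl P0 T := by
  have : Fact (Nat.Prime 2) := ⟨Nat.prime_two⟩
  obtain ⟨P⟩ : Nonempty (Sylow 2 P0) := inferInstance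
  refine ⟨(P : Subgroup P0).map P0.subtype, ?_, P.2.map _, ?_⟩
  · rintro _ ⟨x, -, rfl⟩
    exact x.2
  · intro S hS h2
    rw [Subgroup.card_map_of_injective P0.subtype_injective]
    have h3 : IsPGroup 2 (S.subgroupOf P0) := h2.comap_subtype
    have h4 := card_le_sylow P h3
    rwa [StdSpSix.QLevel.card_sub_eq hS] at h4

theorem IsSyl.of_card {G : Type*} [Group G] {P0 T T' : Subgroup G} (h : IsSyl P0 T) (h1 : T' ≤ P0)
    (h2 : IsPGroup 2 T') (hc : Nat.card T' = Nat.card T) : IsSyl P0 T' :=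
  ⟨h1, h2, fun S hS hS2 => by rw [hc]; exact h.max S hS hS2⟩

theorem IsSyl.le_of_norm {G : Type*} [Group G] [Finite G] {P0 T N : Subgroup G} (h : IsSyl P0 T) (h1 : N ≤ P0)
    (h2 : IsPGroup 2 N) (h3 : ∀ x ∈ T, ∀ n ∈ N, x * n * x⁻¹ ∈ N) : N ≤ T := by
  have h4 : T ≤ normalizer (N : Set G) := by
    intro x hx
    have h5 : ∀ n ∈ N, x * n * x⁻¹ ∈ N := h3 x hx
    rw [mem_normalizer_iff]
    intro n
    refine ⟨h5 n, fun hn => ?_⟩
    have := h3 x⁻¹ (inv_mem hx) _ hn
    have e : x⁻¹ * (x * n * x⁻¹) * x⁻¹⁻¹ = n := by group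
    rwa [e] at this
  have h5 := h.two.to_sup_of_normal_right' h2 h4
  have h6 := h.max _ (sup_le h.le h1) h5
  have h7 := Subgroup.eq_of_le_of_card_ge (le_sup_left : T ≤ T ⊔ N) h6
  rw [h7]
  exact le_sup_right

end general

variable {G V : Type*} [Group G] [AddCommGroup V] [Module (ZMod 2) V] {C : Ctx G V} {W : Submodule (ZMod 2) V}

variable (C W) in
/-- `C_H(t)` -/
def P0 : Subgroup G := HG C W ⊓ centralizer ({C.t} : Set G)

theorem mem_P0 {g : G} : g ∈ P0 C W ↔ g ∈ HG C W ∧ g * C.t = C.t * g := by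
  rw [P0, mem_inf, mem_centralizer_singleton_iff]

variable [Finite V]

theorem a_mem_H1 (hW : Max C.S W) {v0 v1 : V} {y0 y1 : G} (f : Frame C W v0 v1 y0 y1) (hr : 4 ≤ Module.finrank (ZMod 2) W)
    (hE : ∀ v ∈ W, v ≠ 0 → ∃ y, E C W v y) {a : C.L} (ha : a ∈ AW C.S W) {w : V} {z : G} (hz : F C W y0 y1 w z) :
    F C W y0 y1 w (a * z * (a : G)⁻¹) := by
  have h1 := hz.2.1.conj_a hW hz.1 ha
  have hs := sA hW hz.1 (hW.δ_mem ha)
  have h2 : (a : G) * z * (a : G)⁻¹ = z * s C w (δ C.S a) := by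
    have h3 := acomm hW ha hs
    change (a : G) * s C w (δ C.S a) = s C w (δ C.S a) * a at h3
    calc (a : G) * z * (a : G)⁻¹ = (z * z) * a * z * (a : G)⁻¹ := by rw [hz.2.1.2, one_mul]
      _ = z * (z * a * z) * (a : G)⁻¹ := by group
      _ = z * (s C w (δ C.S a) * a) * (a : G)⁻¹ := by rw [h1, h3]
      _ = _ := by group
  rw [h2]
  have := f.mul hW hr hE hz (f.alt hW hs (δ_sg (hW.perp hz.1 (hW.δ_mem ha))))
  rwa [add_zero] at this

variable [Finite G]

section frame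

variable (hW : Max C.S W) (hr : 4 ≤ Module.finrank (ZMod 2) W) (hE : ∀ v ∈ W, v ≠ 0 → ∃ y, E C W v y)
  {v0 v1 : V} {y0 y1 : G} (f : Frame C W v0 v1 y0 y1)

include hW hr hE in
/-- a translation normalising `F` is in `A F` -/
theorem decomp {e : G} (he : e ∈ RG C W) (h1 : (⟨e, RG_le_HG he⟩ : HG C W) ∈ H1 hW hr hE f) :
    ∃ a : C.L, a ∈ AW C.S W ∧ ∃ w z, F C W y0 y1 w z ∧ e = a * z := by
  have he' := he
  obtain ⟨w, hw, hTr⟩ := he'
  obtain ⟨z, hz⟩ := f.exists_mem hW hr hE hw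
  have h2 : Tr C W 0 (e * z) := by
    have := hTr.mul hw hz.2.1.1
    rwa [aa] at this
  obtain ⟨a, ha, h3 | h3⟩ := h2.zero
  · refine ⟨a, ha, w, z, hz, ?_⟩
    rw [← h3, mul_assoc, hz.2.1.2, mul_one]
  · exfalso
    apply t_notMem hW hr hE f
    have haH : (a : G) ∈ HG C W := RG_le_HG ⟨0, zero_mem _, tr_a hW ha⟩
    have hzH : z ∈ HG C W := RG_le_HG ⟨w, hw, hz.2.1.1⟩
    have h4 : (⟨a, haH⟩ : HG C W) ∈ H1 hW hr hE f := (mem_H1_iff hW hr hE f).2 fun w' z' hz' =>
      ⟨w', a_mem_H1 hW f hr hE ha hz'⟩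
    have h5 : (⟨z, hzH⟩ : HG C W) ∈ H1 hW hr hE f := (mem_H1_iff hW hr hE f).2 fun w' z' hz' => by
      refine ⟨w', ?_⟩
      have h6 := f.commute hW hr hE hz hz'
      have h7 : z * z' * z⁻¹ = z' := by rw [h6.eq, mul_inv_cancel_right]
      change F C W y0 y1 w' (z * z' * z⁻¹)
      rw [h7]
      exact hz'
    have h6 : (⟨C.t, t_mem_HG⟩ : HG C W) = ⟨e, RG_le_HG he⟩ * ⟨z, hzH⟩ * (⟨a, haH⟩)⁻¹ := by
      apply Subtype.ext
      change C.t = e * z * (a : G)⁻¹
      rw [h3, mul_inv_cancel_right]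
    rw [h6]
    exact mul_mem (mul_mem h1 h5) (inv_mem h4)

omit [Finite G] in
include hW hE f in
/-- the vector of a translation commuting with an element moving `F` -/
theorem vec_eq {n : C.L} {v : V} {d : G} (hn : St W n) (hv : v ∈ W) (hd : Aff C W n v d)
    (hdF : ∀ w z, F C W y0 y1 w z → F C W y0 y1 (C.S.ρ n w) (C.t * d * z * (C.t * d)⁻¹))
    {a : C.L} (ha : a ∈ AW C.S W) {w : V} {z : G} (hz : F C W y0 y1 w z) (hc : Commute ((a : G) * z) d) :
    w = δ C.S a + C.S.ρ n (δ C.S a) := by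
  obtain ⟨c, hcA, hc1, hc2⟩ := Aff.conj_a hW hE hn hv hd ha
  have hz' := hdF w z hz
  set z' := C.t * d * z * (C.t * d)⁻¹ with hz'def
  have e1 : d * z * d⁻¹ = z' * C.b (C.S.ρ n w) := by
    rw [← hz'.2.1.t_conj, hz'def, mul_inv_rev, C.t_inv]
    calc d * z * d⁻¹ = (C.t * C.t) * (d * z * d⁻¹) * (C.t * C.t) := by rw [C.tt]; group
      _ = _ := by group
  have hbA := hW.τ_mem hz'.1
  have e2 : z' * C.b (C.S.ρ n w) = C.b (C.S.ρ n w) * z' := by
    have h1 := hz'.2.1.1.conj_a hW hz'.1 hbA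
    rw [δ_τ, s_self, mul_one] at h1
    exact mul_inv_eq_iff_eq_mul.1 h1
  have e3 : (a : G) * z = (c * C.S.τ (C.S.ρ n w) : C.L) * z' := by
    have h1 : (a : G) * z = d * (a * z) * d⁻¹ := by
      rw [← hc.eq, mul_inv_cancel_right]
    rw [h1]
    calc d * ((a : G) * z) * d⁻¹ = (d * a * d⁻¹) * (d * z * d⁻¹) := by group
      _ = c * (C.b (C.S.ρ n w) * z') := by rw [hc1, e1, e2]
      _ = _ := by rw [← mul_assoc]; rfl
  have hcb : c * C.S.τ (C.S.ρ n w) ∈ AW C.S W := mul_mem hcA hbA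
  have e4 : w = C.S.ρ n w := by
    have h1 := (tr_a hW ha).mul hz.1 hz.2.1.1
    have h2 := (tr_a hW hcb).mul hz'.1 hz'.2.1.1
    rw [e3] at h1
    have := Tr.unique h1 h2
    rwa [zero_add, zero_add] at this
  rw [← e4] at hz' e3 hcb
  obtain ⟨g, hg, hg0, h5⟩ := f.same hW hz hz'
  have e5 : z * (g : G) = g * z := hz.2.1.1.comm_alt hW hz.1 hg hg0
  have e6 : (a : G) = (c * C.S.τ w : C.L) * g := by
    rw [h5, e5, ← mul_assoc] at e3
    exact mul_right_cancel e3
  have e7 : a = c * C.S.τ w * g := Subtype.ext e6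
  have e8 := congrArg (δ C.S) e7
  have hbw : C.S.τ w ∈ AW C.S W := hW.τ_mem hz.1
  rw [hW.δ_mul hcb hg, hW.δ_mul hcA hbw, hg0, δ_τ, hc2, add_zero] at e8
  rw [← aac (C.S.ρ n (δ C.S a)) w, ← e8, add_comm]

omit [Finite V] [Finite G] in
theorem mem_span_of_sg {a b c d : V} (hab : C.S.B a b = 0) (hcd : C.S.B c d = 0) (hb : b ≠ 0) (hba : b ≠ a)
    (h : sg C.S a b = sg C.S c d) : a ∈ Submodule.span (ZMod 2) ({c, d} : Set V) := by
  obtain ⟨x, hx1, hx2⟩ := C.S.exists_sep hb hba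
  have h1 := ρ_sg C.S hab x
  rw [h, ρ_sg C.S hcd, hx1, hx2, zero_smul, one_smul, add_zero] at h1
  rw [← add_left_cancel h1]
  exact add_mem (Submodule.smul_mem _ _ (Submodule.subset_span (by simp)))
    (Submodule.smul_mem _ _ (Submodule.subset_span (by simp)))

omit [Finite G] in
/-- an affine map centralising `Λ` is a translation -/
theorem mem_RG_of_commute (hW : Max C.S W) (hr : 4 ≤ Module.finrank (ZMod 2) W)
    (hE : ∀ v ∈ W, v ≠ 0 → ∃ y, E C W v y) {d : G} (hd : d ∈ HG C W)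
    (hc : ∀ x ∈ LG C W, Commute d x) : d ∈ RG C W := by
  obtain ⟨n, hn, v, hv, h1⟩ := hd
  have hk : ∃ k, Tr C W v k := by
    by_cases hv0 : v = 0
    · exact ⟨C.t, hv0 ▸ tr_t⟩
    · obtain ⟨y, hy⟩ := hE v hv hv0
      exact ⟨y, hy.1⟩
  obtain ⟨k, hk⟩ := hk
  have h2 : Aff C W n 0 (k⁻¹ * d) := by
    have := (aff_tr (hk.inv hv)).mul hn hv h1
    rwa [C.S.ρ_one, aa, one_mul] at this
  obtain ⟨m, hm, hmn⟩ := Aff.exists_L h2
  -- `m` commutes with the short root elements of `W`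
  have h3 : ∀ u ∈ W, ∀ w ∈ W, sg C.S (C.S.ρ m u) (C.S.ρ m w) = sg C.S u w := by
    intro u hu w hw
    have hs := sA hW hu hw
    have h4 : Commute (k⁻¹ * d) (s C u w) := by
      have h5 := (hk.inv hv).comm_alt hW hv hs (δ_sg (hW.perp hu hw))
      have h6 : Commute k⁻¹ (s C u w) := h5
      exact h6.mul_left (hc _ ((mem_LG hW).2 ⟨_, hs, δ_sg (hW.perp hu hw), rfl⟩))
    have h5 : Commute (m : G) (s C u w) := by
      rcases hm with h6 | h6
      · rwa [h6] at h4
      · have h7 : Commute C.t (s C u w) := (Lt (C := C) (sg C.S u w)).symm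
        have h8 : (m : G) = C.t * (k⁻¹ * d) := by rw [h6, ← mul_assoc, C.tt, one_mul]
        rw [h8]
        exact h7.mul_left h4
    rw [← conj_sg]
    apply Subtype.ext
    change (m : G) * s C u w * (m : G)⁻¹ = s C u w
    rw [h5.eq, mul_inv_cancel_right]
  have hrk : ∀ (s : Finset V), s.card ≤ 3 → ∃ x ∈ W, x ∉ Submodule.span (ZMod 2) (s : Set V) := by
    intro s hs
    by_contra hcon
    push Not at hcon
    have h4 := Submodule.finrank_mono (show W ≤ _ from hcon)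
    have h5 : Module.finrank (ZMod 2) (Submodule.span (ZMod 2) (s : Set V)) ≤ s.card :=
      finrank_span_finset_le_card s
    omega
  classical
  have h4 : ∀ u ∈ W, C.S.ρ m u = u := by
    intro u hu
    by_cases hu0 : u = 0
    · rw [hu0, map_zero]
    obtain ⟨w1, hw1, h5⟩ := hrk {u} (by simp)
    obtain ⟨w2, hw2, h6⟩ := hrk {u, w1} (Finset.card_le_two.trans (by norm_num))
    rw [Finset.coe_singleton] at h5
    rw [Finset.coe_insert, Finset.coe_singleton] at h6
    have key : ∀ w ∈ W, w ∉ Submodule.span (ZMod 2) ({u} : Set V) →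
        C.S.ρ m u ∈ Submodule.span (ZMod 2) ({u, w} : Set V) := by
      intro w hw hwu
      apply mem_span_of_sg (hab := by rw [C.S.inv]; exact hW.perp hu hw) (hW.perp hu hw) ?_ ?_ (h3 u hu w hw)
      · intro h
        apply hwu
        have : w = 0 := C.S.ρ_inj m (by rw [h, map_zero])
        rw [this]; exact zero_mem _
      · intro h
        apply hwu
        rw [C.S.ρ_inj m h]
        exact Submodule.mem_span_singleton_self _
    have h7 := mem_span_pair_cases (key w1 hw1 h5)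
    have h8 := mem_span_pair_cases (key w2 hw2 (fun h => h6 (Submodule.span_mono (by simp) h)))
    have hu' : u ∈ Submodule.span (ZMod 2) ({u, w1} : Set V) := Submodule.subset_span (by simp)
    have hw1' : w1 ∈ Submodule.span (ZMod 2) ({u, w1} : Set V) := Submodule.subset_span (by simp)
    have hmem := key w1 hw1 h5
    rcases h8 with h8 | h8 | h8 | h8
    · exfalso
      exact hu0 (C.S.ρ_inj m (by rw [h8, map_zero]))
    · exact h8
    · exact absurd (h8 ▸ hmem) h6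
    · exfalso
      apply h6
      have : w2 = u + (u + w2) := (aac u w2).symm
      rw [this, ← h8]
      exact add_mem hu' hmem
  refine ⟨v, hv, fun x hx => ?_⟩
  rw [h1 x hx, ← hmn x hx, h4 x hx]

include hW hr hE f in
/-- **upper bound** -/
theorem card_le {n : C.L} {v : V} {d : G} (hn : St W n) (hv : v ∈ W) (hd : Aff C W n v d)
    (hdF : ∀ w z, F C W y0 y1 w z → F C W y0 y1 (C.S.ρ n w) (C.t * d * z * (C.t * d)⁻¹))
    (hdR : d ∉ RG C W) {M : Subgroup G} (hM : M ≤ RG C W) (hMd : ∀ x ∈ M, Commute x d) :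
    Nat.card M ≤ Nat.card (AG C W) := by
  classical
  set N : Subgroup G := normalizer (FS hW hr hE f : Set G) with hN
  have hidx := index_H1 hW hr hE f
  -- index two
  have h1 : Nat.card M ≤ 2 * Nat.card (M ⊓ N : Subgroup G) := by
    by_cases hall : ∀ x ∈ M, x ∈ N
    · have : M ⊓ N = M := inf_eq_left.2 hall
      rw [this]; omega
    · push Not at hall
      obtain ⟨r, hrM, hrN⟩ := hall
      apply StdSpSix.QLevel.card_le_two_mul r
      intro x hx hxN
      refine ⟨M.mul_mem (M.inv_mem hrM) hx, ?_⟩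
      have hxN' : x ∉ N := fun h => hxN ⟨hx, h⟩
      have hrH : r ∈ HG C W := RG_le_HG (hM hrM)
      have hxH : x ∈ HG C W := RG_le_HG (hM hx)
      have h2 : (⟨r, hrH⟩ : HG C W)⁻¹ * ⟨x, hxH⟩ ∈ H1 hW hr hE f := by
        rw [mul_mem_iff_of_index_two hidx, inv_mem_iff]
        constructor
        · intro h; exact absurd (mem_subgroupOf.1 h) hrN
        · intro h; exact absurd (mem_subgroupOf.1 h) hxN'
      exact mem_subgroupOf.1 h2
  -- decomposition of the elements of `M ⊓ N`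
  have h2 : ∀ e : (M ⊓ N : Subgroup G), ∃ a : C.L, a ∈ AW C.S W ∧ ∃ w z, F C W y0 y1 w z ∧ (e : G) = a * z := by
    intro e
    exact decomp hW hr hE f (hM e.2.1) (mem_subgroupOf.2 e.2.2)
  choose a haA w z hz he using h2
  have h3 : ∀ e e' : (M ⊓ N : Subgroup G), δ C.S (a e) = δ C.S (a e') → (e : G)⁻¹ * e' ∈ LG C W := by
    intro e e' hee
    have e1 := vec_eq hW hE f hn hv hd hdF (haA e) (hz e) (by rw [← he e]; exact hMd _ e.2.1)
    have e2 := vec_eq hW hE f hn hv hd hdF (haA e') (hz e') (by rw [← he e']; exact hMd _ e'.2.1)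
    have e3 : w e = w e' := by rw [e1, e2, hee]
    have hz' := hz e'
    rw [← e3] at hz'
    obtain ⟨g, hg, hg0, h5⟩ := f.same hW (hz e) hz'
    have e4 : (e : G)⁻¹ * e' = z e * ((a e)⁻¹ * a e' : C.L) * z e * g := by
      rw [he e, he e', h5]
      have h6 : (z e)⁻¹ = z e := (hz e).2.1.inv
      rw [mul_inv_rev, h6, Subgroup.coe_mul, Subgroup.coe_inv]
      group
    have hA : (a e)⁻¹ * a e' ∈ AW C.S W := mul_mem (inv_mem (haA e)) (haA e')
    have hA0 : δ C.S ((a e)⁻¹ * a e') = 0 := by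
      rw [inv_of_sq (hW.sq (haA e)), hW.δ_mul (haA e) (haA e'), hee, aa]
    rw [e4, (hz e).2.1.1.comm_alt hW (hz e).1 hA hA0, mul_assoc ((_ : C.L) : G), (hz e).2.1.2, mul_one]
    exact (mem_LG hW).2 ⟨_, mul_mem hA hg, by rw [hW.δ_mul hA hg, hA0, hg0, add_zero], rfl⟩
  -- counting
  set K : Subgroup (M ⊓ N : Subgroup G) := (LG C W).subgroupOf (M ⊓ N) with hK
  have h4 : Nat.card (M ⊓ N : Subgroup G) = Nat.card ((M ⊓ N : Subgroup G) ⧸ K) * Nat.card K :=
    Subgroup.card_eq_card_quotient_mul_card_subgroup K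
  have h5 : Nat.card ((M ⊓ N : Subgroup G) ⧸ K) ≤ Nat.card W := by
    have : Finite W := inferInstance
    refine Nat.card_le_card_of_injective (fun q => (⟨δ C.S (a q.out), hW.δ_mem (haA q.out)⟩ : W)) ?_
    intro q q' hqq
    have h6 := h3 q.out q'.out (congrArg Subtype.val hqq)
    rw [← QuotientGroup.out_eq' q, ← QuotientGroup.out_eq' q', QuotientGroup.eq]
    exact mem_subgroupOf.2 h6
  have h6 : Nat.card K ≤ Nat.card (M ⊓ LG C W : Subgroup G) := by
    refine Nat.card_le_card_of_injective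
      (fun x : K => (⟨x.1.1, x.1.2.1, mem_subgroupOf.1 x.2⟩ : (M ⊓ LG C W : Subgroup G))) ?_
    intro x y hxy
    apply Subtype.ext
    apply Subtype.ext
    exact congrArg (Subtype.val : (M ⊓ LG C W : Subgroup G) → G) hxy
  -- a proper subgroup
  have h7 : 2 * Nat.card (M ⊓ LG C W : Subgroup G) ≤ Nat.card (LG C W) := by
    have hlt : ¬ LG C W ≤ M := by
      intro h
      apply hdR
      exact mem_RG_of_commute hW hr hE ⟨n, hn, v, hv, hd⟩ fun x hx => (hMd x (h hx)).symm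
    have h8 : (M ⊓ LG C W : Subgroup G) ≤ LG C W := inf_le_right
    obtain ⟨k, hk⟩ := Subgroup.card_dvd_of_le h8
    have hpos : 0 < Nat.card (LG C W) := Nat.card_pos
    have hk2 : 2 ≤ k := by
      by_contra hk2
      have : k = 0 ∨ k = 1 := by omega
      rcases this with rfl | rfl
      · omega
      · apply hlt
        have h9 := Subgroup.eq_of_le_of_card_ge h8 (by rw [hk, mul_one])
        rw [← h9]
        exact inf_le_left
    rw [hk, mul_comm]
    exact Nat.mul_le_mul_left _ hk2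
  rw [card_AG hW]
  have h8 : Nat.card ((M ⊓ N : Subgroup G) ⧸ K) * Nat.card K ≤ Nat.card W * Nat.card (M ⊓ LG C W : Subgroup G) :=
    Nat.mul_le_mul h5 h6
  have h9 : Nat.card W * (2 * Nat.card (M ⊓ LG C W : Subgroup G)) ≤ Nat.card W * Nat.card (LG C W) :=
    Nat.mul_le_mul_left _ h7
  have h10 : Nat.card W * (2 * Nat.card (M ⊓ LG C W : Subgroup G)) =
      2 * (Nat.card W * Nat.card (M ⊓ LG C W : Subgroup G)) := by ring
  rw [h4] at h1
  omega

end frame

omit [Finite V] [Finite G] in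
theorem b_mem_P0 (hW : Max C.S W) {a : C.L} (ha : a ∈ AW C.S W) : (a : G) ∈ P0 C W :=
  mem_P0.2 ⟨RG_le_HG ⟨0, zero_mem _, tr_a hW ha⟩, Lt a⟩

omit [Finite V] [Finite G] in
theorem t_mem_P0 : C.t ∈ P0 C W := mem_P0.2 ⟨t_mem_HG, rfl⟩

omit [Finite V] [Finite G] in
theorem conj_mem_AG {x : G} (hx : x ∈ P0 C W) {g : G} (hg : g ∈ AG C W) : x * g * x⁻¹ ∈ AG C W := by
  obtain ⟨⟨n, hn, v, hv, h1⟩, h2⟩ := mem_P0.1 hx
  obtain ⟨a, ha, rfl⟩ := mem_AG.1 hg
  have h3 : v = 0 := by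
    have h4 := h1 0 (zero_mem _)
    rw [C.b_zero, mul_one, map_zero, zero_add, h2, mul_inv_cancel_right] at h4
    apply C.b_inj
    rw [C.b_zero]
    have : C.t * 1 = C.t * C.b v := by rw [mul_one]; exact h4
    exact (mul_left_cancel this).symm
  subst h3
  obtain ⟨m, hm, hmn⟩ := Aff.exists_L h1
  have hmW : ∀ x, x ∈ W ↔ C.S.ρ m x ∈ W := by
    intro x
    constructor
    · intro hx
      rw [hmn x hx]
      exact (hn x).1 hx
    · intro hx
      have hx' : C.S.ρ n⁻¹ (C.S.ρ m x) ∈ W := (hn.inv _).1 hx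
      have h3 := hmn _ hx'
      rw [C.S.ρ_apply_inv] at h3
      have h4 := C.S.ρ_inj m h3
      rwa [← h4]
  refine mem_AG.2 ⟨m * a * m⁻¹, conj_mem_AW hmW ha, ?_⟩
  rcases hm with h4 | h4
  · rw [h4]; rfl
  · rw [h4]
    have h5 := Lt (C := C) (m * a * m⁻¹)
    calc C.t * m * a * (C.t * m)⁻¹ = C.t * ((m * a * m⁻¹ : C.L) : G) * C.t⁻¹ := by
          rw [Subgroup.coe_mul, Subgroup.coe_mul, Subgroup.coe_inv]; group
      _ = ((m * a * m⁻¹ : C.L) : G) * (C.t * C.t⁻¹) := by rw [← h5]; group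
      _ = _ := by rw [mul_inv_cancel, mul_one]

omit [Finite V] [Finite G] in
theorem isPGroup_AG (hW : Max C.S W) : IsPGroup 2 (AG C W) := by
  intro x
  refine ⟨1, ?_⟩
  obtain ⟨a, ha, h⟩ := mem_AG.1 x.2
  apply Subtype.ext
  rw [pow_one, pow_two]
  change (x : G) * x = 1
  rw [h]
  exact asq hW ha

omit [Finite V] in
/-- a Sylow 2-subgroup of `C_H(t)` contains `A` and `t` -/
theorem AG_le (hW : Max C.S W) {T : Subgroup G} (hT : IsSyl (P0 C W) T) : AG C W ≤ T := by
  apply hT.le_of_norm ?_ (isPGroup_AG hW)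
  · intro x hx g hg
    exact conj_mem_AG (hT.le hx) hg
  · intro g hg
    obtain ⟨a, ha, rfl⟩ := mem_AG.1 hg
    exact b_mem_P0 hW ha

omit [Finite V] in
theorem t_mem {T : Subgroup G} (hT : IsSyl (P0 C W) T) : C.t ∈ T := by
  have h1 : zpowers C.t ≤ T := by
    apply hT.le_of_norm ?_ ?_
    · intro x hx g hg
      have h2 := (mem_P0.1 (hT.le hx)).2
      obtain ⟨k, rfl⟩ := mem_zpowers_iff.1 hg
      have h3 : Commute x (C.t ^ k) := (show Commute x C.t from h2).zpow_right k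
      rw [h3.eq, mul_inv_cancel_right]
      exact hg
    · rw [zpowers_le]
      exact t_mem_P0
    · intro x
      refine ⟨1, ?_⟩
      apply Subtype.ext
      rw [pow_one, pow_two]
      change (x : G) * x = 1
      obtain ⟨k, hk⟩ := mem_zpowers_iff.1 x.2
      rw [← hk, ← mul_zpow_self_two C.tt k]
  exact h1 (mem_zpowers _)
where
  mul_zpow_self_two {t : G} (ht : t * t = 1) (k : ℤ) : (1 : G) = t ^ k * t ^ k := by
    rw [← zpow_add, ← two_mul, zpow_mul, zpow_two, ht, one_zpow]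

end Cfsg.Agent.OddHalf.SpTwoN.LongCount
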