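import Cfsg.Agent.OddHalf.SpTwoN.Section
import Cfsg.Agent.StdSpSix.QLevel

/-!
# Pattern "long only": the group `H` of the affine maps of `Ω` and its sign

`H` acts affinely on `Ω = {t b_x : x ∈ W}`; an element of `H` normalises the transversal `F`, or `t` times it does.
-/

set_option autoImplicit false

namespace Cfsg.Agent.OddHalf.SpTwoN.LongH

open Subgroup
open Cfsg.Agent.StandardComponent.SpTwo
open Cfsg.Agent.OddHalf.SpTwoN.Words Cfsg.Agent.OddHalf.SpTwoN.Iso Cfsg.Agent.OddHalf.SpTwoN.Transl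
open Cfsg.Agent.OddHalf.SpTwoN.Section

variable {G V : Type*} [Group G] [AddCommGroup V] [Module (ZMod 2) V]

/-- the sign of a subgroup of index two -/
noncomputable def sgn {H : Type*} [Group H] (N : Subgroup H) (hN : N.index = 2) : H →* ℤˣ :=
  open Classical in
  { toFun := fun h => if h ∈ N then 1 else -1
    map_one' := if_pos (one_mem N)
    map_mul' := by
      intro a b
      by_cases ha : a ∈ N <;> by_cases hb : b ∈ N
      · rw [if_pos ha, if_pos hb, if_pos (mul_mem ha hb), one_mul]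
      · rw [if_pos ha, if_neg hb, if_neg, one_mul]
        rw [mul_mem_iff_of_index_two hN]
        exact fun h => hb (h.1 ha)
      · rw [if_neg ha, if_pos hb, if_neg, mul_one]
        rw [mul_mem_iff_of_index_two hN]
        exact fun h => ha (h.2 hb)
      · rw [if_neg ha, if_neg hb, if_pos, neg_mul_neg, one_mul]
        rw [mul_mem_iff_of_index_two hN]
        exact ⟨fun h => absurd h ha, fun h => absurd h hb⟩ }

theorem sgn_eq_neg {H : Type*} [Group H] {N : Subgroup H} {hN : N.index = 2} {h : H} :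
    sgn N hN h = -1 ↔ h ∉ N := by
  classical
  change (if h ∈ N then (1 : ℤˣ) else -1) = -1 ↔ _
  by_cases hh : h ∈ N
  · rw [if_pos hh]
    simp only [hh, not_true_eq_false, iff_false]
    decide
  · rw [if_neg hh]
    simp only [hh, not_false_eq_true]

variable (C : Ctx G V) (W : Submodule (ZMod 2) V)

/-- the affine group -/
def HG : Subgroup G where
  carrier := {h | ∃ n : C.L, St W n ∧ ∃ v ∈ W, Aff C W n v h}
  one_mem' := by
    refine ⟨1, fun x => by rw [C.S.ρ_one], 0, zero_mem _, ?_⟩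
    exact aff_tr (fun x _ => by rw [add_zero]; group)
  mul_mem' := by
    rintro h k ⟨n, hn, v, hv, h1⟩ ⟨m, hm, w, hw, h2⟩
    exact ⟨n * m, hn.mul hm, _, add_mem ((hn w).1 hw) hv, h1.mul hm hw h2⟩
  inv_mem' := by
    rintro h ⟨n, hn, v, hv, h1⟩
    refine ⟨n⁻¹, hn.inv, C.S.ρ n⁻¹ v, (hn.inv v).1 hv, fun x hx => ?_⟩
    rw [inv_inv, h1.inv_apply hn hv hx, map_add]

/-- the translations -/
def RG : Subgroup G where
  carrier := {h | ∃ v ∈ W, Tr C W v h}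
  one_mem' := ⟨0, zero_mem _, fun x _ => by rw [add_zero]; group⟩
  mul_mem' := by
    rintro h k ⟨v, hv, h1⟩ ⟨w, hw, h2⟩
    exact ⟨v + w, add_mem hv hw, h1.mul hw h2⟩
  inv_mem' := by
    rintro h ⟨v, hv, h1⟩
    exact ⟨v, hv, h1.inv hv⟩

/-- `A_W` in `G` -/
def AG : Subgroup G := (AW C.S W).map C.L.subtype

/-- the alternating elements of `A_W` in `G` -/
def LG : Subgroup G := (LW C.S W).map C.L.subtype

variable {C W}

theorem mem_AG {g : G} : g ∈ AG C W ↔ ∃ a : C.L, a ∈ AW C.S W ∧ g = a := by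
  constructor
  · rintro ⟨a, ha, rfl⟩
    exact ⟨a, ha, rfl⟩
  · rintro ⟨a, ha, rfl⟩
    exact ⟨a, ha, rfl⟩

theorem RG_le_HG : RG C W ≤ HG C W := by
  rintro h ⟨v, hv, h1⟩
  exact ⟨1, fun x => by rw [C.S.ρ_one], v, hv, aff_tr h1⟩

theorem t_mem_RG : C.t ∈ RG C W := ⟨0, zero_mem _, tr_t⟩

theorem Tr.unique {v w : V} {k : G} (h1 : Tr C W v k) (h2 : Tr C W w k) : v = w := by
  apply C.b_inj
  have := h1.conj_t.symm.trans h2.conj_t
  exact mul_left_cancel this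

theorem conj_mem_RG {h k : G} (hh : h ∈ HG C W) (hk : k ∈ RG C W) : h * k * h⁻¹ ∈ RG C W := by
  obtain ⟨n, hn, v, hv, h1⟩ := hh
  obtain ⟨u, hu, h2⟩ := hk
  exact ⟨_, (hn u).1 hu, h1.conj_tr hn hv hu h2⟩

section fin

variable [Finite V]

theorem LW_le_AW (hW : Max C.S W) : LW C.S W ≤ AW C.S W := by
  rw [hW.AW_eq_GW]
  exact LW_le_GW

theorem δ_LW (hW : Max C.S W) {a : C.L} (ha : a ∈ LW C.S W) : δ C.S a = 0 := by
  induction ha using Subgroup.closure_induction with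
  | mem x hx =>
    obtain ⟨u, hu, w, hw, rfl⟩ := hx
    exact δ_sg (hW.perp hu hw)
  | one => exact δ_one
  | mul x y hx hy ihx ihy => rw [hW.δ_mul (LW_le_AW hW hx) (LW_le_AW hW hy), ihx, ihy, add_zero]
  | inv x hx ihx => rw [inv_of_sq (hW.sq (LW_le_AW hW hx)), ihx]

theorem mem_LG (hW : Max C.S W) {g : G} : g ∈ LG C W ↔ ∃ a : C.L, a ∈ AW C.S W ∧ δ C.S a = 0 ∧ g = a := by
  constructor
  · rintro ⟨a, ha, rfl⟩
    exact ⟨a, LW_le_AW hW ha, δ_LW hW ha, rfl⟩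
  · rintro ⟨a, ha, h0, rfl⟩
    exact ⟨a, hW.mem_LW ha h0, rfl⟩

/-- `|A| = |W| |Λ|` -/
theorem card_AG [Finite G] (hW : Max C.S W) : Nat.card (AG C W) = Nat.card W * Nat.card (LG C W) := by
  let f : AG C W →* Multiplicative W :=
    { toFun := fun g => Multiplicative.ofAdd ⟨δ C.S ⟨g, by
          obtain ⟨a, -, h⟩ := mem_AG.1 g.2
          rw [h]; exact a.2⟩, hW.δ_mem (by
          obtain ⟨a, ha, h⟩ := mem_AG.1 g.2
          have : (⟨g, by rw [h]; exact a.2⟩ : C.L) = a := Subtype.ext h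
          rw [this]; exact ha)⟩
      map_one' := by
        have : (⟨((1 : AG C W) : G), by rw [Subgroup.coe_one]; exact one_mem _⟩ : C.L) = 1 := rfl
        apply congrArg Multiplicative.ofAdd
        apply Subtype.ext
        exact δ_one
      map_mul' := by
        intro g h
        obtain ⟨a, ha, h1⟩ := mem_AG.1 g.2
        obtain ⟨c, hc, h2⟩ := mem_AG.1 h.2
        rw [← ofAdd_add]
        apply congrArg Multiplicative.ofAdd
        apply Subtype.ext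
        have e1 : (⟨g, by rw [h1]; exact a.2⟩ : C.L) = a := Subtype.ext h1
        have e2 : (⟨h, by rw [h2]; exact c.2⟩ : C.L) = c := Subtype.ext h2
        have e3 : (⟨((g * h : AG C W) : G), by rw [Subgroup.coe_mul, h1, h2]; exact mul_mem a.2 c.2⟩ : C.L) = a * c :=
          Subtype.ext (by rw [Subgroup.coe_mul, Subgroup.coe_mul, h1, h2])
        change δ C.S ⟨((g * h : AG C W) : G), _⟩ = δ C.S ⟨g, _⟩ + δ C.S ⟨h, _⟩
        rw [e1, e2, e3, hW.δ_mul ha hc] }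
  have hf : ∀ g : AG C W, ∀ h : (g : G) ∈ C.L, ((f g).toAdd : V) = δ C.S ⟨g, h⟩ := fun g h => rfl
  have h1 : Nat.card f.ker * Nat.card f.range = Nat.card (AG C W) := by
    rw [← index_ker, card_mul_index]
  have h2 : f.range = ⊤ := by
    rw [eq_top_iff]
    rintro w -
    have hw : ((w.toAdd : W) : V) ∈ W := w.toAdd.2
    refine ⟨⟨(C.S.τ (w.toAdd : V) : C.L), mem_AG.2 ⟨_, hW.τ_mem hw, rfl⟩⟩, ?_⟩
    apply Multiplicative.toAdd.injective
    apply Subtype.ext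
    rw [hf _ (C.S.τ (w.toAdd : V)).2]
    exact δ_τ _
  have h3 : Nat.card f.ker = Nat.card (LG C W) := by
    refine Nat.card_congr ⟨fun g => ⟨g.1.1, ?_⟩, fun g => ⟨⟨g.1, ?_⟩, ?_⟩, fun g => rfl, fun g => rfl⟩
    · obtain ⟨a, ha, h⟩ := mem_AG.1 g.1.2
      refine (mem_LG hW).2 ⟨a, ha, ?_, h⟩
      have h4 := g.2
      rw [MonoidHom.mem_ker] at h4
      have h5 : (f g.1).toAdd = 0 := by rw [h4]; rfl
      have h6 := hf g.1 (by rw [h]; exact a.2)
      have h7 : (⟨g.1.1, by rw [h]; exact a.2⟩ : C.L) = a := Subtype.ext h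
      rw [h7] at h6
      rw [← h6, h5]
      rfl
    · obtain ⟨a, ha, h0, h⟩ := (mem_LG hW).1 g.2
      exact mem_AG.2 ⟨a, ha, h⟩
    · obtain ⟨a, ha, h0, h⟩ := (mem_LG hW).1 g.2
      rw [MonoidHom.mem_ker]
      apply Multiplicative.toAdd.injective
      apply Subtype.ext
      rw [hf _ (by change (g : G) ∈ C.L; rw [h]; exact a.2)]
      have h7 : (⟨g.1, by rw [h]; exact a.2⟩ : C.L) = a := Subtype.ext h
      change δ C.S ⟨g.1, _⟩ = 0
      rw [h7, h0]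
  rw [← h1, h2, h3, Subgroup.card_top, mul_comm]
  rfl

variable {v0 v1 : V} {y0 y1 : G}

/-- the transversal as a subgroup -/
def FS (hW : Max C.S W) (hr : 4 ≤ Module.finrank (ZMod 2) W) (hE : ∀ v ∈ W, v ≠ 0 → ∃ y, E C W v y)
    (f : Frame C W v0 v1 y0 y1) : Subgroup G where
  carrier := {z | ∃ w, F C W y0 y1 w z}
  one_mem' := ⟨0, f.alt hW (one_mem _) δ_one⟩
  mul_mem' := by
    rintro z u ⟨w, hz⟩ ⟨x, hu⟩
    exact ⟨_, f.mul hW hr hE hz hu⟩
  inv_mem' := by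
    rintro z ⟨w, hz⟩
    refine ⟨w, ?_⟩
    rw [hz.2.1.inv]
    exact hz

omit [Finite V] in
/-- an affine map centralising `t` comes from `L` -/
theorem Aff.exists_L {n : C.L} {h : G} (h1 : Aff C W n 0 h) :
    ∃ m : C.L, (h = m ∨ h = C.t * m) ∧ ∀ x ∈ W, C.S.ρ m x = C.S.ρ n x := by
  have h2 := h1 0 (zero_mem _)
  rw [C.b_zero, mul_one, map_zero, zero_add, C.b_zero, mul_one] at h2
  have h3 : Commute h C.t := mul_inv_eq_iff_eq_mul.1 h2
  have h4 : ∀ x ∈ W, h * C.b x * h⁻¹ = C.b (C.S.ρ n x) := by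
    intro x hx
    have h5 := h1 x hx
    rw [add_zero] at h5
    have h6 : h * (C.t * C.b x) * h⁻¹ = (h * C.t * h⁻¹) * (h * C.b x * h⁻¹) := by group
    rw [h6, h2] at h5
    exact mul_left_cancel h5
  rcases (C.cent h).1 h3 with h5 | h5
  · refine ⟨⟨h, h5⟩, Or.inl rfl, fun x hx => ?_⟩
    apply C.b_inj
    rw [← h4 x hx, ← C.b_conj]
  · refine ⟨⟨C.t * h, h5⟩, Or.inr ?_, fun x hx => ?_⟩
    · change h = C.t * (C.t * h)
      rw [← mul_assoc, C.tt, one_mul]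
    · apply C.b_inj
      rw [← h4 x hx, ← C.b_conj]
      change C.t * h * C.b x * (C.t * h)⁻¹ = h * C.b x * h⁻¹
      have h6 : C.t * (h * C.b x * h⁻¹) = (h * C.b x * h⁻¹) * C.t := by
        rw [h4 x hx]
        exact (Lt (C := C) (C.S.τ _)).symm
      calc C.t * h * C.b x * (C.t * h)⁻¹ = C.t * (h * C.b x * h⁻¹) * C.t⁻¹ := by group
        _ = (h * C.b x * h⁻¹) * (C.t * C.t⁻¹) := by rw [h6]; group
        _ = _ := by rw [mul_inv_cancel, mul_one]

/-- the action of an affine map on `A_W` -/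
theorem Aff.conj_a (hW : Max C.S W) (hE : ∀ v ∈ W, v ≠ 0 → ∃ y, E C W v y) {n : C.L} {v : V} {h : G}
    (hn : St W n) (hv : v ∈ W) (h1 : Aff C W n v h) {a : C.L} (ha : a ∈ AW C.S W) :
    ∃ c : C.L, c ∈ AW C.S W ∧ h * (a : G) * h⁻¹ = c ∧ δ C.S c = C.S.ρ n (δ C.S a) := by
  have hk : ∃ k, Tr C W v k := by
    by_cases hv0 : v = 0
    · exact ⟨C.t, hv0 ▸ tr_t⟩
    · obtain ⟨y, hy⟩ := hE v hv hv0
      exact ⟨y, hy.1⟩
  obtain ⟨k, hk⟩ := hk
  have h2 : Aff C W n 0 (k⁻¹ * h) := by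
    have := (aff_tr (hk.inv hv)).mul hn hv h1
    rwa [C.S.ρ_one, aa, one_mul] at this
  obtain ⟨m, hm, hmn⟩ := Aff.exists_L h2
  have hmW : ∀ x, x ∈ W ↔ C.S.ρ m x ∈ W := by
    intro x
    constructor
    · intro hx
      rw [hmn x hx]
      exact (hn x).1 hx
    · intro hx
      -- `ρ m x = ρ n x'` with `x' ∈ W`
      have hx' : C.S.ρ n⁻¹ (C.S.ρ m x) ∈ W := (hn.inv _).1 hx
      have h3 := hmn _ hx'
      rw [C.S.ρ_apply_inv] at h3
      have h4 := C.S.ρ_inj m h3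
      rwa [← h4]
  have hc := conj_mem_AW hmW ha
  have h3 : (k⁻¹ * h) * (a : G) * (k⁻¹ * h)⁻¹ = ((m * a * m⁻¹ : C.L) : G) := by
    rcases hm with h4 | h4
    · rw [h4]; rfl
    · rw [h4]
      have h5 := Lt (C := C) (m * a * m⁻¹)
      calc C.t * m * a * (C.t * m)⁻¹ = C.t * ((m * a * m⁻¹ : C.L) : G) * C.t⁻¹ := by
            rw [Subgroup.coe_mul, Subgroup.coe_mul, Subgroup.coe_inv]; group
        _ = ((m * a * m⁻¹ : C.L) : G) * (C.t * C.t⁻¹) := by rw [← h5]; group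
        _ = _ := by rw [mul_inv_cancel, mul_one]
  have hδ : δ C.S (m * a * m⁻¹) = C.S.ρ n (δ C.S a) := by
    rw [δ_conj (hW.sq ha), hmn _ (hW.δ_mem ha)]
  refine ⟨(m * a * m⁻¹) * sg C.S v (δ C.S (m * a * m⁻¹)), mul_mem hc (sA hW hv (hW.δ_mem hc)), ?_, ?_⟩
  · have h4 := hk.conj_a hW hv hc
    calc h * (a : G) * h⁻¹ = k * ((k⁻¹ * h) * (a : G) * (k⁻¹ * h)⁻¹) * k⁻¹ := by group
      _ = _ := by rw [h3, h4]; rfl
  · rw [hW.δ_mul hc (sA hW hv (hW.δ_mem hc)), δ_sg (hW.perp hv (hW.δ_mem hc)), add_zero, hδ]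

/-- conjugation maps `F` to `F` as soon as it does so for one element -/
theorem pres_of (hW : Max C.S W) (hr : 4 ≤ Module.finrank (ZMod 2) W) (hE : ∀ v ∈ W, v ≠ 0 → ∃ y, E C W v y)
    (f : Frame C W v0 v1 y0 y1) {n : C.L} {v : V} {h : G} (hn : St W n) (hv : v ∈ W) (h1 : Aff C W n v h)
    (h0 : F C W y0 y1 (C.S.ρ n v0) (h * y0 * h⁻¹)) {w : V} {z : G} (hz : F C W y0 y1 w z) :
    F C W y0 y1 (C.S.ρ n w) (h * z * h⁻¹) := by
  have ne0 : ∀ {x : V}, x ≠ 0 → C.S.ρ n x ≠ 0 := by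
    intro x hx h
    apply hx
    apply C.S.ρ_inj n
    rw [h, map_zero]
  have hne : C.S.ρ n v0 ≠ C.S.ρ n v1 := fun h => f.ne (C.S.ρ_inj n h)
  have hcomm : ∀ {a c : G}, Commute a c → Commute (h * a * h⁻¹) (h * c * h⁻¹) := by
    intro a c hac
    have : a * c = c * a := hac
    change h * a * h⁻¹ * (h * c * h⁻¹) = h * c * h⁻¹ * (h * a * h⁻¹)
    calc h * a * h⁻¹ * (h * c * h⁻¹) = h * (a * c) * h⁻¹ := by group
      _ = _ := by rw [this]; group
  -- the second vector of the frame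
  have h2 : F C W y0 y1 (C.S.ρ n v1) (h * y1 * h⁻¹) := by
    obtain ⟨f1, hf1⟩ := f.exists_mem hW hr hE ((hn v1).1 f.h1)
    obtain ⟨a, ha, h3, h4⟩ := hf1.2.1.same hW hf1.1 (ne0 f.n1) (h1.conj_E hn hv f.h1 f.e1)
    have h5 : Commute (a : G) (h * y0 * h⁻¹) := by
      have h6 : (a : G) = f1 * (h * y1 * h⁻¹) := by rw [h3, ← mul_assoc, hf1.2.1.2, one_mul]
      rw [h6]
      exact (f.commute hW hr hE hf1 h0).mul_left (hcomm f.comm.symm)
    have h7 : δ C.S a = 0 := by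
      rcases h4 with h4 | h4
      · exact h4
      · rcases δ_of_commute hW h0.1 (ne0 f.n0) h0.2.1 ha h5 with h8 | h8
        · exact h8
        · exact absurd (h8.symm.trans h4) hne
    rw [h3]
    have := f.mul hW hr hE hf1 (f.alt hW ha h7)
    rwa [add_zero] at this
  obtain ⟨g, hg⟩ := f.change hW hr hE h0 h2 (ne0 f.n0) (ne0 f.n1) hne
  rw [← hg]
  exact ⟨(hn w).1 hz.1, h1.conj_E hn hv hz.1 hz.2.1, hcomm hz.2.2.1, hcomm hz.2.2.2⟩

omit [Finite V] in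
/-- `t` times an affine map -/
theorem Aff.t_mul {n : C.L} {v : V} {h : G} (hn : St W n) (hv : v ∈ W) (h1 : Aff C W n v h) :
    Aff C W n v (C.t * h) := by
  have := (aff_tr (tr_t (C := C) (W := W))).mul hn hv h1
  rwa [C.S.ρ_one, add_zero, one_mul] at this

/-- **dichotomy** -/
theorem dichotomy (hW : Max C.S W) (hr : 4 ≤ Module.finrank (ZMod 2) W)
    (hE : ∀ v ∈ W, v ≠ 0 → ∃ y, E C W v y) (f : Frame C W v0 v1 y0 y1) {n : C.L} {v : V} {h : G}
    (hn : St W n) (hv : v ∈ W) (h1 : Aff C W n v h) :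
    (∀ w z, F C W y0 y1 w z → F C W y0 y1 (C.S.ρ n w) (h * z * h⁻¹)) ∨
    (∀ w z, F C W y0 y1 w z → F C W y0 y1 (C.S.ρ n w) (C.t * h * z * (C.t * h)⁻¹)) := by
  have hnv0 : C.S.ρ n v0 ≠ 0 := by
    intro h
    apply f.n0
    apply C.S.ρ_inj n
    rw [h, map_zero]
  obtain ⟨f0, hf0⟩ := f.exists_mem hW hr hE ((hn v0).1 f.h0)
  obtain ⟨a, ha, h3, h4⟩ := hf0.2.1.same hW hf0.1 hnv0 (h1.conj_E hn hv f.h0 f.e0)
  rcases h4 with h4 | h4
  · left
    intro w z hz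
    refine pres_of hW hr hE f hn hv h1 ?_ hz
    rw [h3]
    have := f.mul hW hr hE hf0 (f.alt hW ha h4)
    rwa [add_zero] at this
  · right
    intro w z hz
    refine pres_of hW hr hE f hn hv (Aff.t_mul hn hv h1) ?_ hz
    have h5 := hf0.2.1.t_conj
    have h6 := Lt (C := C) a
    have hb := hW.τ_mem hf0.1
    have h7 : C.t * h * y0 * (C.t * h)⁻¹ = f0 * ((C.S.τ (C.S.ρ n v0) * a : C.L) : G) := by
      calc C.t * h * y0 * (C.t * h)⁻¹ = C.t * (h * y0 * h⁻¹) * C.t⁻¹ := by group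
        _ = C.t * f0 * (a * C.t) := by rw [h3, C.t_inv]; group
        _ = C.t * f0 * (C.t * a) := by rw [h6]
        _ = (C.t * f0 * C.t) * a := by group
        _ = f0 * C.b (C.S.ρ n v0) * a := by rw [h5]
        _ = _ := by rw [mul_assoc]; rfl
    rw [h7]
    have h8 : δ C.S (C.S.τ (C.S.ρ n v0) * a) = 0 := by
      rw [hW.δ_mul hb ha, δ_τ, h4, aa]
    have := f.mul hW hr hE hf0 (f.alt hW (mul_mem hb ha) h8)
    rwa [add_zero] at this

/-- `t` does not normalise `F` -/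
theorem t_not_pres (hW : Max C.S W) (f : Frame C W v0 v1 y0 y1) {w : V} :
    ¬ F C W y0 y1 w (C.t * y0 * C.t⁻¹) := by
  intro h
  rw [C.t_inv, f.e0.t_conj] at h
  have hb := hW.τ_mem f.h0
  have h1 : Tr C W v0 (y0 * C.b v0) := (f.e0.mul_a hW f.h0 hb (Or.inr (δ_τ v0))).1
  have h2 : v0 = w := Tr.unique h1 h.2.1.1
  subst h2
  obtain ⟨a, ha, ha0, h3⟩ := f.same hW f.F0 h
  have h4 := mul_left_cancel h3
  have h5 : C.S.τ v0 = a := Subtype.ext h4
  rw [← h5, δ_τ] at ha0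
  exact f.n0 ha0

variable [Finite G]

/-- the stabiliser of `F` in `H` -/
def H1 (hW : Max C.S W) (hr : 4 ≤ Module.finrank (ZMod 2) W) (hE : ∀ v ∈ W, v ≠ 0 → ∃ y, E C W v y)
    (f : Frame C W v0 v1 y0 y1) : Subgroup (HG C W) :=
  (normalizer (FS hW hr hE f : Set G)).subgroupOf (HG C W)

theorem mem_H1_iff (hW : Max C.S W) (hr : 4 ≤ Module.finrank (ZMod 2) W)
    (hE : ∀ v ∈ W, v ≠ 0 → ∃ y, E C W v y) (f : Frame C W v0 v1 y0 y1) {h : HG C W} :
    h ∈ H1 hW hr hE f ↔ ∀ w z, F C W y0 y1 w z → ∃ x, F C W y0 y1 x (h * z * (h : G)⁻¹) := by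
  rw [H1, mem_subgroupOf]
  constructor
  · intro h1 w z hz
    exact (mem_normalizer_iff.1 h1 z).1 ⟨w, hz⟩
  · intro h1
    rw [mem_normalizer_iff]
    have h2 : (FS hW hr hE f).map (MulAut.conj (h : G)).toMonoidHom ≤ FS hW hr hE f := by
      rintro _ ⟨z, ⟨w, hz⟩, rfl⟩
      exact h1 w z hz
    have h3 : (FS hW hr hE f).map (MulAut.conj (h : G)).toMonoidHom = FS hW hr hE f := by
      apply Subgroup.eq_of_le_of_card_ge h2
      rw [Subgroup.card_map_of_injective (MulAut.conj (h : G)).injective]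
    intro z
    constructor
    · intro hz
      rw [← h3]
      exact ⟨z, hz, rfl⟩
    · intro hz
      rw [← h3] at hz
      obtain ⟨u, hu, h4⟩ := hz
      have h5 : (h : G) * u * (h : G)⁻¹ = h * z * (h : G)⁻¹ := h4
      have h6 := mul_left_cancel (mul_right_cancel h5)
      rw [← h6]
      exact hu

omit [Finite V] [Finite G] in
theorem t_mem_HG : C.t ∈ HG C W := RG_le_HG t_mem_RG

theorem t_notMem (hW : Max C.S W) (hr : 4 ≤ Module.finrank (ZMod 2) W)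
    (hE : ∀ v ∈ W, v ≠ 0 → ∃ y, E C W v y) (f : Frame C W v0 v1 y0 y1) :
    (⟨C.t, t_mem_HG⟩ : HG C W) ∉ H1 hW hr hE f := by
  rw [mem_H1_iff]
  intro h
  obtain ⟨x, hx⟩ := h v0 y0 f.F0
  exact t_not_pres hW f hx

theorem index_H1 (hW : Max C.S W) (hr : 4 ≤ Module.finrank (ZMod 2) W)
    (hE : ∀ v ∈ W, v ≠ 0 → ∃ y, E C W v y) (f : Frame C W v0 v1 y0 y1) : (H1 hW hr hE f).index = 2 := by
  rw [index_eq_two_iff']
  refine ⟨⟨C.t, t_mem_HG⟩, fun h => ?_⟩
  have ht := t_notMem hW hr hE f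
  by_cases hh : h ∈ H1 hW hr hE f
  · right
    refine ⟨hh, fun h1 => ht ?_⟩
    have := mul_mem h1 (inv_mem hh)
    rwa [mul_inv_cancel_right] at this
  · left
    refine ⟨?_, hh⟩
    obtain ⟨n, hn, v, hv, h1⟩ := h.2
    rcases dichotomy hW hr hE f hn hv h1 with h2 | h2
    · exact absurd ((mem_H1_iff hW hr hE f).2 fun w z hz => ⟨_, h2 w z hz⟩) hh
    · exact (mem_H1_iff hW hr hE f).2 fun w z hz => ⟨_, h2 w z hz⟩

end fin

end Cfsg.Agent.OddHalf.SpTwoN.LongH
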