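import Cfsg.Agent.OddHalf.SpTwoN.Defs
import Cfsg.Agent.ClassicalGeometry.SympBasic

/-!
# The concrete group `Sp_2m(2)` as a `SpData`
-/

set_option autoImplicit false

open Cfsg
open scoped Matrix

namespace Cfsg.Agent.OddHalf.SpTwoN.Model

open Cfsg.Agent.StandardComponent.SpTwo Cfsg.Agent.ClassicalGeometry.SympBasic
open Cfsg.Agent.OddHalf.SpTwoN

/-- `Sp_2m(2)` -/
abbrev X (m : ℕ) := Matrix.symplecticGroup (Fin m) (ZMod 2)

/-- the space -/
abbrev W (m : ℕ) := Fin m ⊕ Fin m → ZMod 2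

variable {m : ℕ}

/-- `Sp_2m(2)` with its natural module. -/
noncomputable def data (m : ℕ) : SpData (X m) (W m) where
  B := sympBilin m (ZMod 2)
  ρ :=
    { toFun := fun g => Matrix.mulVecLin (g : Matrix (Fin m ⊕ Fin m) (Fin m ⊕ Fin m) (ZMod 2))
      map_one' := Matrix.mulVecLin_one
      map_mul' := fun g h => Matrix.mulVecLin_mul _ _ }
  alt v := sympForm_self v
  nondeg v h := eq_zero_of_forall_sympForm_right h
  inv g u v := sympForm_mulVec g.2 u v
  inj g h hgh := by
    apply Subtype.ext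
    rw [← Matrix.mulVec_injective.eq_iff]
    funext v
    exact LinearMap.congr_fun hgh v
  τ w := transv w 1
  hτ w v := by
    change (transv w 1 : Matrix (Fin m ⊕ Fin m) (Fin m ⊕ Fin m) (ZMod 2)) *ᵥ v = v + sympForm m (ZMod 2) v w • w
    rw [coe_transv, sympTransvection_mulVec, one_mul]

theorem full (f : W m →ₗ[ZMod 2] W m) (hf : ∀ u v, (data m).B (f u) (f v) = (data m).B u v) :
    ∃ x, (data m).ρ x = f := by
  refine ⟨⟨LinearMap.toMatrix' f, mem_symplecticGroup_iff.2 fun u v => ?_⟩, LinearMap.ext fun v => ?_⟩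
  · rw [LinearMap.toMatrix'_mulVec, LinearMap.toMatrix'_mulVec]
    exact hf u v
  · change LinearMap.toMatrix' f *ᵥ v = f v
    rw [LinearMap.toMatrix'_mulVec]

theorem card_V : Nat.card (W m) = 2 ^ (2 * m) := by
  rw [Nat.card_eq_fintype_card, Fintype.card_fun, ZMod.card, Fintype.card_sum, Fintype.card_fin, two_mul]

theorem card_V_ge (hm : 4 ≤ m) : 256 ≤ Nat.card (W m) := by
  rw [card_V]
  calc 256 = 2 ^ 8 := by norm_num
    _ ≤ 2 ^ (2 * m) := Nat.pow_le_pow_right (by norm_num) (by omega)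

end Cfsg.Agent.OddHalf.SpTwoN.Model
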