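import Cfsg.Agent.OddHalf.SpTwoN.Model
import Cfsg.Agent.OddHalf.SpTwo.Start
import Cfsg.Agent.OddHalf.D4.Sp2.Inst
import Cfsg.Agent.OddHalf.D7Out.FrGen
import Cfsg.Agent.OddHalf.D7Out.Front
import Cfsg.Agent.OddHalf.D7Out.Iso
import Cfsg.Agent.OddHalf.D7.Cases

/-!
# From a standard subgroup `Sp_2n(2)` to the context `Ctx`

`exists_ctx`: `G` perfect, `t`, `q`, `K` as in the starting position (`Front.FE.Start`), `K` the full symplectic group over
`F₂` of dimension at least 8, all automorphisms of `K` inner. Then `C_G(t) = ⟨t⟩ × K` (`Ctx`) and for a Sylow 2-subgroup `P`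
of `K`, stabilising the flag `⟨v⟩ < ⟨v, w⟩`, some `n` normalises `⟨t⟩ × P` and `n t n⁻¹ = t z`, `z` one of `b_v`, `s_{v,w}`,
`b_v s_{v,w}`.
-/

set_option autoImplicit false

namespace Cfsg.Agent.OddHalf.SpTwoN.OfStd

open Subgroup Cfsg.Agent.StandardComponent.SpTwo Cfsg.Agent.OddHalf Cfsg.Agent.OddHalf.SpTwo
open Cfsg.Agent.OddHalf.SpTwoN

section

variable {G : Type*} [Group G] {K : Subgroup G} {t r₀ : G}

/-- `C(t) = R × K` -/
theorem exists_dec (S : Front.FE.Start0 K t r₀) (inner : ∀ α : MulAut K, ∃ x, α = MulAut.conj x) {c : G}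
    (hc : c * t = t * c) : ∃ r ∈ zpowers r₀, ∃ k ∈ K, c = r * k := by
  obtain ⟨x, hx⟩ := inner (D7Out.FrGen.cjK (S.nK c hc))
  have hr : c * (x : G)⁻¹ ∈ zpowers r₀ := by
    apply S.cK
    · have h1 := S.Kt x x.2
      have h2 : (x : G)⁻¹ * t = t * (x : G)⁻¹ := by
        rw [inv_mul_eq_iff_eq_mul, ← mul_assoc, h1, mul_inv_cancel_right]
      rw [mul_assoc, h2, ← mul_assoc, hc, mul_assoc]
    · intro k hk
      have h1 : c * k * c⁻¹ = x * k * (x : G)⁻¹ :=
        congrArg Subtype.val (DFunLike.congr_fun hx (⟨k, hk⟩ : K))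
      have h2 : ((x : G)⁻¹ * k * x) ∈ K := K.mul_mem (K.mul_mem (K.inv_mem x.2) hk) x.2
      have h3 : c * ((x : G)⁻¹ * k * x) * c⁻¹ = x * ((x : G)⁻¹ * k * x) * (x : G)⁻¹ :=
        congrArg Subtype.val (DFunLike.congr_fun hx (⟨_, h2⟩ : K))
      calc k * (c * (x : G)⁻¹) = x * ((x : G)⁻¹ * k * x) * (x : G)⁻¹ * c * (x : G)⁻¹ := by group
        _ = c * ((x : G)⁻¹ * k * x) * c⁻¹ * c * (x : G)⁻¹ := by rw [h3]
        _ = c * (x : G)⁻¹ * k := by group
  exact ⟨_, hr, x, x.2, by group⟩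

theorem t_notMem (S : Front.FE.Start K t r₀) : t ∉ K := fun h => S.t1 (S.cen t h fun y hy => S.Kt y hy)

theorem K_inf_R (S : Front.FE.Start K t r₀) {x : G} (hx : x ∈ K) (hr : x ∈ zpowers r₀) : x = 1 :=
  S.cen x hx fun y hy => S.QK x hr y hy

/-- the commutator of two elements of `C(t)` lies in `K` -/
theorem comm_mem (S : Front.FE.Start0 K t r₀) (inner : ∀ α : MulAut K, ∃ x, α = MulAut.conj x) {a b : G}
    (ha : a * t = t * a) (hb : b * t = t * b) : a * b * a⁻¹ * b⁻¹ ∈ K := by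
  obtain ⟨r, hr, k, hk, rfl⟩ := exists_dec S inner ha
  obtain ⟨r', hr', k', hk', rfl⟩ := exists_dec S inner hb
  have h1 : k' * r = r * k' := S.QK r hr k' hk'
  have h2 : k * r' = r' * k := S.QK r' hr' k hk
  have h3 : r * r' = r' * r := by
    obtain ⟨i, rfl⟩ := mem_zpowers_iff.1 hr
    obtain ⟨j, rfl⟩ := mem_zpowers_iff.1 hr'
    rw [← zpow_add, ← zpow_add, add_comm]
  have e : r * k * (r' * k') * (r * k)⁻¹ * (r' * k')⁻¹ = k * k' * k⁻¹ * k'⁻¹ := by
    have e1 : r * k * (r' * k') = r * r' * (k * k') := by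
      calc r * k * (r' * k') = r * (k * r') * k' := by group
        _ = _ := by rw [h2]; group
    have e2 : (r * k)⁻¹ * (r' * k')⁻¹ = (k' * k)⁻¹ * (r * r')⁻¹ := by
      calc (r * k)⁻¹ * (r' * k')⁻¹ = (r' * (k' * r) * k)⁻¹ := by group
        _ = ((r' * r) * (k' * k))⁻¹ := by rw [h1]; group
        _ = _ := by rw [← h3]; group
    have h4 : ∀ y ∈ K, y * (r * r') = r * r' * y := fun y hy => by
      rw [← mul_assoc, S.QK r hr y hy, mul_assoc, S.QK r' hr' y hy, ← mul_assoc]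
    calc r * k * (r' * k') * (r * k)⁻¹ * (r' * k')⁻¹ = r * k * (r' * k') * ((r * k)⁻¹ * (r' * k')⁻¹) := by group
      _ = r * r' * (k * k' * (k' * k)⁻¹) * (r * r')⁻¹ := by rw [e1, e2]; group
      _ = k * k' * (k' * k)⁻¹ := by
        rw [← h4 _ (K.mul_mem (K.mul_mem hk hk') (K.inv_mem (K.mul_mem hk' hk)))]; group
      _ = _ := by group
  rw [e]
  exact K.mul_mem (K.mul_mem (K.mul_mem hk hk') (K.inv_mem hk)) (K.inv_mem hk')

/-- `t` is not conjugate to an element of `[P, P]` centralised by `P` -/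
theorem not_conj (S : Front.FE.Start K t r₀) (inner : ∀ α : MulAut K, ∃ x, α = MulAut.conj x) {P : Subgroup G} {g : G}
    (h1 : g * t * g⁻¹ ∈ ⁅P, P⁆) (h2 : ∀ x ∈ P, g * t * g⁻¹ * x = x * (g * t * g⁻¹)) : False := by
  apply t_notMem S
  have hle : ⁅P, P⁆ ≤ K.map (MulAut.conj g).toMonoidHom := by
    rw [commutator_le]
    intro a ha b hb
    have key : ∀ x ∈ P, g⁻¹ * x * g * t = t * (g⁻¹ * x * g) := by
      intro x hx
      calc g⁻¹ * x * g * t = g⁻¹ * (x * (g * t * g⁻¹)) * g := by group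
        _ = g⁻¹ * (g * t * g⁻¹ * x) * g := by rw [h2 x hx]
        _ = _ := by group
    refine ⟨_, comm_mem S.toStart0 inner (key a ha) (key b hb), ?_⟩
    change g * (g⁻¹ * a * g * (g⁻¹ * b * g) * (g⁻¹ * a * g)⁻¹ * (g⁻¹ * b * g)⁻¹) * g⁻¹ = a * b * a⁻¹ * b⁻¹
    group
  obtain ⟨x, hx, hxt⟩ := hle h1
  have hxt' : g * x * g⁻¹ = g * t * g⁻¹ := hxt
  rw [← mul_left_cancel (mul_right_cancel hxt')]
  exact hx

end

section

variable {G V : Type*} [Group G] [AddCommGroup V] [Module (ZMod 2) V] {K : Subgroup G} {t r₀ : G}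

/-- **The context**: `C_G(t) = ⟨t⟩ × K` and an element of `N(T)` moving `t`. -/
theorem exists_ctx [Finite G] [Finite V] (hG : commutator G = ⊤) (S : Front.FE.Start K t r₀) (D : SpData K V)
    (full : ∀ f : V →ₗ[ZMod 2] V, (∀ u v, D.B (f u) (f v) = D.B u v) → ∃ x, D.ρ x = f)
    (h256 : 256 ≤ Nat.card V) (inner : ∀ α : MulAut K, ∃ x, α = MulAut.conj x) :
    ∃ C : Ctx G V, ∃ (P : Sylow 2 C.L) (v w : V) (f e : ZMod 2) (n : G), v ≠ 0 ∧ C.S.B v w = 0 ∧ w ∉ ln v ∧
      (P : Subgroup C.L) ≤ PU C.S (ln v) ∧ (P : Subgroup C.L) ≤ PU C.S (pl v w) ∧ (f ≠ 0 ∨ e ≠ 0) ∧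
      (TX C (P : Subgroup C.L)).map (MulAut.conj n).toMonoidHom = TX C (P : Subgroup C.L) ∧
      n * C.t * n⁻¹ = C.t * (q C.S v (f • w) e : C.L) := by
  classical
  have : Fact (Nat.Prime 2) := ⟨Nat.prime_two⟩
  obtain ⟨P⟩ : Nonempty (Sylow 2 K) := inferInstance
  obtain ⟨v, w, hv, hvw, hw, hP1, hP2⟩ := exists_flag D h256 P
  have hQ1 : QU D (ln v) ≤ P := QU_le_of_sylow D P (ln_ti D v) hP1
  have hQ2 : QU D (pl v w) ≤ P := QU_le_of_sylow D P (pl_ti D hvw) hP2
  have hcen : ∀ z : K, (∀ s ∈ (P : Subgroup K), z * s = s * z) → ∃ f e : ZMod 2, z = q D v (f • w) e :=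
    fun z hz => of_commute_S D h256 hv hvw hw hQ1 hQ2 hz
  obtain ⟨U, hUdef⟩ : ∃ U : Subgroup G, U = (P : Subgroup K).map K.subtype := ⟨_, rfl⟩
  have memU : ∀ {x : G}, x ∈ U ↔ ∃ hx : x ∈ K, (⟨x, hx⟩ : K) ∈ (P : Subgroup K) := by
    intro x
    rw [hUdef]
    exact D7Out.FrGen.mem_map
  have hUp : IsPGroup 2 U := by rw [hUdef]; exact P.isPGroup'.map _
  have hUK : U ≤ K := fun x hx => (memU.1 hx).1
  have hUm : ∀ Q : Subgroup G, IsPGroup 2 Q → U ≤ Q → Q ≤ K → Q ≤ U := by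
    intro Q hQ hle hQK
    have h1 : IsPGroup 2 (Q.subgroupOf K) := hQ.comap_of_injective K.subtype K.subtype_injective
    have h2 := P.is_maximal' h1 (fun x hx => by
      rw [mem_subgroupOf]
      exact hle (memU.2 ⟨x.2, hx⟩))
    intro x hx
    refine memU.2 ⟨hQK hx, ?_⟩
    have h3 : (⟨x, hQK hx⟩ : K) ∈ Q.subgroupOf K := hx
    rw [h2] at h3
    exact h3
  -- the centre of `U`
  have hcU : ∀ z : G, ∀ hz : z ∈ K, (∀ u ∈ U, z * u = u * z) → ∃ f e : ZMod 2, (⟨z, hz⟩ : K) = q D v (f • w) e := by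
    intro z hz h
    apply hcen
    intro s hs
    exact Subtype.ext (h s (memU.2 ⟨s.2, hs⟩))
  have hcom : ∀ z : G, z ∈ K → (∀ u ∈ U, z * u = u * z) → z ∈ ⁅U, U⁆ := by
    intro z hz h
    obtain ⟨f, e, hfe⟩ := hcU z hz h
    have h1 : (⟨z, hz⟩ : K) ∈ ⁅(P : Subgroup K), (P : Subgroup K)⁆ := by
      rw [hfe]
      exact mem_commutator D h256 hv hvw hw hQ1 hQ2 f e
    rw [hUdef, ← map_commutator]
    exact ⟨_, h1, rfl⟩
  have hsq : ∀ z : G, z ∈ K → (∀ u ∈ U, z * u = u * z) → z * z = 1 := by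
    intro z hz h
    obtain ⟨f, e, hfe⟩ := hcU z hz h
    have h1 : D.B (f • w) v = 0 := by
      rw [D.symm, map_smul, hvw, smul_zero]
    have h2 := q_sq D h1 e
    rw [← hfe] at h2
    exact congrArg Subtype.val h2
  obtain ⟨T, pT, vT, tc, max, hTK⟩ := D7Out.FrGen.exists_T S.toStart0 hUp hUK hUm
  have hRT : zpowers r₀ ≤ T := zpowers_le.2 vT
  have memTK : ∀ {x : G}, x ∈ T → x ∈ K → x ∈ U := fun hx hK => by
    rw [← hTK]
    exact ⟨hx, hK⟩
  have hUT : U ≤ T := by
    rw [← hTK]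
    exact inf_le_left
  have hdec : ∀ x ∈ T, ∃ r ∈ zpowers r₀, ∃ k ∈ U, x = r * k := by
    intro x hx
    obtain ⟨r, hr, k, hk, rfl⟩ := exists_dec S.toStart0 inner (tc x hx)
    refine ⟨r, hr, k, memTK ?_ hk, rfl⟩
    have h1 := T.mul_mem (T.inv_mem (hRT hr)) hx
    rwa [inv_mul_cancel_left] at h1
  have hnotz : ∀ g : G, g * t * g⁻¹ ∈ K → (∀ u ∈ U, g * t * g⁻¹ * u = u * (g * t * g⁻¹)) → False := by
    intro g hg hc
    exact not_conj S inner (hcom _ hg hc) hc
  -- the isolated case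
  have hIso : ¬ D7Out.Defs.Iso t T := by
    intro hiso
    have hI : D7Out.Iso.Isol t r₀ K T :=
      { t1 := S.t1
        tt := S.tt
        tv := S.tQ
        pv := S.pQ
        vn := by
          intro m hm
          apply S.cK
          · have h1 := S.Qt r₀ (mem_zpowers r₀)
            have h2 : m⁻¹ * t = t * m⁻¹ := by
              rw [inv_mul_eq_iff_eq_mul, ← mul_assoc, hm, mul_inv_cancel_right]
            calc m * r₀ * m⁻¹ * t = m * r₀ * (m⁻¹ * t) := by group
              _ = m * (r₀ * t) * m⁻¹ := by rw [h2]; group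
              _ = m * t * r₀ * m⁻¹ := by rw [h1]; group
              _ = t * (m * r₀ * m⁻¹) := by rw [hm]; group
          · intro k hk
            have hmN := S.nK m hm
            have h1 : m⁻¹ * k * m ∈ K := by
              apply (mem_normalizer_iff.1 hmN (m⁻¹ * k * m)).2
              have e : m * (m⁻¹ * k * m) * m⁻¹ = k := by group
              rw [e]; exact hk
            have h2 := S.qK _ h1
            calc k * (m * r₀ * m⁻¹) = m * (m⁻¹ * k * m * r₀) * m⁻¹ := by group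
              _ = m * (r₀ * (m⁻¹ * k * m)) * m⁻¹ := by rw [h2]
              _ = m * r₀ * m⁻¹ * k := by group
        kn := fun m hm x hx => (mem_normalizer_iff.1 (S.nK m hm) x).1 hx
        kv := S.qK
        inf := fun x hx hr => K_inf_R S hx hr
        pT := pT
        vT := vT
        tc := tc
        max := max
        t1s := by
          intro x hx _
          obtain ⟨r, hr, k, hk, rfl⟩ := hdec x hx
          exact ⟨r, hr, k, hUK hk, rfl⟩
        notz := by
          intro g _ hg hc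
          exact hnotz g hg fun u hu => hc u (hUT hu) (hUK hu)
        iso := hiso }
    refine D7Out.Iso.Isol.false_of_cyc hI hG (one_mem T) ?_
    intro x hx
    obtain ⟨r, hr, k, hk, rfl⟩ := hdec x hx
    obtain ⟨j, rfl⟩ := mem_zpowers_iff.1 hr
    exact ⟨0, j, k, hUT hk, hUK hk, by rw [zpow_zero, one_mul]⟩
  -- the frame
  have hFr : D7Out.Defs.Fr t r₀ K U (U ⊓ centralizer (U : Set G)) T :=
    { tt := S.tt
      t1 := S.t1
      pR := S.pQ
      tR := S.tQ
      nK := S.nK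
      vK := S.qK
      cK := S.cK
      KR := fun x hx hr => K_inf_R S hx hr
      pT := pT
      vT := vT
      tc := tc
      max := max
      U_eq := hTK.symm
      ZU := inf_le_left
      Zc := fun z hz u hu => mem_centralizer_iff.1 hz.2 u hu
      Zsq := fun z hz => hsq z (hUK hz.1) fun u hu => (mem_centralizer_iff.1 hz.2 u hu).symm
      Z1 := by
        intro h0
        have h1 : D.τ v ∈ QU D (ln v) := τ_mem_QU D (ln_ti D v) (self_mem_ln v)
        have h2 : ∀ s ∈ (P : Subgroup K), D.τ v * s = s * D.τ v := by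
          intro s hs
          have h3 := (mem_PU_ln D hv).1 (hP1 hs)
          exact ((commute_τ_iff D).2 h3).symm
        have h4 : ((D.τ v : K) : G) ∈ U ⊓ centralizer (U : Set G) := by
          refine ⟨memU.2 ⟨(D.τ v).2, hQ1 h1⟩, mem_centralizer_iff.2 fun u hu => ?_⟩
          obtain ⟨huK, huP⟩ := memU.1 hu
          exact (congrArg Subtype.val (h2 ⟨u, huK⟩ huP)).symm
        rw [h0, mem_bot] at h4
        have h5 : D.τ v = 1 := Subtype.ext h4
        exact hv (by simpa using D.τ_injective (h5.trans D.τ_zero.symm))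
      cU := by
        intro x hx hxU
        obtain ⟨r, hr, k, hk, rfl⟩ := hdec x hx
        refine ⟨r, hr, k, ⟨hk, mem_centralizer_iff.2 fun u hu => ?_⟩, rfl⟩
        have h1 := hxU u hu
        have h2 := S.QK r hr u (hUK hu)
        have h3 : r * (k * u) = r * (u * k) := by
          calc r * (k * u) = r * k * u := by group
            _ = u * r * k := by rw [h1]; group
            _ = r * (u * k) := by rw [h2]; group
        exact (mul_left_cancel h3).symm
      nconj := by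
        intro z hz g hg
        apply hnotz g
        · rw [hg]; exact hUK hz.1
        · intro u hu
          rw [hg]
          exact (mem_centralizer_iff.1 hz.2 u hu).symm }
  obtain ⟨⟨n, hnN, z, hz, hz1, -, hnt⟩, hR⟩ := D7Out.Front.exists_swap hFr hIso
  -- the context
  have hcent : ∀ g : G, Commute g t ↔ g ∈ K ∨ t * g ∈ K := by
    intro g
    constructor
    · intro hg
      obtain ⟨r, hr, k, hk, rfl⟩ := exists_dec S.toStart0 inner hg
      rcases hR r hr with rfl | rfl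
      · left; rwa [one_mul]
      · right; rw [← mul_assoc, S.tt, one_mul]; exact hk
    · rintro (hg | hg)
      · exact S.Kt g hg
      · have h1 := S.Kt _ hg
        have h2 : t * (g * t) = t * (t * g) := by
          rw [← mul_assoc]; exact h1
        exact mul_left_cancel h2
  let C : Ctx G V :=
    { t := t
      tt := S.tt
      L := K
      S := D
      full := full
      finV := inferInstance
      cardV := h256
      cent := hcent
      tL := t_notMem S }
  obtain ⟨f, e, hfe⟩ := hcU z (hUK hz.1) fun u hu => (mem_centralizer_iff.1 hz.2 u hu).symm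
  have hTX : TX C (P : Subgroup C.L) = T := by
    ext x
    rw [mem_TX]
    constructor
    · rintro ⟨y, hy, hxy⟩
      have h1 : (y : G) ∈ T := hUT (memU.2 ⟨y.2, hy⟩)
      rcases hxy with rfl | rfl
      · exact h1
      · exact T.mul_mem (hRT S.tQ) h1
    · intro hx
      obtain ⟨r, hr, k, hk, rfl⟩ := hdec x hx
      obtain ⟨hkK, hkP⟩ := memU.1 hk
      refine ⟨⟨k, hkK⟩, hkP, ?_⟩
      rcases hR r hr with rfl | rfl
      · left; exact one_mul k
      · right; rfl
  refine ⟨C, P, v, w, f, e, n, hv, hvw, hw, hP1, hP2, ?_, ?_, ?_⟩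
  · by_contra hfe0
    push Not at hfe0
    apply hz1
    have h1 : (⟨z, hUK hz.1⟩ : K) = 1 := by
      rw [hfe, hfe0.1, hfe0.2, zero_smul, q_zero]
    exact congrArg Subtype.val h1
  · rw [hTX]
    exact (Front.FE.mem_normalizer_iff_map).1 hnN
  · have h1 : (((q D v (f • w) e : K)) : G) = z := congrArg Subtype.val hfe.symm
    change n * t * n⁻¹ = t * ((q D v (f • w) e : K) : G)
    rw [h1]
    exact hnt

end

/-! ### From the interface -/

section

universe u

variable {G : Type u} [Group G]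

/-- The reduction for `K = Sp_2n(2)`. -/
theorem exists_ctx_of_std (C₀ : Iface.Ctx G) {K : Subgroup G} (S : Iface.Std G K) (hcyc : Iface.Cyc K) {m : ℕ}
    (hm : 4 ≤ m) (e : K ≃* Model.X m) :
    ∃ C : Ctx G (Model.W m), ∃ (P : Sylow 2 C.L) (v w : Model.W m) (f e : ZMod 2) (n : G), v ≠ 0 ∧ C.S.B v w = 0 ∧
      w ∉ ln v ∧ (P : Subgroup C.L) ≤ PU C.S (ln v) ∧ (P : Subgroup C.L) ≤ PU C.S (pl v w) ∧ (f ≠ 0 ∨ e ≠ 0) ∧
      (TX C (P : Subgroup C.L)).map (MulAut.conj n).toMonoidHom = TX C (P : Subgroup C.L) ∧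
      n * C.t * n⁻¹ = C.t * (q C.S v (f • w) e : C.L) := by
  have := C₀.fin
  have hcen : center K = ⊥ := by
    have h1 := D4.Sp2.Inst.center_eq_bot (m := m) (by omega)
    rw [eq_bot_iff] at h1 ⊢
    intro x hx
    have h2 : e x ∈ center (Model.X m) := by
      rw [mem_center_iff] at hx ⊢
      intro g
      have h3 := congrArg e (hx (e.symm g))
      rwa [map_mul, map_mul, e.apply_symm_apply] at h3
    have h3 := h1 h2
    rw [mem_bot] at h3 ⊢
    exact e.injective (h3.trans (map_one e).symm)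
  obtain ⟨t, r₀, hst⟩ := Front.FE.exists_start C₀ S hcyc hcen
  refine exists_ctx (Front.FE.commutator_eq_top C₀) hst (mapData (Model.data m) e.symm) ?_ (Model.card_V_ge hm)
    (D4.Sp2.Inst.inner_of_equiv (by omega) e)
  intro f hf
  obtain ⟨x, hx⟩ := Model.full f hf
  refine ⟨e.symm x, ?_⟩
  change (Model.data m).ρ (e.symm.symm (e.symm x)) = f
  rw [MulEquiv.symm_apply_apply, hx]

theorem exists_ctx_of_psp (C₀ : Iface.Ctx G) {K : Subgroup G} (S : Iface.Std G K) (hcyc : Iface.Cyc K) {m : ℕ}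
    (hm : 4 ≤ m) {F : Type*} [Field F] [Fintype F] (hF : Fintype.card F = 2) (e : K ≃* PSp m F) :
    ∃ C : Ctx G (Model.W m), ∃ (P : Sylow 2 C.L) (v w : Model.W m) (f e : ZMod 2) (n : G), v ≠ 0 ∧ C.S.B v w = 0 ∧
      w ∉ ln v ∧ (P : Subgroup C.L) ≤ PU C.S (ln v) ∧ (P : Subgroup C.L) ≤ PU C.S (pl v w) ∧ (f ≠ 0 ∨ e ≠ 0) ∧
      (TX C (P : Subgroup C.L)).map (MulAut.conj n).toMonoidHom = TX C (P : Subgroup C.L) ∧
      n * C.t * n⁻¹ = C.t * (q C.S v (f • w) e : C.L) := by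
  obtain ⟨e'⟩ := D4.Sp2.Inst.exists_equiv (m := m) (by omega) hF
  exact exists_ctx_of_std C₀ S hcyc hm (e.trans e')

end

end Cfsg.Agent.OddHalf.SpTwoN.OfStd
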