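import Cfsg.Agent.OddHalf.SpTwoN.RowTwo
import Cfsg.Agent.OddHalf.SpN.OutEnd

/-!
# D7, row `K = Sp_2n(2^a)`

`node` : `Node @FamSp'` (`q ≥ 4`: `SpN.Row.main`; `q = 2`: `RowTwo.false_of_psp`).
-/

set_option autoImplicit false

namespace Cfsg.Agent.OddHalf.SpTwoN.RowSp

open Cfsg Cfsg.Agent.OddHalf.Iface Cfsg.Agent.OddHalf.D7.Cases

universe u

theorem two : SpN.Row.Two.{u} := by
  rintro G _ C K S hc F _ _ m hF hm ⟨e⟩
  exact RowTwo.false_of_psp C S hc hm hF e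

/-- **The row.** -/
theorem node : Node.{u} @FamSp'.{u} := SpN.Row.node_of SpN.Row.main two

end Cfsg.Agent.OddHalf.SpTwoN.RowSp
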