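import Cfsg.Agent.OddHalf.SpTwoN.Transl

/-!
# The elementary abelian transversal `F`

Every translation of `Ω` is induced by an involution; two involutions over different vectors `v, w` commute or have
commutator the short root element of `⟨v, w⟩`; commuting is transitive; hence the involutions commuting with two
commuting ones form an elementary abelian group `F` meeting every translation class in a coset of the alternating
elements of `A_W`.
-/

set_option autoImplicit false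

namespace Cfsg.Agent.OddHalf.SpTwoN.Section

open Subgroup
open Cfsg.Agent.StandardComponent.SpTwo
open Cfsg.Agent.OddHalf.SpTwoN.Words Cfsg.Agent.OddHalf.SpTwoN.Iso Cfsg.Agent.OddHalf.SpTwoN.Transl

variable {G V : Type*} [Group G] [AddCommGroup V] [Module (ZMod 2) V] {C : Ctx G V} {W : Submodule (ZMod 2) V}

/-! ### affine maps of `Ω` -/

variable (C W) in
/-- `h` acts on `Ω` as `x ↦ n x + v`. -/
def Aff (n : C.L) (v : V) (h : G) : Prop := ∀ x ∈ W, h * (C.t * C.b x) * h⁻¹ = C.t * C.b (C.S.ρ n x + v)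

variable (W) in
/-- `n` stabilises `W` -/
def St (n : C.L) : Prop := ∀ x, x ∈ W ↔ C.S.ρ n x ∈ W

theorem St.inv {n : C.L} (hn : St W n) : St W n⁻¹ := by
  intro x
  rw [hn (C.S.ρ n⁻¹ x), C.S.ρ_apply_inv]

theorem St.mul {n m : C.L} (hn : St W n) (hm : St W m) : St W (n * m) := by
  intro x
  rw [C.S.ρ_mul, ← hn, ← hm]

theorem Aff.mul {n m : C.L} {v w : V} {h k : G} (hm : St W m) (hw : w ∈ W) (h1 : Aff C W n v h)
    (h2 : Aff C W m w k) : Aff C W (n * m) (C.S.ρ n w + v) (h * k) := by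
  intro x hx
  have h3 := h1 (C.S.ρ m x + w) (add_mem ((hm x).1 hx) hw)
  calc h * k * (C.t * C.b x) * (h * k)⁻¹ = h * (k * (C.t * C.b x) * k⁻¹) * h⁻¹ := by group
    _ = h * (C.t * C.b (C.S.ρ m x + w)) * h⁻¹ := by rw [h2 x hx]
    _ = _ := by rw [h3, map_add, C.S.ρ_mul, add_assoc]

theorem Aff.inv_apply {n : C.L} {v : V} {h : G} (hn : St W n) (hv : v ∈ W) (h1 : Aff C W n v h) {x : V}
    (hx : x ∈ W) : h⁻¹ * (C.t * C.b x) * h = C.t * C.b (C.S.ρ n⁻¹ (x + v)) := by
  have h2 := h1 (C.S.ρ n⁻¹ (x + v)) ((hn.inv _).1 (add_mem hx hv))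
  rw [C.S.ρ_apply_inv, aab] at h2
  rw [← h2]
  group

theorem aff_L (n : C.L) : Aff C W n 0 (n : G) := by
  intro x _
  have h1 := Lt (C := C) n
  have h2 := C.b_conj n x
  rw [add_zero, ← h2]
  calc (n : G) * (C.t * C.b x) * (n : G)⁻¹ = (n * C.t) * C.b x * (n : G)⁻¹ := by group
    _ = _ := by rw [h1]; group

theorem aff_tr {v : V} {k : G} (hk : Tr C W v k) : Aff C W 1 v k := by
  intro x hx
  rw [C.S.ρ_one]
  exact hk x hx

/-- conjugation of a translation by an affine map -/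
theorem Aff.conj_tr {n : C.L} {v u : V} {h k : G} (hn : St W n) (hv : v ∈ W) (hu : u ∈ W)
    (h1 : Aff C W n v h) (hk : Tr C W u k) : Tr C W (C.S.ρ n u) (h * k * h⁻¹) := by
  intro x hx
  have h2 := h1.inv_apply hn hv hx
  have hx' : C.S.ρ n⁻¹ (x + v) ∈ W := (hn.inv _).1 (add_mem hx hv)
  have h3 := hk _ hx'
  have h4 := h1 _ (add_mem hx' hu)
  calc h * k * h⁻¹ * (C.t * C.b x) * (h * k * h⁻¹)⁻¹
      = h * (k * (h⁻¹ * (C.t * C.b x) * h) * k⁻¹) * h⁻¹ := by group
    _ = C.t * C.b (C.S.ρ n (C.S.ρ n⁻¹ (x + v) + u) + v) := by rw [h2, h3, h4]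
    _ = C.t * C.b (x + C.S.ρ n u) := by
        rw [map_add, C.S.ρ_apply_inv]
        congr 2
        have : x + v + C.S.ρ n u + v = x + C.S.ρ n u + (v + v) := by abel
        rw [this, aa, add_zero]

theorem Aff.conj_E {n : C.L} {v u : V} {h k : G} (hn : St W n) (hv : v ∈ W) (hu : u ∈ W)
    (h1 : Aff C W n v h) (hk : E C W u k) : E C W (C.S.ρ n u) (h * k * h⁻¹) := by
  refine ⟨h1.conj_tr hn hv hu hk.1, ?_⟩
  calc h * k * h⁻¹ * (h * k * h⁻¹) = h * (k * k) * h⁻¹ := by group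
    _ = 1 := by rw [hk.2]; group

section fin

variable [Finite V]

omit [Finite V] in
theorem coe_conj (g a : C.L) : (g : G) * (a : G) * (g : G)⁻¹ = ((g * a * g⁻¹ : C.L) : G) := rfl

/-- the product over a line is in `A_W` -/
theorem prod_mem (hW : Max C.S W) {v w : V} (hv : v ∈ W) (hw : w ∈ W) (hv0 : v ≠ 0) (hw0 : w ≠ 0) (hvw : v ≠ w)
    {y z x : G} (hy : E C W v y) (hz : E C W w z) (hx : E C W (v + w) x) :
    ∃ a : C.L, a ∈ AW C.S W ∧ y * z * x = a := by
  have h0 : Tr C W 0 (y * z * x) := by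
    have h1 := (hy.1.mul hw hz.1).mul (add_mem hv hw) hx.1
    rwa [aa] at h1
  obtain ⟨a, ha, h | h⟩ := h0.zero
  · exact ⟨a, ha, h⟩
  · exfalso
    have hvw' : v + w ≠ v := by
      intro h
      apply hw0
      have : v + w = v + 0 := by rw [h, add_zero]
      exact add_left_cancel this
    have hvw0 : v + w ≠ 0 := fun h => hvw (eq_of_add v w h)
    obtain ⟨c, hc, hc0, h1⟩ := comm_mem hW (add_mem hv hw) hv hvw0 hv0 hvw' hx hy
    obtain ⟨d, hd, hd0, h2⟩ := comm_mem hW hw hv hw0 hv0 (Ne.symm hvw) hz hy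
    have e1 : x * y = c * (y * x) := by
      rw [← h1]
      calc x * y = x * y * x * (y * y) * x := by rw [hy.2]; calc x * y = x * y * (x * x) := by rw [hx.2, mul_one]
            _ = x * y * x * 1 * x := by group
        _ = _ := by group
    have e2 : z * y = d * (y * z) := by
      rw [← h2]
      calc z * y = z * y * z * (y * y) * z := by rw [hy.2]; calc z * y = z * y * (z * z) := by rw [hz.2, mul_one]
            _ = z * y * z * 1 * z := by group
        _ = _ := by group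
    have e3 : z * (c : G) = c * z := hz.1.comm_alt hW hw hc hc0
    have e4 : y * (y * z * x) * y = c * d * (y * z * x) := by
      calc y * (y * z * x) * y = (y * y) * z * (x * y) := by group
        _ = z * (c * (y * x)) := by rw [hy.2, e1]; group
        _ = (z * c) * (y * x) := by group
        _ = c * (z * y) * x := by rw [e3]; group
        _ = _ := by rw [e2]; group
    rw [h] at e4
    have e5 : y * (C.t * (a : G)) * y = C.t * C.b v * (a * s C v (δ C.S a)) := by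
      rw [← hy.conj_t, ← hy.conj_a hW hv ha]
      calc y * (C.t * (a : G)) * y = y * C.t * (y * y) * a * y := by rw [hy.2]; group
        _ = _ := by group
    rw [e5] at e4
    have e6 : (c : G) * d * (C.t * a) = C.t * (c * d * a) := by
      have h5 := Lt (C := C) (c * d)
      change (c : G) * d * C.t = C.t * (c * d) at h5
      calc (c : G) * d * (C.t * a) = (c * d * C.t) * a := by group
        _ = _ := by rw [h5]; group
    rw [e6, mul_assoc] at e4
    have e7 := mul_left_cancel e4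
    have e8 : C.S.τ v * (a * sg C.S v (δ C.S a)) = c * d * a := Subtype.ext e7
    have hs := sA hW hv (hW.δ_mem ha)
    have e9 := congrArg (δ C.S) e8
    rw [hW.δ_mul (hW.τ_mem hv) (mul_mem ha hs), hW.δ_mul ha hs, δ_τ, δ_sg (hW.perp hv (hW.δ_mem ha)),
      hW.δ_mul (mul_mem hc hd) ha, hW.δ_mul hc hd, hc0, hd0, add_zero, zero_add, zero_add] at e9
    apply hv0
    have : v + δ C.S a = 0 + δ C.S a := by rw [e9, zero_add]
    exact add_right_cancel this

omit [Finite V] in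
theorem mem_span_pair_cases {v w d : V} (h : d ∈ Submodule.span (ZMod 2) {v, w}) :
    d = 0 ∨ d = v ∨ d = w ∨ d = v + w := by
  rw [Submodule.mem_span_pair] at h
  obtain ⟨a, b, rfl⟩ := h
  rcases z2 a with ha | ha <;> rcases z2 b with hb | hb <;> rw [ha, hb] <;> simp

/-- the diagonal of the product over a line is in the line -/
theorem δ_prod (hW : Max C.S W) (hr : 4 ≤ Module.finrank (ZMod 2) W) {v w : V} (hv : v ∈ W) (hw : w ∈ W)
    (hv0 : v ≠ 0) (hw0 : w ≠ 0) (hvw : v ≠ w) {y z x : G} (hy : E C W v y) (hz : E C W w z) (hx : E C W (v + w) x)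
    {a : C.L} (ha : a ∈ AW C.S W) (hk : y * z * x = a) :
    δ C.S a = 0 ∨ δ C.S a = v ∨ δ C.S a = w ∨ δ C.S a = v + w := by
  apply mem_span_pair_cases
  by_contra hd
  set U := Submodule.span (ZMod 2) ({v, w} : Set V) with hU
  have hvU : v ∈ U := Submodule.subset_span (by simp)
  have hwU : w ∈ U := Submodule.subset_span (by simp)
  obtain ⟨f, hf, hdf⟩ := exists_perp C.S U hd
  -- a vector of `W` perpendicular to `f` outside of `U`
  have hz' : ∃ c ∈ W, C.S.B c f = 0 ∧ c ∉ U := by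
    by_contra hn
    push Not at hn
    have hle : W ≤ Submodule.span (ZMod 2) ({v, w, δ C.S a} : Set V) := by
      intro c hc
      have hmono : U ≤ Submodule.span (ZMod 2) ({v, w, δ C.S a} : Set V) :=
        Submodule.span_mono (by intro x hx; simp only [Set.mem_insert_iff, Set.mem_singleton_iff] at hx ⊢; tauto)
      rcases z2 (C.S.B c f) with h | h
      · exact hmono (hn c hc h)
      · have h1 : c + δ C.S a ∈ U := by
          apply hn _ (add_mem hc (hW.δ_mem ha))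
          rw [map_add, LinearMap.add_apply, h, hdf]
          decide
        have h2 : c = (c + δ C.S a) + δ C.S a := (aab _ _).symm
        rw [h2]
        exact add_mem (hmono h1) (Submodule.subset_span (by simp))
    have h1 := Submodule.finrank_mono hle
    have h2 : Module.finrank (ZMod 2) (Submodule.span (ZMod 2) ({v, w, δ C.S a} : Set V)) ≤ 3 := by
      classical
      have := finrank_span_finset_le_card (R := ZMod 2) ({v, w, δ C.S a} : Finset V)
      rw [Finset.coe_insert, Finset.coe_insert, Finset.coe_singleton] at this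
      exact this.trans Finset.card_le_three
    omega
  obtain ⟨c, hc, hcf, hcU⟩ := hz'
  -- the element
  set g : C.L := sg C.S c f with hg
  have hgx : ∀ x ∈ W, C.S.ρ g x = x + C.S.B x f • c := by
    intro x hx
    rw [hg, ρ_sg C.S hcf, hW.perp hx hc, zero_smul, add_zero]
  have hgst : St W g := by
    have h1 : ∀ x ∈ W, C.S.ρ g x ∈ W := by
      intro x hx
      rw [hgx x hx]
      exact add_mem hx (Submodule.smul_mem _ _ hc)
    intro x
    refine ⟨h1 x, fun h => ?_⟩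
    have h2 := h1 _ h
    rwa [← C.S.ρ_mul, sg_sq C.S hcf, C.S.ρ_one] at h2
  have hgU : ∀ x ∈ U, C.S.ρ g x = x := by
    intro x hx
    have hUW : U ≤ W := Submodule.span_le.2 (by
      intro x hx
      simp only [Set.mem_insert_iff, Set.mem_singleton_iff] at hx
      rcases hx with rfl | rfl
      · exact hv
      · exact hw)
    rw [hgx x (hUW hx), hf x hx, zero_smul, add_zero]
  have e1 : E C W v (g * y * (g : G)⁻¹) := by
    have := (aff_L (W := W) g).conj_E hgst (zero_mem _) hv hy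
    rwa [hgU v hvU] at this
  have e2 : E C W w (g * z * (g : G)⁻¹) := by
    have := (aff_L (W := W) g).conj_E hgst (zero_mem _) hw hz
    rwa [hgU w hwU] at this
  have e3 : E C W (v + w) (g * x * (g : G)⁻¹) := by
    have := (aff_L (W := W) g).conj_E hgst (zero_mem _) (add_mem hv hw) hx
    rwa [hgU _ (add_mem hvU hwU)] at this
  have hvw0 : v + w ≠ 0 := fun h => hvw (eq_of_add v w h)
  obtain ⟨a1, ha1, h1, d1⟩ := hy.same hW hv hv0 e1
  obtain ⟨a2, ha2, h2, d2⟩ := hz.same hW hw hw0 e2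
  obtain ⟨a3, ha3, h3, d3⟩ := hx.same hW (add_mem hv hw) hvw0 e3
  have hs1 := sA hW hw (hW.δ_mem ha1)
  set c1 : C.L := a1 * sg C.S w (δ C.S a1) * a2 with hc1
  have hc1A : c1 ∈ AW C.S W := mul_mem (mul_mem ha1 hs1) ha2
  have hs2 := sA hW (add_mem hv hw) (hW.δ_mem hc1A)
  have e4 : (g : G) * a * (g : G)⁻¹ = a * (c1 * s C (v + w) (δ C.S c1)) * a3 := by
    have f1 := hz.conj_a hW hw ha1
    have f2 := hx.conj_a hW (add_mem hv hw) hc1A
    rw [← f2]
    calc (g : G) * a * (g : G)⁻¹ = (g * y * (g : G)⁻¹) * (g * z * (g : G)⁻¹) * (g * x * (g : G)⁻¹) := by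
          rw [← hk]; group
      _ = (y * a1) * (z * a2) * (x * a3) := by rw [h1, h2, h3]
      _ = y * (z * z) * a1 * z * a2 * (x * a3) := by rw [hz.2]; group
      _ = y * z * (z * a1 * z) * a2 * (x * a3) := by group
      _ = y * z * (a1 * s C w (δ C.S a1)) * a2 * (x * a3) := by rw [f1]
      _ = y * z * (x * x) * (a1 * s C w (δ C.S a1)) * a2 * (x * a3) := by rw [hx.2]; group
      _ = (y * z * x) * (x * (a1 * s C w (δ C.S a1) * a2) * x) * a3 := by group
      _ = _ := by rw [hk]; rfl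
  have e5 : g * a * g⁻¹ = a * (c1 * sg C.S (v + w) (δ C.S c1)) * a3 := Subtype.ext e4
  have e6 := congrArg (δ C.S) e5
  rw [δ_conj (hW.sq ha), hW.δ_mul (mul_mem ha (mul_mem hc1A hs2)) ha3, hW.δ_mul ha (mul_mem hc1A hs2),
    hW.δ_mul hc1A hs2, δ_sg (hW.perp (add_mem hv hw) (hW.δ_mem hc1A)), hc1, hW.δ_mul (mul_mem ha1 hs1) ha2,
    hW.δ_mul ha1 hs1, δ_sg (hW.perp hw (hW.δ_mem ha1)), hgx _ (hW.δ_mem ha), hdf, one_smul, add_zero,
    add_zero, add_assoc] at e6
  have e7 := add_left_cancel e6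
  apply hcU
  rw [e7]
  refine add_mem (add_mem ?_ ?_) ?_
  · rcases d1 with h | h <;> rw [h]
    · exact zero_mem _
    · exact hvU
  · rcases d2 with h | h <;> rw [h]
    · exact zero_mem _
    · exact hwU
  · rcases d3 with h | h <;> rw [h]
    · exact zero_mem _
    · exact add_mem hvU hwU

omit [Finite V] in
theorem s_add_left (hW : Max C.S W) {v w : V} (hv : v ∈ W) (hw : w ∈ W) : s C (v + w) v = s C v w := by
  rw [s_comm hW (add_mem hv hw) hv]
  exact congrArg Subtype.val (sg_add C.S (hW.perp hv hw))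

omit [Finite V] in
theorem s_add_right (hW : Max C.S W) {v w : V} (hv : v ∈ W) (hw : w ∈ W) : s C (v + w) w = s C v w := by
  rw [add_comm, s_add_left hW hw hv, s_comm hW hw hv]

/-- **commutators**: two involutions over different vectors commute or have commutator `s_{v,w}` -/
theorem comm_cases (hW : Max C.S W) (hr : 4 ≤ Module.finrank (ZMod 2) W)
    (hE : ∀ v ∈ W, v ≠ 0 → ∃ y, E C W v y) {v w : V} (hv : v ∈ W) (hw : w ∈ W)
    (hv0 : v ≠ 0) (hw0 : w ≠ 0) (hvw : v ≠ w) {y z : G} (hy : E C W v y) (hz : E C W w z) :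
    y * z * y * z = 1 ∨ y * z * y * z = s C v w := by
  have hvw0 : v + w ≠ 0 := fun h => hvw (eq_of_add v w h)
  obtain ⟨x, hx⟩ := hE (v + w) (add_mem hv hw) hvw0
  obtain ⟨a, ha, hk⟩ := prod_mem hW hv hw hv0 hw0 hvw hy hz hx
  have h1 : y * z = a * x := by
    rw [← hk, mul_assoc, hx.2, mul_one]
  have h2 : y * z * y * z = s C (v + w) (δ C.S a) := by
    have h3 := hx.conj_a hW (add_mem hv hw) ha
    calc y * z * y * z = (y * z) * (y * z) := by group
      _ = a * (x * a * x) := by rw [h1]; group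
      _ = (a * a) * s C (v + w) (δ C.S a) := by rw [h3]; group
      _ = _ := by rw [asq hW ha, one_mul]
  rw [h2]
  rcases δ_prod hW hr hv hw hv0 hw0 hvw hy hz hx ha hk with h | h | h | h <;> rw [h]
  · left; exact s_zero _
  · right; exact s_add_left hW hv hw
  · right; exact s_add_right hW hv hw
  · left; exact s_self _

theorem commute_of_sq {y z : G} (hy : y * y = 1) (hz : z * z = 1) (h : y * z * y * z = 1) : Commute y z := by
  change y * z = z * y
  calc y * z = y * z * y * z * z * y := by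
        calc y * z = y * z * (y * (z * z) * y) := by rw [hz, mul_one, hy, mul_one]
          _ = _ := by group
    _ = z * y := by rw [h, one_mul]

theorem sq_of_commute {y z : G} (hy : y * y = 1) (hz : z * z = 1) (h : Commute y z) : y * z * (y * z) = 1 := by
  have : y * z = z * y := h
  calc y * z * (y * z) = y * z * (z * y) := by rw [this]
    _ = y * (z * z) * y := by group
    _ = 1 := by rw [hz, mul_one, hy]

/-- commuting is transitive -/
theorem comm_trans (hW : Max C.S W) (hr : 4 ≤ Module.finrank (ZMod 2) W)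
    (hE : ∀ v ∈ W, v ≠ 0 → ∃ y, E C W v y) {v w x : V} (hv : v ∈ W) (hw : w ∈ W) (hx : x ∈ W)
    (hv0 : v ≠ 0) (hw0 : w ≠ 0) (hx0 : x ≠ 0) (hvw : v ≠ w) (hvx : v ≠ x) (hwx : w ≠ x) (hvwx : v + w ≠ x)
    {y z u : G} (hy : E C W v y) (hz : E C W w z) (hu : E C W x u) (h1 : Commute y z) (h2 : Commute y u) :
    Commute z u := by
  rcases comm_cases hW hr hE hw hx hw0 hx0 hwx hz hu with h | h
  · exact commute_of_sq hz.2 hu.2 h
  · exfalso
    have hvw0 : v + w ≠ 0 := fun h => hvw (eq_of_add v w h)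
    have e1 : E C W (v + w) (y * z) := ⟨hy.1.mul hw hz.1, sq_of_commute hy.2 hz.2 h1⟩
    have e2 : y * z * u * (y * z) * u = z * u * z * u := by
      have h2' : u * y = y * u := h2.eq.symm
      have h1' : z * y = y * z := h1.eq.symm
      calc y * z * u * (y * z) * u = y * z * (u * y) * z * u := by group
        _ = y * (z * y) * u * z * u := by rw [h2']; group
        _ = (y * y) * z * u * z * u := by rw [h1']; group
        _ = _ := by rw [hy.2, one_mul]
    rcases comm_cases hW hr hE (add_mem hv hw) hx hvw0 hx0 hvwx e1 hu with h3 | h3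
    · rw [e2, h] at h3
      rcases s_one hW hw hx h3 with h4 | h4 | h4
      · exact hw0 h4
      · exact hx0 h4
      · exact hwx h4
    · rw [e2, h, s_comm hW hw hx, s_comm hW (add_mem hv hw) hx, ← s_mul hW hx hv hw] at h3
      have h4 : s C x v = 1 := by
        have : 1 * s C x w = s C x v * s C x w := by rw [one_mul]; exact h3
        exact (mul_right_cancel this).symm
      rcases s_one hW hx hv h4 with h5 | h5 | h5
      · exact hx0 h5
      · exact hv0 h5
      · exact hvx h5.symm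

/-! ### the transversal -/

variable (C W) in
/-- two commuting involutions over different vectors -/
structure Frame (v0 v1 : V) (y0 y1 : G) : Prop where
  h0 : v0 ∈ W
  h1 : v1 ∈ W
  n0 : v0 ≠ 0
  n1 : v1 ≠ 0
  ne : v0 ≠ v1
  e0 : E C W v0 y0
  e1 : E C W v1 y1
  comm : Commute y0 y1

variable (C W) in
/-- an element of the transversal over `w` -/
def F (y0 y1 : G) (w : V) (z : G) : Prop := w ∈ W ∧ E C W w z ∧ Commute z y0 ∧ Commute z y1

/-- an element of `A_W` commuting with an involution -/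
theorem δ_of_commute (hW : Max C.S W) {v : V} (hv : v ∈ W) (hv0 : v ≠ 0) {y : G} (hy : E C W v y) {a : C.L}
    (ha : a ∈ AW C.S W) (h : Commute (a : G) y) : δ C.S a = 0 ∨ δ C.S a = v := by
  apply δ_cases hW hv hv0 ha
  have h1 := hy.conj_a hW hv ha
  have h2 : y * (a : G) * y = a := by rw [← h.eq, mul_assoc, hy.2, mul_one]
  rw [h2] at h1
  have : (a : G) * 1 = a * s C v (δ C.S a) := by rw [mul_one]; exact h1
  exact (mul_left_cancel this).symm

theorem commute_alt (hW : Max C.S W) {v : V} (hv : v ∈ W) {y : G} (hy : Tr C W v y) {a : C.L}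
    (ha : a ∈ AW C.S W) (h0 : δ C.S a = 0) : Commute (a : G) y := (hy.comm_alt hW hv ha h0).symm

variable {v0 v1 : V} {y0 y1 : G}

theorem Frame.zero (hW : Max C.S W) (f : Frame C W v0 v1 y0 y1) {z : G} (hz : F C W y0 y1 0 z) :
    ∃ a : C.L, a ∈ AW C.S W ∧ δ C.S a = 0 ∧ z = a := by
  obtain ⟨-, hz, hz0, hz1⟩ := hz
  obtain ⟨a, ha, h | h⟩ := hz.1.zero
  · refine ⟨a, ha, ?_, h⟩
    rw [h] at hz0 hz1
    rcases δ_of_commute hW f.h0 f.n0 f.e0 ha hz0 with h2 | h2
    · exact h2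
    · rcases δ_of_commute hW f.h1 f.n1 f.e1 ha hz1 with h3 | h3
      · exact h3
      · exact absurd (h2.symm.trans h3) f.ne
  · exfalso
    apply sq_yta hW f.h0 f.n0 f.e0 ha
    rw [← h]
    exact sq_of_commute f.e0.2 hz.2 hz0.symm

theorem Frame.same (hW : Max C.S W) (f : Frame C W v0 v1 y0 y1) {w : V} {z z' : G} (hz : F C W y0 y1 w z)
    (hz' : F C W y0 y1 w z') : ∃ a : C.L, a ∈ AW C.S W ∧ δ C.S a = 0 ∧ z' = z * a := by
  by_cases hw0 : w = 0
  · subst hw0
    obtain ⟨a, ha, ha0, rfl⟩ := f.zero hW hz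
    obtain ⟨c, hc, hc0, rfl⟩ := f.zero hW hz'
    refine ⟨a⁻¹ * c, mul_mem (inv_mem ha) hc, ?_, ?_⟩
    · rw [inv_of_sq (hW.sq ha), hW.δ_mul ha hc, ha0, hc0, add_zero]
    · rw [← Subgroup.coe_mul, mul_inv_cancel_left]
  · obtain ⟨a, ha, h1, h2⟩ := hz.2.1.same hW hz.1 hw0 hz'.2.1
    have h3 : (a : G) = z * z' := by rw [h1, ← mul_assoc, hz.2.1.2, one_mul]
    have c0 : Commute (a : G) y0 := by rw [h3]; exact hz.2.2.1.mul_left hz'.2.2.1
    have c1 : Commute (a : G) y1 := by rw [h3]; exact hz.2.2.2.mul_left hz'.2.2.2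
    refine ⟨a, ha, ?_, h1⟩
    rcases δ_of_commute hW f.h0 f.n0 f.e0 ha c0 with h2 | h2
    · exact h2
    · rcases δ_of_commute hW f.h1 f.n1 f.e1 ha c1 with h3 | h3
      · exact h3
      · exact absurd (h2.symm.trans h3) f.ne

omit [Finite V] in
theorem Frame.F0 (f : Frame C W v0 v1 y0 y1) : F C W y0 y1 v0 y0 := ⟨f.h0, f.e0, Commute.refl _, f.comm⟩

omit [Finite V] in
theorem Frame.F1 (f : Frame C W v0 v1 y0 y1) : F C W y0 y1 v1 y1 := ⟨f.h1, f.e1, f.comm.symm, Commute.refl _⟩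

/-- the transversal is commutative -/
theorem Frame.commute (hW : Max C.S W) (hr : 4 ≤ Module.finrank (ZMod 2) W)
    (hE : ∀ v ∈ W, v ≠ 0 → ∃ y, E C W v y) (f : Frame C W v0 v1 y0 y1) {w x : V} {z u : G}
    (hz : F C W y0 y1 w z) (hu : F C W y0 y1 x u) : Commute z u := by
  by_cases hw0 : w = 0
  · subst hw0
    obtain ⟨a, ha, ha0, rfl⟩ := f.zero hW hz
    exact commute_alt hW hu.1 hu.2.1.1 ha ha0
  by_cases hx0 : x = 0
  · subst hx0
    obtain ⟨a, ha, ha0, rfl⟩ := f.zero hW hu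
    exact (commute_alt hW hz.1 hz.2.1.1 ha ha0).symm
  by_cases hwx : w = x
  · subst hwx
    obtain ⟨a, ha, ha0, rfl⟩ := f.same hW hz hu
    exact (Commute.refl z).mul_right (commute_alt hW hz.1 hz.2.1.1 ha ha0).symm
  by_cases e1 : v0 = w
  · subst e1
    obtain ⟨a, ha, ha0, rfl⟩ := f.same hW f.F0 hz
    exact hu.2.2.1.symm.mul_left (commute_alt hW hu.1 hu.2.1.1 ha ha0)
  by_cases e2 : v1 = w
  · subst e2
    obtain ⟨a, ha, ha0, rfl⟩ := f.same hW f.F1 hz
    exact hu.2.2.2.symm.mul_left (commute_alt hW hu.1 hu.2.1.1 ha ha0)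
  by_cases e3 : v0 = x
  · subst e3
    obtain ⟨a, ha, ha0, rfl⟩ := f.same hW f.F0 hu
    exact hz.2.2.1.mul_right (commute_alt hW hz.1 hz.2.1.1 ha ha0).symm
  by_cases e4 : v1 = x
  · subst e4
    obtain ⟨a, ha, ha0, rfl⟩ := f.same hW f.F1 hu
    exact hz.2.2.2.mul_right (commute_alt hW hz.1 hz.2.1.1 ha ha0).symm
  by_cases e5 : v0 + w = x
  · have e6 : v1 + w ≠ x := fun h => f.ne (add_right_cancel (e5.trans h.symm))
    exact comm_trans hW hr hE f.h1 hz.1 hu.1 f.n1 hw0 hx0 e2 e4 hwx e6 f.e1 hz.2.1 hu.2.1 hz.2.2.2.symm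
      hu.2.2.2.symm
  · exact comm_trans hW hr hE f.h0 hz.1 hu.1 f.n0 hw0 hx0 e1 e3 hwx e5 f.e0 hz.2.1 hu.2.1 hz.2.2.1.symm
      hu.2.2.1.symm

theorem Frame.mul (hW : Max C.S W) (hr : 4 ≤ Module.finrank (ZMod 2) W)
    (hE : ∀ v ∈ W, v ≠ 0 → ∃ y, E C W v y) (f : Frame C W v0 v1 y0 y1) {w x : V} {z u : G}
    (hz : F C W y0 y1 w z) (hu : F C W y0 y1 x u) : F C W y0 y1 (w + x) (z * u) := by
  have h1 := f.commute hW hr hE hz hu
  exact ⟨add_mem hz.1 hu.1, ⟨hz.2.1.1.mul hu.1 hu.2.1.1, sq_of_commute hz.2.1.2 hu.2.1.2 h1⟩,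
    hz.2.2.1.mul_left hu.2.2.1, hz.2.2.2.mul_left hu.2.2.2⟩

theorem Frame.alt (hW : Max C.S W) (f : Frame C W v0 v1 y0 y1) {a : C.L} (ha : a ∈ AW C.S W)
    (h0 : δ C.S a = 0) : F C W y0 y1 0 (a : G) :=
  ⟨zero_mem _, ⟨tr_a hW ha, asq hW ha⟩, commute_alt hW f.h0 f.e0.1 ha h0, commute_alt hW f.h1 f.e1.1 ha h0⟩

/-- existence of an element of the transversal over each vector -/
theorem Frame.exists_mem (hW : Max C.S W) (hr : 4 ≤ Module.finrank (ZMod 2) W)
    (hE : ∀ v ∈ W, v ≠ 0 → ∃ y, E C W v y) (f : Frame C W v0 v1 y0 y1) {w : V} (hw : w ∈ W) :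
    ∃ z, F C W y0 y1 w z := by
  by_cases hw0 : w = 0
  · subst hw0
    refine ⟨((1 : C.L) : G), f.alt hW (one_mem _) δ_one⟩
  by_cases e0 : v0 = w
  · exact ⟨y0, e0 ▸ f.F0⟩
  by_cases e1 : v1 = w
  · exact ⟨y1, e1 ▸ f.F1⟩
  by_cases e2 : v0 + v1 = w
  · exact ⟨y0 * y1, e2 ▸ f.mul hW hr hE f.F0 f.F1⟩
  obtain ⟨z, hz⟩ := hE w hw hw0
  have key : ∃ z', E C W w z' ∧ Commute y0 z' := by
    rcases comm_cases hW hr hE f.h0 hw f.n0 hw0 e0 f.e0 hz with h | h
    · exact ⟨z, hz, commute_of_sq f.e0.2 hz.2 h⟩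
    · have hb := hW.τ_mem hw
      refine ⟨z * (C.S.τ w : C.L), hz.mul_a hW hw hb (Or.inr (δ_τ w)), ?_⟩
      apply commute_of_sq f.e0.2 (hz.mul_a hW hw hb (Or.inr (δ_τ w))).2
      have h1 := f.e0.conj_a hW f.h0 hb
      have h2 := hz.conj_a hW hw hb
      have h3 := hz.1.comm_alt hW hw (sA hW f.h0 hw) (δ_sg (hW.perp f.h0 hw))
      rw [δ_τ] at h1 h2
      rw [s_self, mul_one] at h2
      change z * s C v0 w = s C v0 w * z at h3
      have h4 : s C v0 w * (C.S.τ w : C.L) = (C.S.τ w : C.L) * s C v0 w := acomm hW (sA hW f.h0 hw) hb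
      have h5 : ((C.S.τ w : C.L) : G) * (C.S.τ w : C.L) = 1 := C.b_sq w
      calc y0 * (z * (C.S.τ w : C.L)) * y0 * (z * (C.S.τ w : C.L))
          = y0 * z * (y0 * y0) * (C.S.τ w : C.L) * y0 * (z * (C.S.τ w : C.L)) := by rw [f.e0.2]; group
        _ = y0 * z * y0 * (y0 * (C.S.τ w : C.L) * y0) * (z * (C.S.τ w : C.L)) := by group
        _ = y0 * z * y0 * ((C.S.τ w : C.L) * s C v0 w) * (z * (C.S.τ w : C.L)) := by rw [h1]
        _ = y0 * z * y0 * (z * z) * ((C.S.τ w : C.L) * s C v0 w) * z * (C.S.τ w : C.L) := by rw [hz.2]; group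
        _ = (y0 * z * y0 * z) * (z * (C.S.τ w : C.L)) * (s C v0 w * z) * (C.S.τ w : C.L) := by group
        _ = s C v0 w * (z * (C.S.τ w : C.L)) * (z * s C v0 w) * (C.S.τ w : C.L) := by rw [h, h3]
        _ = s C v0 w * (z * (C.S.τ w : C.L) * z) * (s C v0 w * (C.S.τ w : C.L)) := by group
        _ = s C v0 w * (C.S.τ w : C.L) * ((C.S.τ w : C.L) * s C v0 w) := by rw [h2, h4]
        _ = s C v0 w * ((C.S.τ w : C.L) * (C.S.τ w : C.L)) * s C v0 w := by group
        _ = 1 := by rw [h5, mul_one, s_sq hW f.h0 hw]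
  obtain ⟨z', hz', hc⟩ := key
  exact ⟨z', hw, hz', hc.symm, (comm_trans hW hr hE f.h0 f.h1 hw f.n0 f.n1 hw0 f.ne e0 e1 e2 f.e0 f.e1 hz'
    f.comm hc).symm⟩

/-- change of frame -/
theorem Frame.change (hW : Max C.S W) (hr : 4 ≤ Module.finrank (ZMod 2) W)
    (hE : ∀ v ∈ W, v ≠ 0 → ∃ y, E C W v y) (f : Frame C W v0 v1 y0 y1) {w0 w1 : V} {f0 f1 : G}
    (h0 : F C W y0 y1 w0 f0) (h1 : F C W y0 y1 w1 f1) (n0 : w0 ≠ 0) (n1 : w1 ≠ 0) (ne : w0 ≠ w1) :
    Frame C W w0 w1 f0 f1 ∧ ∀ u z, F C W f0 f1 u z ↔ F C W y0 y1 u z := by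
  have g : Frame C W w0 w1 f0 f1 := ⟨h0.1, h1.1, n0, n1, ne, h0.2.1, h1.2.1, f.commute hW hr hE h0 h1⟩
  have h2 : ∀ u z, F C W y0 y1 u z → F C W f0 f1 u z := fun u z hz =>
    ⟨hz.1, hz.2.1, f.commute hW hr hE hz h0, f.commute hW hr hE hz h1⟩
  refine ⟨g, fun u z => ⟨fun hz => ?_, h2 u z⟩⟩
  obtain ⟨z', hz'⟩ := f.exists_mem hW hr hE hz.1
  obtain ⟨a, ha, ha0, rfl⟩ := g.same hW (h2 u z' hz') hz
  have := f.mul hW hr hE hz' (f.alt hW ha ha0)
  rwa [add_zero] at this

/-- a frame exists -/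
theorem exists_frame (hW : Max C.S W) (hr : 4 ≤ Module.finrank (ZMod 2) W)
    (hE : ∀ v ∈ W, v ≠ 0 → ∃ y, E C W v y) : ∃ v0 v1 y0 y1, Frame C W v0 v1 y0 y1 := by
  have h1 : ∃ v0 ∈ W, v0 ≠ 0 := by
    by_contra hn
    push Not at hn
    have : W = ⊥ := by
      rw [eq_bot_iff]
      intro x hx
      exact hn x hx
    rw [this, finrank_bot] at hr
    omega
  obtain ⟨v0, hv0, hv00⟩ := h1
  have h2 : ∃ v1 ∈ W, v1 ∉ Submodule.span (ZMod 2) ({v0} : Set V) := by
    by_contra hn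
    push Not at hn
    have h3 := Submodule.finrank_mono (show W ≤ _ from hn)
    have h4 : Module.finrank (ZMod 2) (Submodule.span (ZMod 2) ({v0} : Set V)) ≤ 1 := by
      have := finrank_span_finset_le_card (R := ZMod 2) ({v0} : Finset V)
      rw [Finset.coe_singleton, Finset.card_singleton] at this
      exact this
    omega
  obtain ⟨v1, hv1, hv1s⟩ := h2
  have hne : v0 ≠ v1 := fun h => hv1s (h ▸ Submodule.mem_span_singleton_self v0)
  have hv10 : v1 ≠ 0 := fun h => hv1s (h ▸ zero_mem _)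
  obtain ⟨y0, h0⟩ := hE v0 hv0 hv00
  obtain ⟨z, hz⟩ := hE v1 hv1 hv10
  rcases comm_cases hW hr hE hv0 hv1 hv00 hv10 hne h0 hz with h | h
  · exact ⟨v0, v1, y0, z, hv0, hv1, hv00, hv10, hne, h0, hz, commute_of_sq h0.2 hz.2 h⟩
  · have hb := hW.τ_mem hv1
    have hz' := hz.mul_a hW hv1 hb (Or.inr (δ_τ v1))
    refine ⟨v0, v1, y0, _, hv0, hv1, hv00, hv10, hne, h0, hz', ?_⟩
    apply commute_of_sq h0.2 hz'.2
    -- `(y0 z b)² = (y0 z)² · s`
    have h5 : Tr C W (v0 + v1) (y0 * z) := h0.1.mul hv1 hz.1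
    have h6 := (h5.inv (add_mem hv0 hv1)).conj_a hW (add_mem hv0 hv1) hb
    rw [δ_τ, inv_inv, s_add_right hW hv0 hv1] at h6
    have h7 : ((C.S.τ v1 : C.L) : G) * (C.S.τ v1 : C.L) = 1 := C.b_sq v1
    have h8 : ((C.S.τ v1 : C.L) : G) * s C v0 v1 = s C v0 v1 * (C.S.τ v1 : C.L) :=
      (acomm hW (sA hW hv0 hv1) hb).symm
    calc y0 * (z * (C.S.τ v1 : C.L)) * y0 * (z * (C.S.τ v1 : C.L))
        = (y0 * z * y0 * z) * ((y0 * z)⁻¹ * (C.S.τ v1 : C.L) * (y0 * z)) * (C.S.τ v1 : C.L) := by group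
      _ = s C v0 v1 * (s C v0 v1 * (C.S.τ v1 : C.L)) * (C.S.τ v1 : C.L) := by rw [h6, h, h8]
      _ = (s C v0 v1 * s C v0 v1) * ((C.S.τ v1 : C.L) * (C.S.τ v1 : C.L)) := by group
      _ = 1 := by rw [h7, mul_one, s_sq hW hv0 hv1]

end fin

end Cfsg.Agent.OddHalf.SpTwoN.Section
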