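import Cfsg.Agent.OddHalf.SpTwoN.Defs

/-!
# The Siegel elements `q u x = b x * b (x + u)`, `x ∈ u^⊥`
-/

set_option autoImplicit false

namespace Cfsg.Agent.OddHalf.SpTwoN

open Subgroup
open Cfsg.Agent.StandardComponent.SpTwo

namespace Ctx

variable {G V : Type*} [Group G] [AddCommGroup V] [Module (ZMod 2) V] (C : Ctx G V)

theorem symm (u v : V) : C.S.B u v = C.S.B v u := C.S.symm u v

theorem B_add_left (u v w : V) : C.S.B (u + v) w = C.S.B u w + C.S.B v w := by
  rw [map_add, LinearMap.add_apply]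

theorem B_add_right (u v w : V) : C.S.B u (v + w) = C.S.B u v + C.S.B u w := map_add _ _ _

theorem B_smul_left (a : ZMod 2) (u v : V) : C.S.B (a • u) v = a * C.S.B u v := by
  rw [map_smul, LinearMap.smul_apply, smul_eq_mul]

theorem B_smul_right (a : ZMod 2) (u v : V) : C.S.B u (a • v) = a * C.S.B u v := by
  rw [map_smul, smul_eq_mul]

theorem B_zero_right (u : V) : C.S.B u 0 = 0 := map_zero _

theorem B_zero_left (u : V) : C.S.B 0 u = 0 := by rw [map_zero, LinearMap.zero_apply]

theorem B_self (u : V) : C.S.B u u = 0 := C.S.alt u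

theorem b_inv (u : V) : (C.b u)⁻¹ = C.b u := inv_eq_of_mul_eq_one_right (C.b_sq u)

theorem b_comm {u v : V} (h : C.S.B u v = 0) : C.b u * C.b v = C.b v * C.b u := C.b_commute_iff.2 h

theorem b_conj_b (v u : V) : C.b v * C.b u * C.b v = C.b (u + C.S.B u v • v) := by
  have h := C.b_conj (C.S.τ v) u
  rw [C.S.hτ] at h
  have e : ((C.S.τ v : C.L) : G)⁻¹ = C.b v := C.b_inv v
  rwa [e] at h

theorem b_ne_one {u : V} (hu : u ≠ 0) : C.b u ≠ 1 := fun h => hu (C.b_inj (h.trans C.b_zero.symm))

theorem comm_of_fix {k : C.L} {z : V} (h : C.S.ρ k z = z) : (k : G) * C.b z = C.b z * k := by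
  have := C.b_conj k z
  rw [h] at this
  exact mul_inv_eq_iff_eq_mul.1 this

theorem fix_of_comm {k : C.L} {z : V} (h : (k : G) * C.b z = C.b z * k) : C.S.ρ k z = z := by
  have := C.b_conj k z
  rw [h, mul_inv_cancel_right] at this
  exact (C.b_inj this).symm

/-- The Siegel element as an element of `L`. -/
def qL (u x : V) : C.L := C.S.τ x * C.S.τ (x + u)

/-- The Siegel element. -/
def q (u x : V) : G := C.b x * C.b (x + u)

theorem coe_qL (u x : V) : ((C.qL u x : C.L) : G) = C.q u x := rfl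

theorem q_mem (u x : V) : C.q u x ∈ C.L := (C.qL u x).2

theorem q_zero (u : V) : C.q u 0 = C.b u := by
  rw [q, C.b_zero, one_mul, zero_add]

theorem rho_q {u x : V} (hx : C.S.B u x = 0) (z : V) :
    C.S.ρ (C.qL u x) z = z + C.S.B z u • (x + u) + C.S.B z x • u := by
  rw [qL, C.S.ττ, C.B_add_right, C.B_add_left, C.B_self, hx, add_zero, mul_zero, add_zero]
  rcases z2 (C.S.B z x) with h1 | h1 <;> rcases z2 (C.S.B z u) with h2 | h2 <;> rw [h1, h2]
  · simp
  · simp
  · simp only [add_zero, one_smul, zero_smul]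
    rw [add_assoc, add_assoc x u x, add_comm u x, ← add_assoc x x u, aa, zero_add]
  · have : (1 + 1 : ZMod 2) = 0 := by decide
    rw [this]
    simp only [one_smul, zero_smul, add_zero]
    rw [add_assoc z, add_assoc x, aa, add_zero]

theorem q_conj (k : C.L) (u x : V) : (k : G) * C.q u x * (k : G)⁻¹ = C.q (C.S.ρ k u) (C.S.ρ k x) := by
  rw [q, q, ← C.S.ρ k |>.map_add, ← C.b_conj, ← C.b_conj]
  group

theorem q_comm {u x y : V} (hx : C.S.B u x = 0) (hy : C.S.B u y = 0) :
    C.q u x * C.q u y = C.q u y * C.q u x := by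
  have : C.qL u x * C.qL u y = C.qL u y * C.qL u x := by
    apply C.S.ext_iff
    intro z
    rw [C.S.ρ_mul, C.S.ρ_mul, C.rho_q hy, C.rho_q hx, C.rho_q hx, C.rho_q hy]
    have hx' : C.S.B x u = 0 := by rw [C.symm]; exact hx
    have hy' : C.S.B y u = 0 := by rw [C.symm]; exact hy
    simp only [C.B_add_left, C.B_smul_left, C.B_self, hx, hy, hx', hy', C.symm y x]
    module
  exact congrArg Subtype.val this

theorem q_sq {u x : V} (hx : C.S.B u x = 0) : C.q u x * C.q u x = 1 := by
  have h : C.b x * C.b (x + u) = C.b (x + u) * C.b x := C.b_comm (by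
    rw [C.B_add_right, C.B_self, C.symm, hx, add_zero])
  rw [q]
  calc C.b x * C.b (x + u) * (C.b x * C.b (x + u)) = C.b x * (C.b (x + u) * C.b x) * C.b (x + u) := by group
    _ = (C.b x * C.b x) * (C.b (x + u) * C.b (x + u)) := by rw [← h]; group
    _ = 1 := by rw [C.b_sq, C.b_sq, one_mul]

theorem q_inv {u x : V} (hx : C.S.B u x = 0) : (C.q u x)⁻¹ = C.q u x := inv_eq_of_mul_eq_one_right (C.q_sq hx)

theorem q_ne_one {u : V} (hu : u ≠ 0) (x : V) : C.q u x ≠ 1 := by
  intro h
  apply hu
  have h1 : C.b x = C.b (x + u) := by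
    rw [← C.b_inv (x + u)]
    exact eq_inv_of_mul_eq_one_left h
  have h2 := C.b_inj h1
  exact (left_eq_add.1 h2)

theorem exists_one {u : V} (hu : u ≠ 0) : ∃ f, C.S.B f u = 1 := by
  by_contra hn
  push Not at hn
  apply hu
  apply C.S.nondeg
  intro w
  rw [C.symm]
  rcases z2 (C.S.B w u) with h | h
  · exact h
  · exact absurd h (hn w)

theorem q_inj {u x y : V} (hu : u ≠ 0) (hx : C.S.B u x = 0) (hy : C.S.B u y = 0) (h : C.q u x = C.q u y) :
    y = x ∨ y = x + u := by
  have h' : C.qL u x = C.qL u y := Subtype.ext h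
  obtain ⟨f, hf⟩ := C.exists_one hu
  have h1 := C.rho_q hx f
  rw [h', C.rho_q hy, hf, one_smul, one_smul, add_assoc f, add_assoc f] at h1
  have h2 := add_left_cancel h1
  rcases z2 (C.S.B f x) with h3 | h3 <;> rcases z2 (C.S.B f y) with h4 | h4 <;> rw [h3, h4] at h2
  · left; simpa using h2
  · right
    simp only [one_smul, zero_smul, add_zero] at h2
    rw [add_assoc, aa, add_zero] at h2
    exact h2
  · right
    simp only [one_smul, zero_smul, add_zero] at h2
    rw [add_assoc x, aa, add_zero] at h2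
    rw [← h2, add_assoc, aa, add_zero]
  · left
    simpa using h2

/-- `q u x * q u y * q u (x + y) = 1` if `B x y = 1`. -/
theorem q_mul_one {u x y : V} (hx : C.S.B u x = 0) (hy : C.S.B u y = 0) (hxy : C.S.B x y = 1) :
    C.q u x * C.q u y = C.q u (x + y) := by
  have : C.qL u x * C.qL u y = C.qL u (x + y) := by
    apply C.S.ext_iff
    intro z
    have hx' : C.S.B x u = 0 := by rw [C.symm]; exact hx
    have hy' : C.S.B y u = 0 := by rw [C.symm]; exact hy
    have hxy' : C.S.B y x = 1 := by rw [C.symm]; exact hxy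
    rw [C.S.ρ_mul, C.rho_q hy, C.rho_q hx, C.rho_q (by rw [C.B_add_right, hx, hy, add_zero])]
    simp only [C.B_add_left, C.B_add_right, C.B_smul_left, C.B_self, hx, hy, hx', hy', hxy']
    rcases z2 (C.S.B z u) with h1 | h1 <;> rw [h1]
    · module
    · simp only [one_smul, add_zero, mul_zero, mul_one]
      rw [add_smul, one_smul, add_smul, show z + (y + u) + C.S.B z y • u + (x + u) + (C.S.B z x • u + u) =
        z + (x + y + u) + (C.S.B z x • u + C.S.B z y • u) + (u + u) by abel, aa, add_zero]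
  exact congrArg Subtype.val this

theorem q_mul_zero {u x y : V} (hx : C.S.B u x = 0) (hy : C.S.B u y = 0) (hxy : C.S.B x y = 0) :
    C.q u x * C.q u y = C.q u (x + y) * C.b u := by
  have : C.qL u x * C.qL u y = C.qL u (x + y) * C.S.τ u := by
    apply C.S.ext_iff
    intro z
    have hx' : C.S.B x u = 0 := by rw [C.symm]; exact hx
    have hy' : C.S.B y u = 0 := by rw [C.symm]; exact hy
    have hxy' : C.S.B y x = 0 := by rw [C.symm]; exact hxy
    rw [C.S.ρ_mul, C.rho_q hy, C.rho_q hx, C.S.ρ_mul, C.rho_q (by rw [C.B_add_right, hx, hy, add_zero]),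
      C.S.hτ]
    simp only [C.B_add_left, C.B_add_right, C.B_smul_left, C.B_self, hx, hy, hx', hy', hxy']
    rcases z2 (C.S.B z u) with h1 | h1 <;> rw [h1]
    · module
    · simp only [one_smul, add_zero, mul_zero]
      rw [add_smul, show z + (y + u) + C.S.B z y • u + (x + u) + C.S.B z x • u =
        z + u + (x + y + u) + (C.S.B z x • u + C.S.B z y • u) by abel]
  exact congrArg Subtype.val this

/-- An element of `L` fixing `u^⊥` pointwise. -/
theorem eq_one_or_b {u : V} (hu : u ≠ 0) {k : C.L} (h : ∀ z, C.S.B u z = 0 → C.S.ρ k z = z) :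
    (k : G) = 1 ∨ (k : G) = C.b u := by
  obtain ⟨f, hf⟩ := C.exists_one hu
  have hf' : C.S.B u f = 1 := by rw [C.symm]; exact hf
  -- `k f + f` is orthogonal to `u^⊥`
  have h1 : ∀ z, C.S.B u z = 0 → C.S.B z (C.S.ρ k f + f) = 0 := by
    intro z hz
    rw [C.B_add_right]
    have h2 := C.S.inv k z f
    rw [h z hz] at h2
    rw [h2, ← two_mul, show (2 : ZMod 2) = 0 from rfl, zero_mul]
  have h2 : C.S.ρ k f + f = 0 ∨ C.S.ρ k f + f = u := by
    rcases z2 (C.S.B (C.S.ρ k f + f) f) with h3 | h3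
    · left
      apply C.S.nondeg
      intro w
      rcases z2 (C.S.B u w) with h4 | h4
      · rw [C.symm]; exact h1 w h4
      · have h5 := h1 (w + f) (by rw [C.B_add_right, h4, hf']; decide)
        rw [C.symm, C.B_add_right, h3, add_zero] at h5
        exact h5
    · right
      apply eq_of_add
      apply C.S.nondeg
      intro w
      rcases z2 (C.S.B u w) with h4 | h4
      · rw [C.B_add_left, h4, add_zero, C.symm]
        exact h1 w h4
      · have h5 := h1 (w + f) (by rw [C.B_add_right, h4, hf']; decide)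
        rw [C.symm, C.B_add_right, h3] at h5
        rw [C.B_add_left, h4]
        exact h5
  have hdec : ∀ z, ∃ z', C.S.B u z' = 0 ∧ z = z' + C.S.B u z • f := by
    intro z
    refine ⟨z + C.S.B u z • f, ?_, ?_⟩
    · rw [C.B_add_right, C.B_smul_right, hf', mul_one, ← two_mul, show (2 : ZMod 2) = 0 from rfl, zero_mul]
    · rw [add_assoc, aa, add_zero]
  rcases h2 with h2 | h2
  · left
    have : k = 1 := by
      apply C.S.ext_iff
      intro z
      obtain ⟨z', hz', hz⟩ := hdec z
      rw [C.S.ρ_one]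
      conv_lhs => rw [hz]
      rw [map_add, map_smul, h z' hz', eq_of_add _ _ h2, ← hz]
    rw [this]; rfl
  · right
    have : k = C.S.τ u := by
      apply C.S.ext_iff
      intro z
      obtain ⟨z', hz', hz⟩ := hdec z
      have h6 : C.S.ρ k f = f + u := by
        rw [← h2, add_comm (C.S.ρ k f) f, ← add_assoc, aa, zero_add]
      conv_lhs => rw [hz]
      rw [map_add, map_smul, h z' hz', h6, smul_add, ← add_assoc, ← hz, C.S.hτ, C.symm z u]
    rw [this]; rfl

/-- Kernel of three functionals. -/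
theorem exists_perp (u v w : V) : ∃ e, C.S.B u e = 0 ∧ C.S.B v e = 0 ∧ C.S.B w e = 0 ∧ e ≠ 0 ∧ e ≠ u := by
  have := C.finV
  let f : V →ₗ[ZMod 2] (Fin 3 → ZMod 2) := LinearMap.pi ![C.S.B u, C.S.B v, C.S.B w]
  have h1 := SpData.card_ker_mul f
  have h2 : Nat.card (LinearMap.range f) ≤ 8 := by
    have h3 : Nat.card (LinearMap.range f) ≤ Nat.card (Fin 3 → ZMod 2) :=
      Nat.card_le_card_of_injective (fun x => (x : Fin 3 → ZMod 2)) Subtype.val_injective
    have h4 : Nat.card (Fin 3 → ZMod 2) = 8 := by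
      rw [Nat.card_eq_fintype_card]; simp
    omega
  have h5 : 3 ≤ Nat.card (LinearMap.ker f) := by
    by_contra hn
    have h6 : Nat.card (LinearMap.ker f) ≤ 2 := by omega
    have h7 := Nat.mul_le_mul h6 h2
    have := C.cardV
    omega
  by_contra hn
  push Not at hn
  have h8 : ∀ e ∈ LinearMap.ker f, e = 0 ∨ e = u := by
    intro e he
    have he' : ∀ i, f e i = 0 := fun i => by rw [LinearMap.mem_ker.1 he]; rfl
    by_cases h0 : e = 0
    · exact Or.inl h0
    · exact Or.inr (hn e (he' 0) (he' 1) (he' 2) h0)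
  have h9 : (LinearMap.ker f : Set V) ⊆ {0, u} := by
    intro e he
    exact h8 e he
  have h10 : Nat.card (LinearMap.ker f) ≤ 2 := by
    have h11 := Set.ncard_le_ncard h9 (Set.toFinite _)
    have h12 : ({0, u} : Set V).ncard ≤ 2 := Set.ncard_insert_le _ _ |>.trans (by rw [Set.ncard_singleton])
    rw [← Nat.card_coe_set_eq] at h11
    exact h11.trans h12
  omega

end Ctx

end Cfsg.Agent.OddHalf.SpTwoN
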