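import Cfsg.Agent.OddHalf.SpTwoN.Iso

/-!
# Translations of `Ω = {t b_x : x ∈ W}`

`W = W^⊥`; `Tr v k`: `k` maps `t b_x` to `t b_{x + v}` for all `x ∈ W`.  Involutions over different vectors commute
up to the short root element of their line.
-/

set_option autoImplicit false

namespace Cfsg.Agent.OddHalf.SpTwoN.Transl

open Subgroup
open Cfsg.Agent.StandardComponent.SpTwo
open Cfsg.Agent.OddHalf.SpTwoN.Words Cfsg.Agent.OddHalf.SpTwoN.Iso

variable {G V : Type*} [Group G] [AddCommGroup V] [Module (ZMod 2) V] (C : Ctx G V) (W : Submodule (ZMod 2) V)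

/-- `k` acts on `Ω = {t b_x}` as the translation by `v`. -/
def Tr (v : V) (k : G) : Prop := ∀ x ∈ W, k * (C.t * C.b x) * k⁻¹ = C.t * C.b (x + v)

/-- short root elements in `G` -/
def s (u v : V) : G := (sg C.S u v : C.L)

/-- involutions (or `1`) acting as the translation by `v` -/
def E (v : V) (k : G) : Prop := Tr C W v k ∧ k * k = 1

variable {C W}

theorem b_inv (u : V) : (C.b u)⁻¹ = C.b u := inv_eq_of_mul_eq_one_right (C.b_sq u)

theorem inv_of_sq {x : G} (h : x * x = 1) : x⁻¹ = x := inv_eq_of_mul_eq_one_right h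

theorem Lt (a : C.L) : (a : G) * C.t = C.t * a := (C.commute_of_mem a.2).eq

theorem Tr.mul {v w : V} {k l : G} (hw : w ∈ W) (hk : Tr C W v k) (hl : Tr C W w l) : Tr C W (v + w) (k * l) := by
  intro x hx
  have h1 := hk (x + w) (add_mem hx hw)
  calc k * l * (C.t * C.b x) * (k * l)⁻¹ = k * (l * (C.t * C.b x) * l⁻¹) * k⁻¹ := by group
    _ = k * (C.t * C.b (x + w)) * k⁻¹ := by rw [hl x hx]
    _ = C.t * C.b (x + w + v) := h1
    _ = C.t * C.b (x + (v + w)) := by rw [add_assoc, add_comm w v]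

theorem Tr.inv {v : V} {k : G} (hv : v ∈ W) (hk : Tr C W v k) : Tr C W v k⁻¹ := by
  intro x hx
  have h1 := hk (x + v) (add_mem hx hv)
  rw [aab] at h1
  rw [inv_inv, ← h1]
  group

theorem Tr.conj_t {v : V} {k : G} (hk : Tr C W v k) : k * C.t * k⁻¹ = C.t * C.b v := by
  have := hk 0 (zero_mem _)
  rwa [C.b_zero, mul_one, zero_add] at this

theorem b_comm_of (hW : Max C.S W) {u w : V} (hu : u ∈ W) (hw : w ∈ W) : C.b u * C.b w = C.b w * C.b u :=
  (C.b_commute_iff.2 (hW.perp hu hw)).eq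

theorem Tr.conj_b (hW : Max C.S W) {v : V} (hv : v ∈ W) {k : G} (hk : Tr C W v k) {x : V} (hx : x ∈ W) :
    k * C.b x * k⁻¹ = C.b x * s C v x := by
  have h1 := hk x hx
  have h2 := hk.conj_t
  have h3 : k * C.b x * k⁻¹ = (k * C.t * k⁻¹)⁻¹ * (k * (C.t * C.b x) * k⁻¹) := by group
  rw [h3, h1, h2, mul_inv_rev, C.t_inv, b_inv]
  have h4 : C.b v * C.t * (C.t * C.b (x + v)) = C.b v * C.b (x + v) := by
    calc C.b v * C.t * (C.t * C.b (x + v)) = C.b v * (C.t * C.t) * C.b (x + v) := by group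
      _ = _ := by rw [C.tt, mul_one]
  rw [h4]
  have h5 : s C v x = C.b v * C.b x * C.b (v + x) := rfl
  rw [h5]
  have h6 : C.b x * (C.b v * C.b x * C.b (v + x)) = C.b x * C.b v * C.b x * C.b (v + x) := by group
  rw [h6, b_comm_of hW hx hv, mul_assoc (C.b v), C.b_sq, mul_one, add_comm x v]

theorem s_mul (hW : Max C.S W) {v u w : V} (hv : v ∈ W) (hu : u ∈ W) (hw : w ∈ W) :
    s C v u * s C v w = s C v (u + w) :=
  congrArg Subtype.val (sg_mul_perp C.S (hW.perp hv hu) (hW.perp hv hw) (hW.perp hu hw))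

theorem s_sq (hW : Max C.S W) {v u : V} (hv : v ∈ W) (hu : u ∈ W) : s C v u * s C v u = 1 :=
  congrArg Subtype.val (sg_sq C.S (hW.perp hv hu))

theorem s_comm (hW : Max C.S W) {v u : V} (hv : v ∈ W) (hu : u ∈ W) : s C v u = s C u v :=
  congrArg Subtype.val (sg_comm C.S (hW.perp hv hu))

theorem s_zero (v : V) : s C v 0 = 1 := congrArg Subtype.val (sg_zero_right C.S v)

theorem s_self (v : V) : s C v v = 1 := congrArg Subtype.val (sg_self C.S v)

theorem s_one (hW : Max C.S W) {v u : V} (hv : v ∈ W) (hu : u ∈ W) (h : s C v u = 1) : v = 0 ∨ u = 0 ∨ v = u :=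
  sg_eq_one C.S (hW.perp hv hu) (Subtype.ext h)

theorem acomm (hW : Max C.S W) {a c : C.L} (ha : a ∈ AW C.S W) (hc : c ∈ AW C.S W) : (a : G) * c = c * a :=
  congrArg Subtype.val (hW.comm ha hc)

theorem asq (hW : Max C.S W) {a : C.L} (ha : a ∈ AW C.S W) : (a : G) * a = 1 :=
  congrArg Subtype.val (hW.sq ha)

theorem sA (hW : Max C.S W) {u w : V} (hu : u ∈ W) (hw : w ∈ W) : sg C.S u w ∈ AW C.S W := hW.sg_mem hu hw

/-- the action of a translation on `A_W` -/
theorem Tr.conj_a [Finite V] (hW : Max C.S W) {v : V} (hv : v ∈ W) {k : G} (hk : Tr C W v k) {a : C.L}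
    (ha : a ∈ AW C.S W) : k * (a : G) * k⁻¹ = a * s C v (δ C.S a) := by
  have h1 : a ∈ GW C.S W := by rw [← hW.AW_eq_GW]; exact ha
  have key : ∀ a : C.L, a ∈ GW C.S W → k * (a : G) * k⁻¹ = a * s C v (δ C.S a) := by
    intro a ha
    induction ha using Subgroup.closure_induction with
    | mem x hx =>
      obtain ⟨w, hw, rfl⟩ := hx
      rw [δ_τ]
      exact hk.conj_b hW hv hw
    | one =>
      rw [δ_one, s_zero]
      change k * 1 * k⁻¹ = 1 * 1
      group
    | mul x y hx hy ihx ihy =>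
      have hx' : x ∈ AW C.S W := by rw [hW.AW_eq_GW]; exact hx
      have hy' : y ∈ AW C.S W := by rw [hW.AW_eq_GW]; exact hy
      have h2 : k * ((x * y : C.L) : G) * k⁻¹ = (k * (x : G) * k⁻¹) * (k * (y : G) * k⁻¹) := by
        rw [Subgroup.coe_mul]; group
      rw [h2, ihx, ihy, hW.δ_mul hx' hy', ← s_mul hW hv (hW.δ_mem hx') (hW.δ_mem hy'), Subgroup.coe_mul]
      have h3 : s C v (δ C.S x) * (y : G) = y * s C v (δ C.S x) := acomm hW (sA hW hv (hW.δ_mem hx')) hy'
      calc (x : G) * s C v (δ C.S x) * (y * s C v (δ C.S y))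
          = x * (s C v (δ C.S x) * y) * s C v (δ C.S y) := by group
        _ = x * (y * s C v (δ C.S x)) * s C v (δ C.S y) := by rw [h3]
        _ = _ := by group
    | inv x hx ihx =>
      have hx' : x ∈ AW C.S W := by rw [hW.AW_eq_GW]; exact hx
      rw [inv_of_sq (hW.sq hx')]
      exact ihx
  exact key a h1

theorem tr_t : Tr C W 0 C.t := by
  intro x _
  rw [C.t_inv, add_zero]
  have := Lt (C := C) (C.S.τ x)
  change C.b x * C.t = C.t * C.b x at this
  rw [mul_assoc, mul_assoc, this, ← mul_assoc C.t C.t, C.tt, one_mul]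

theorem tr_a (hW : Max C.S W) {a : C.L} (ha : a ∈ AW C.S W) : Tr C W 0 (a : G) := by
  intro x hx
  have h1 := Lt (C := C) a
  have h2 : (a : G) * C.b x = C.b x * a := (acomm hW (hW.τ_mem hx) ha).symm
  rw [add_zero]
  calc (a : G) * (C.t * C.b x) * (a : G)⁻¹ = (a * C.t) * C.b x * (a : G)⁻¹ := by group
    _ = C.t * (a * C.b x) * (a : G)⁻¹ := by rw [h1]; group
    _ = C.t * (C.b x * a) * (a : G)⁻¹ := by rw [h2]
    _ = _ := by group

/-- the kernel of the action on `Ω` is `⟨t⟩ × A` -/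
theorem Tr.zero {k : G} (hk : Tr C W 0 k) : ∃ a : C.L, a ∈ AW C.S W ∧ (k = a ∨ k = C.t * a) := by
  have h1 : k * C.t * k⁻¹ = C.t := by
    have := hk.conj_t
    rwa [C.b_zero, mul_one] at this
  have h2 : Commute k C.t := by
    change k * C.t = C.t * k
    rw [← mul_inv_eq_iff_eq_mul]
    exact h1
  have h3 : ∀ x ∈ W, k * C.b x * k⁻¹ = C.b x := by
    intro x hx
    have h4 := hk x hx
    rw [add_zero] at h4
    have h5 : k * (C.t * C.b x) * k⁻¹ = (k * C.t * k⁻¹) * (k * C.b x * k⁻¹) := by group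
    rw [h5, h1] at h4
    exact mul_left_cancel h4
  rcases (C.cent k).1 h2 with h | h
  · refine ⟨⟨k, h⟩, mem_AW_of_commute fun w hw => ?_, Or.inl rfl⟩
    apply Subtype.ext
    change C.b w * k = k * C.b w
    rw [eq_comm, ← mul_inv_eq_iff_eq_mul]
    exact h3 w hw
  · refine ⟨⟨C.t * k, h⟩, mem_AW_of_commute fun w hw => ?_, Or.inr ?_⟩
    · apply Subtype.ext
      change C.b w * (C.t * k) = C.t * k * C.b w
      have h4 : k * C.b w = C.b w * k := by
        rw [← mul_inv_eq_iff_eq_mul]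
        exact h3 w hw
      have h5 : C.b w * C.t = C.t * C.b w := Lt (C.S.τ w)
      rw [mul_assoc, h4, ← mul_assoc, h5, mul_assoc]
    · change k = C.t * (C.t * k)
      rw [← mul_assoc, C.tt, one_mul]

theorem E.inv {v : V} {y : G} (hy : E C W v y) : y⁻¹ = y := inv_of_sq hy.2

theorem E.conj_t {v : V} {y : G} (hy : E C W v y) : y * C.t * y = C.t * C.b v := by
  have := hy.1.conj_t
  rwa [hy.inv] at this

theorem E.t_conj {v : V} {y : G} (hy : E C W v y) : C.t * y * C.t = y * C.b v := by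
  have h1 := hy.conj_t
  calc C.t * y * C.t = (y * y) * C.t * y * C.t := by rw [hy.2, one_mul]
    _ = y * (y * C.t * y) * C.t := by group
    _ = y * (C.t * C.b v) * C.t := by rw [h1]
    _ = y * (C.t * (C.b v * C.t)) := by group
    _ = y * (C.t * (C.t * C.b v)) := by rw [show C.b v * C.t = C.t * C.b v from Lt (C.S.τ v)]
    _ = y * C.b v := by rw [← mul_assoc C.t C.t, C.tt, one_mul]

theorem E.conj_a [Finite V] (hW : Max C.S W) {v : V} (hv : v ∈ W) {y : G} (hy : E C W v y) {a : C.L}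
    (ha : a ∈ AW C.S W) : y * (a : G) * y = a * s C v (δ C.S a) := by
  have := hy.1.conj_a hW hv ha
  rwa [hy.inv] at this

theorem sq_ya [Finite V] (hW : Max C.S W) {v : V} (hv : v ∈ W) {y : G} (hy : E C W v y) {a : C.L}
    (ha : a ∈ AW C.S W) : (y * (a : G)) * (y * a) = s C v (δ C.S a) := by
  have h1 := hy.conj_a hW hv ha
  have h2 := acomm hW ha (sA hW hv (hW.δ_mem ha))
  calc (y * (a : G)) * (y * a) = (y * a * y) * a := by group
    _ = (a * s C v (δ C.S a)) * a := by rw [h1]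
    _ = (s C v (δ C.S a) * a) * a := by
        change (a : G) * s C v (δ C.S a) = s C v (δ C.S a) * a at h2
        rw [h2]
    _ = s C v (δ C.S a) * (a * a) := by group
    _ = _ := by rw [asq hW ha, mul_one]

theorem sq_yta [Finite V] (hW : Max C.S W) {v : V} (hv : v ∈ W) (hv0 : v ≠ 0) {y : G} (hy : E C W v y) {a : C.L}
    (ha : a ∈ AW C.S W) : (y * (C.t * (a : G))) * (y * (C.t * a)) ≠ 1 := by
  intro h
  have h1 := hy.conj_a hW hv ha
  have h2 := hy.conj_t
  have h3 := acomm hW ha (sA hW hv (hW.δ_mem ha))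
  change (a : G) * s C v (δ C.S a) = s C v (δ C.S a) * a at h3
  have h4 := Lt (C := C) (sg C.S v (δ C.S a))
  change s C v (δ C.S a) * C.t = C.t * s C v (δ C.S a) at h4
  have h5 := Lt (C := C) a
  have hbt : C.b v * C.t = C.t * C.b v := Lt (C.S.τ v)
  have h6 : (y * (C.t * (a : G))) * (y * (C.t * a)) = C.b v * s C v (δ C.S a) := by
    calc (y * (C.t * (a : G))) * (y * (C.t * a)) = y * C.t * (y * y) * a * y * C.t * a := by rw [hy.2]; group
      _ = (y * C.t * y) * (y * a * y) * (C.t * a) := by group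
      _ = (C.t * C.b v) * (a * s C v (δ C.S a)) * (C.t * a) := by rw [h1, h2]
      _ = (C.t * C.b v) * (s C v (δ C.S a) * a) * (C.t * a) := by rw [h3]
      _ = (C.t * C.b v) * s C v (δ C.S a) * (a * C.t) * a := by group
      _ = (C.t * C.b v) * s C v (δ C.S a) * (C.t * a) * a := by rw [h5]
      _ = (C.t * C.b v) * (s C v (δ C.S a) * C.t) * (a * a) := by group
      _ = (C.t * C.b v) * (C.t * s C v (δ C.S a)) := by rw [asq hW ha, mul_one, h4]
      _ = C.t * (C.b v * C.t) * s C v (δ C.S a) := by group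
      _ = C.t * (C.t * C.b v) * s C v (δ C.S a) := by rw [hbt]
      _ = (C.t * C.t) * C.b v * s C v (δ C.S a) := by group
      _ = _ := by rw [C.tt, one_mul]
  rw [h6] at h
  have h7 : C.b v = s C v (δ C.S a) := by
    have h8 := eq_inv_of_mul_eq_one_left h
    rw [h8, inv_of_sq (s_sq hW hv (hW.δ_mem ha))]
  exact τ_ne_sg C.S hv0 (hW.perp hv (hW.δ_mem ha)) (Subtype.ext h7)

/-- `1` is in `A` -/
theorem δ_cases [Finite V] (hW : Max C.S W) {v : V} (hv : v ∈ W) (hv0 : v ≠ 0) {a : C.L} (ha : a ∈ AW C.S W)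
    (h : s C v (δ C.S a) = 1) : δ C.S a = 0 ∨ δ C.S a = v := by
  rcases s_one hW hv (hW.δ_mem ha) h with h1 | h1 | h1
  · exact absurd h1 hv0
  · exact Or.inl h1
  · exact Or.inr h1.symm

/-- two involutions over the same vector -/
theorem E.same [Finite V] (hW : Max C.S W) {v : V} (hv : v ∈ W) (hv0 : v ≠ 0) {y y' : G} (hy : E C W v y)
    (hy' : E C W v y') : ∃ a : C.L, a ∈ AW C.S W ∧ y' = y * a ∧ (δ C.S a = 0 ∨ δ C.S a = v) := by
  have h1 : Tr C W 0 (y * y') := by
    have := hy.1.mul hv hy'.1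
    rwa [aa] at this
  obtain ⟨a, ha, h | h⟩ := h1.zero
  · have h2 : y' = y * a := by rw [← h, ← mul_assoc, hy.2, one_mul]
    refine ⟨a, ha, h2, δ_cases hW hv hv0 ha ?_⟩
    rw [← sq_ya hW hv hy ha, ← h2, hy'.2]
  · exfalso
    have h2 : y' = y * (C.t * a) := by rw [← h, ← mul_assoc, hy.2, one_mul]
    apply sq_yta hW hv hv0 hy ha
    rw [← h2, hy'.2]

theorem E.mul_a [Finite V] (hW : Max C.S W) {v : V} (hv : v ∈ W) {y : G} (hy : E C W v y) {a : C.L}
    (ha : a ∈ AW C.S W) (h : δ C.S a = 0 ∨ δ C.S a = v) : E C W v (y * a) := by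
  refine ⟨?_, ?_⟩
  · have := hy.1.mul (zero_mem W) (tr_a hW ha)
    rwa [add_zero] at this
  · rw [sq_ya hW hv hy ha]
    rcases h with h | h
    · rw [h, s_zero]
    · rw [h, s_self]

/-- commutator of two involutions over different vectors, first form -/
theorem comm_mem [Finite V] (hW : Max C.S W) {v w : V} (hv : v ∈ W) (hw : w ∈ W) (hv0 : v ≠ 0) (hw0 : w ≠ 0)
    (hvw : v ≠ w) {y z : G} (hy : E C W v y) (hz : E C W w z) :
    ∃ a : C.L, a ∈ AW C.S W ∧ δ C.S a = 0 ∧ y * z * y * z = a := by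
  have h0 : Tr C W 0 (y * z * y * z) := by
    have h1 := hy.1.mul hw hz.1
    have h2 := h1.mul hv hy.1
    have h3 := h2.mul hw hz.1
    have h4 : v + w + v + w = 0 := by
      have : v + w + v + w = (v + w) + (v + w) := by abel
      rw [this, aa]
    rwa [h4] at h3
  obtain ⟨a, ha, h | h⟩ := h0.zero
  · refine ⟨a, ha, ?_, h⟩
    have e1 : z * y * z = y * a := by
      rw [← h]
      calc z * y * z = (y * y) * z * y * z := by rw [hy.2, one_mul]
        _ = _ := by group
    have e2 : (z * y * z) * (z * y * z) = 1 := by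
      calc (z * y * z) * (z * y * z) = z * y * (z * z) * y * z := by group
        _ = z * (y * y) * z := by rw [hz.2]; group
        _ = 1 := by rw [hy.2, mul_one, hz.2]
    have e3 : s C v (δ C.S a) = 1 := by rw [← sq_ya hW hv hy ha, ← e1, e2]
    have f1 : y * z * y = a * z := by
      rw [← h]
      calc y * z * y = y * z * y * (z * z) := by rw [hz.2, mul_one]
        _ = _ := by group
    have f2 : (y * z * y) * (y * z * y) = 1 := by
      calc (y * z * y) * (y * z * y) = y * z * (y * y) * z * y := by group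
        _ = y * (z * z) * y := by rw [hy.2]; group
        _ = 1 := by rw [hz.2, mul_one, hy.2]
    have f3 : (z * (a : G)) * (z * a) = 1 := by
      calc (z * (a : G)) * (z * a) = z * ((a * z) * (a * z)) * z := by
            calc (z * (a : G)) * (z * a) = z * (a * z) * (a * (z * z)) := by rw [hz.2]; group
              _ = _ := by group
        _ = z * ((y * z * y) * (y * z * y)) * z := by rw [f1]
        _ = 1 := by rw [f2, mul_one, hz.2]
    rw [sq_ya hW hw hz ha] at f3
    rcases δ_cases hW hv hv0 ha e3 with h1 | h1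
    · exact h1
    · rcases δ_cases hW hw hw0 ha f3 with h2 | h2
      · exact h2
      · exact absurd (h1.symm.trans h2) hvw
  · exfalso
    have e1 : z * y * z = y * (C.t * a) := by
      rw [← h]
      calc z * y * z = (y * y) * z * y * z := by rw [hy.2, one_mul]
        _ = _ := by group
    apply sq_yta hW hv hv0 hy ha
    rw [← e1]
    calc (z * y * z) * (z * y * z) = z * y * (z * z) * y * z := by group
      _ = z * (y * y) * z := by rw [hz.2]; group
      _ = 1 := by rw [hy.2, mul_one, hz.2]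

/-- elements with diagonal `0` are central -/
theorem Tr.comm_alt [Finite V] (hW : Max C.S W) {v : V} (hv : v ∈ W) {k : G} (hk : Tr C W v k) {a : C.L}
    (ha : a ∈ AW C.S W) (h0 : δ C.S a = 0) : k * (a : G) = a * k := by
  have := hk.conj_a hW hv ha
  rw [h0, s_zero, mul_one] at this
  rw [← mul_inv_eq_iff_eq_mul]
  exact this

end Cfsg.Agent.OddHalf.SpTwoN.Transl
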